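import Cfsg.Agent.H3.MaxCl

/-! Soft subgroups of `p`-groups (Héthelyi). -/

set_option autoImplicit false
set_option linter.style.haveILetI false

namespace Cfsg.Agent.H3
open Cfsg Subgroup Cfsg.Agent.FT
universe u

theorem relIndex_cen_le_sq {G : Type*} [Group G] [Finite G] {p : ℕ} {M K : Subgroup G} (hp : p.Prime) (hM : PGrp p M)
    (hK : K ⊴ M) (h : #K ≤ p ^ 2) : C(K).relIndex M ≤ p := by
  haveI := Fact.mk hp
  haveI := hK.normal
  have := index_centralizer_le_of_card_le_sq hM.isPGroup (K.subgroupOf M) (by rwa [card_so hK.le])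
  rwa [← so_cen hK.le] at this

theorem clsLE_quo_center {G : Type*} [Group G] {K : Subgroup G} {n : ℕ} : ClsLE n (K /ₛ Z(K)) ↔ ClsLE (n + 1) K := by
  rw [ClsLE, ClsLE, ← lcs_quo (center_nml K).nrm, quo_eq_bot ((lowerCentralSeries_le_self K n).trans (center_nml K).nrm),
    Subgroup.lowerCentralSeries_succ, comm_eq_bot, le_inf_iff, and_iff_right (lowerCentralSeries_le_self K n)]

theorem soft {p : ℕ} (hp : p.Prime) (i : ℕ) : ∀ {G : Type u} [Group G] [Finite G] {P A K : Subgroup G}, PGrp p P →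
    Ab A → P ⊓ C(A) ≤ A → A.relIndex (P ⊓ N(A)) = p → A ≤ K → K < P → A.relIndex K = p ^ i →
    K.relIndex (P ⊓ N(K)) = p ∧ ClsLE (i + 1) K ∧ ¬ ClsLE i K := by
  induction i using Nat.strong_induction_on with | _ i ih => ?_
  intro G _ _ P A K hP hA hC hN hAK hK hi
  rcases i with _ | i
  · obtain rfl : A = K := hAK.antisymm (relIndex_eq_one.1 hi)
    refine ⟨hN, clsLE_one.2 hA, fun e => hK.not_ge ?_⟩
    obtain rfl : A = ⊥ := e
    rwa [cen_bot, inf_top_eq] at hC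
  have ne : ¬ K ≤ A := fun e => absurd (hi.symm.trans (relIndex_eq_one.2 e)) (Nat.one_lt_pow (by omega) hp.one_lt).ne'
  have hK' := hP.mono hK.le
  obtain ⟨M, hM⟩ : ∃ M, M = P ⊓ N(K) := ⟨_, rfl⟩
  have KM : K < M := hM ▸ hP.nil.lt_subnorm hK
  have MP : M ≤ P := hM ▸ inf_le_left
  have MK : M ≤ N(K) := hM ▸ inf_le_right
  have tow : ∀ B, A ≤ B → B < K → B.relIndex (P ⊓ N(B)) = p ∧ P ⊓ N(B) ≤ K := fun B h1 h2 => by
    obtain ⟨a, ha⟩ := hK'.card
    obtain ⟨b, hb⟩ := (hK'.mono h2.le).card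
    obtain ⟨c, hc⟩ := (hK'.mono hAK).card
    have e1 := relIndex_eq_pow hp h1 hb hc
    have e2 := Nat.pow_right_injective hp.two_le ((relIndex_eq_pow hp hAK ha hc).2.symm.trans hi)
    have e3 := (Nat.pow_lt_pow_iff_right hp.one_lt).1 (ha ▸ hb ▸ card_lt h2)
    have e := (ih (b - c) (by omega) hP hA hC hN h1 (h2.trans hK) e1.2).1
    have l := hK'.nil.lt_subnorm h2
    exact ⟨e, ((eq_or_eq_of_prime_relIndex (e.symm ▸ hp) l.le (inf_le_inf_right _ hK.le)).resolve_left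
      l.ne').ge.trans inf_le_left⟩
  have st : ∀ B, A ≤ B → B ≤ K → M ≤ N(B) → B = K := fun B h1 h2 h3 => by_contra fun e =>
    KM.not_ge ((le_inf MP h3).trans (tow B h1 (lt_of_le_of_ne h2 e)).2)
  obtain ⟨N1, hN1⟩ : ∃ N1, N1 = P ⊓ N(A) := ⟨_, rfl⟩
  have NK : N1 ≤ K := hN1 ▸ (tow A le_rfl (lt_of_le_not_ge hAK ne)).2
  have AN : A ≤ N1 := hN1 ▸ le_inf (hAK.trans hK.le) (le_nrm A)
  rw [← hN1] at hN
  have ZA : Z(K) ≤ A := (inf_le_inf hK.le (cen_anti hAK)).trans hC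
  have ZM : M ≤ N(Z(K)) := norms_center MK
  have nZ : ∀ B, A ≤ B → B ≤ M → Z(K) ⊴ B := fun B h1 h2 => ⟨ZA.trans h1, h2.trans ZM⟩
  have hM' := (hP.mono MP).quo Z(K)
  have KM' : K /ₛ Z(K) ⊴ M /ₛ Z(K) := Nml.quo ⟨KM.le, MK⟩ _
  have ab : Ab (N1 /ₛ Z(K)) := by
    have l : qpre(Z(K), Z(K /ₛ Z(K))) ≤ K := qpre_le_of_le_quo inf_le_left inf_le_left
    have c : ⁅qpre(Z(K), Z(K /ₛ Z(K))), K⁆ ≤ Z(K) :=
      ((le_qpre_cen (center_nml K).nrm).1 (qpre_mono inf_le_right)).2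
    have n : ¬ qpre(Z(K), Z(K /ₛ Z(K))) ≤ A := fun e => by
      have := st (K ⊓ C(qpre(Z(K), Z(K /ₛ Z(K))))) (le_inf hAK (hA.cents e le_rfl)) inf_le_left
        (normsI MK (norms_cent (norms_qpre ZM KM'.center.nrm)))
      exact (hK'.quo _).center_ne_bot (quo_ne_bot (center_nml K).nrm fun k => ne (k.trans ZA))
        (by rw [← quo_qpre Z(K /ₛ Z(K)), quo_eq_bot_of_le (le_inf l (centsC (inf_eq_left.1 this)))])
    have := (eq_or_eq_of_prime_relIndex (hN.symm ▸ hp) (K := A ⊔ qpre(Z(K), Z(K /ₛ Z(K)))) le_sup_left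
      (sup_le AN (hN1 ▸ le_inf (l.trans hK.le) (norms_of_comm_le (by
        rw [commutator_comm]; exact ((commSS le_rfl hAK).trans c).trans ZA))))).resolve_left fun e => n (le_sup_right.trans e.le)
    rw [← this, quo_sup (hAK.trans (center_nml K).nrm) (qpre_le _), quo_qpre]
    exact (hA.quo _).sup (ab_center _) (inf_le_right.trans (cen_anti (quo_mono _ hAK)))
  have sc : (M /ₛ Z(K)) ⊓ C(N1 /ₛ Z(K)) ≤ N1 /ₛ Z(K) := by
    refine (inf_le_inf_left _ ((cen_anti (quo_mono _ AN)).trans (cen_le_nrm _))).trans ?_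
    rw [← quo_subnorm M (nZ A le_rfl (hAK.trans KM.le)), hN1]
    exact quo_mono _ (inf_le_inf_right _ MP)
  have e : N1.relIndex K = p ^ i := by
    have := relIndex_mul AN NK
    rw [hN, hi, pow_succ'] at this
    exact Nat.eq_of_mul_eq_mul_left hp.pos this
  rw [← hM, ← clsLE_quo_center (n := i + 1), ← clsLE_quo_center (n := i) (K := K), ← relIndex_quo_of_nml (center_nml K) ZM]
  rcases NK.eq_or_lt with rfl | NK'
  · obtain rfl : i = 0 := by
      rw [relIndex_self] at e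
      exact by_contra fun k => absurd e (Nat.one_lt_pow k hp.one_lt).ne
    refine ⟨?_, clsLE_one.2 ab, quo_ne_bot (center_nml _).nrm fun k => ne (k.trans ZA)⟩
    obtain ⟨x, hx, hxA⟩ : ∃ x ∈ M, cj x A ≠ A := by
      by_contra! k
      exact ne (st A le_rfl hAK fun x hx => cj_eq_self.1 (k x hx)).ge
    have c : cj x N1 = N1 := cj_eq_self.2 (MK hx)
    have l : cj x A ≤ N1 := c ▸ cj_mono x AN
    have s : A ⊔ cj x A = N1 := (eq_or_eq_of_prime_relIndex (hN.symm ▸ hp) le_sup_left (sup_le AN l)).resolve_left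
      fun k => hxA (eq_of_card_eq (le_sup_right.trans k.le) (card_cj x A))
    have z : A ⊓ cj x A ≤ Z(N1) := le_inf (inf_le_left.trans AN) (by
      rw [← s]; exact centsY (hA.cents le_rfl inf_le_left) ((hA.cj x).cents le_rfl inf_le_right))
    have i2 : #(N1 /ₛ Z(N1)) ≤ p ^ 2 := by
      rw [card_quo (center_nml _).nrm]
      refine (Nat.le_of_dvd (relIndex_pos _ _) (relIndex_dvd_of_le z _)).trans (relIndex_inf_le.trans_eq ?_)
      rw [hN, ← c, relIndex_cj, hN, sq]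
    have i3 := relIndex_cen_le_sq hp hM' KM' i2
    rw [← inf_relIndex_left] at i3
    exact ((Nat.le_of_dvd (relIndex_pos _ _) (relIndex_dvd_of_le sc _)).trans i3).antisymm
      (Nat.le_of_dvd (relIndex_pos _ _) (hM'.dvd_relIndex (quo_lt_quo ZM inf_le_left KM).not_ge))
  · have n1 := nZ N1 AN (NK.trans KM.le)
    obtain ⟨t1, t2⟩ := tow N1 AN NK'
    have := ih i (by omega) hM' ab sc (by
      rw [← quo_subnorm M n1, relIndex_quo_of_nml n1 (inf_le_left.trans ZM), ← t1]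
      congr 1
      exact (inf_le_inf_right _ MP).antisymm (le_inf (t2.trans KM.le) inf_le_right)) (quo_mono _ NK)
      (quo_lt_quo ZM inf_le_left KM) (by rw [relIndex_quo_of_nml n1 (center_nml K).nrm, e])
    rwa [inf_eq_left.2 KM'.nrm] at this

theorem soft_top {P : Type*} [Group P] [Finite P] {p : ℕ} (hp : p.Prime) (hP : IsPGroup p P) {E : Subgroup P}
    (hE : Ab E) (hC : C(E) ≤ E) (hN : E.relIndex N(E) = p) : (∀ K L, E ≤ K → E ≤ L → K ≤ L ∨ L ≤ K) ∧
      (∀ K, E ≤ K → K ≠ ⊤ → K.relIndex N(K) = p) ∧ ∀ (i : ℕ) (K : Subgroup P) [Group.IsNilpotent K], E ≤ K → K ≠ ⊤ →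
        K.index * p ^ i = E.index → Group.nilpotencyClass K = i + 1 := by
  haveI := Fact.mk hp
  have hT : PGrp p (⊤ : Subgroup P) := pGrp_of_isPGroup hp (hP.to_subgroup ⊤)
  have k := fun (i : ℕ) (K : Subgroup P) (h1 : E ≤ K) (h2 : K ≠ ⊤) =>
    soft hp i hT hE (inf_le_right.trans hC) (by rwa [top_inf_eq]) h1 h2.lt_top
  have b : ∀ K, E ≤ K → K ≠ ⊤ → K.relIndex N(K) = p := fun K h1 h2 => by
    obtain ⟨a, ha⟩ := (hT.mono (le_top (a := K))).card
    obtain ⟨c, hc⟩ := (hT.mono (le_top (a := E))).card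
    have := (k _ K h1 h2 (relIndex_eq_pow hp h1 ha hc).2).1
    rwa [top_inf_eq] at this
  refine ⟨fun K L h1 h2 => by_contra fun h => ?_, b, fun i K _ h1 h2 h3 => ?_⟩
  · rw [not_or] at h
    have e := b _ (le_inf h1 h2) fun e => h.1 (le_top.trans (e.ge.trans inf_le_right))
    have f : ∀ X, K ⊓ L < X → N(K ⊓ L) ≤ X := fun X hX =>
      have l := (hT.mono le_top).nil.lt_subnorm hX
      ((eq_or_eq_of_prime_relIndex (e.symm ▸ hp) l.le inf_le_right).resolve_left l.ne').ge.trans inf_le_left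
    rw [relIndex_eq_one.2 (le_inf (f K (inf_lt_left.2 h.1)) (f L (inf_lt_right.2 h.2)))] at e
    exact hp.one_lt.ne e
  · obtain ⟨-, c1, c2⟩ := k i K h1 h2 (Nat.eq_of_mul_eq_mul_right (Nat.pos_of_ne_zero (index_ne_zero_of_finite (H := K)))
      (by rw [relIndex_mul_index h1, ← h3, mul_comm]))
    have q : ∀ n, ClsLE n K ↔ Group.nilpotencyClass K ≤ n := fun n => by
      rw [← Subgroup.lowerCentralSeries_eq_bot_iff_nilpotencyClass_le, ClsLE, ← top_subtype_lowerCentralSeries,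
        map_eq_bot_iff_of_injective _ K.subtype_injective]
    rw [q] at c1 c2
    omega

end Cfsg.Agent.H3
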