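import Mathlib
import Cfsg.Agent.H3.Extra
import Cfsg.Agent.H3.Plane

/-! Abelian maximal subgroups, groups of symplectic type (P. Hall). -/

set_option autoImplicit false
set_option linter.unusedSectionVars false
set_option linter.style.haveILetI false

namespace Cfsg.Agent.H3
open Cfsg Subgroup Cfsg.Agent.FT
open scoped commutatorElement
universe u v

variable {G : Type u} [Group G] [Finite G] {p q n : ℕ}
  {E R S P Q A B W M K : Subgroup G} {x y z u w t a b c : G}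

theorem ncard_not_mem (h : K ≤ B) : {w | w ∈ B ∧ w ∉ K}.ncard + #K = #B := by
  rw [← ncard_compl B (· ∈ K), add_comm]
  congr 1
  exact (Nat.card_coe_set_eq (K : Set G)).trans (congrArg _ (Set.ext fun w => ⟨fun e => ⟨h e, e⟩, fun e => e.2⟩))

/-- a plane over `𝔽_p` has `p + 1` lines -/
theorem card_between (hp : p.Prime) (hK : K ⊴ S) (hc : #S = p ^ 2 * #K) (h : ∀ x ∈ S, x ^ p ∈ K) :
    Nat.card {B : Subgroup G // K ≤ B ∧ B ≤ S ∧ #B = p * #K} = p + 1 := by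
  classical
  haveI := Fintype.ofFinite G
  haveI := Fintype.ofFinite (Subgroup G)
  have key : ∀ B, K ≤ B → (Finset.univ.filter fun w => w ∈ B ∧ w ∉ K).card + #K = #B := fun B hB => by
    rw [← ncard_not_mem hB, ← Set.ncard_coe_finset]
    simp
  have h0 : ∀ x ∈ S, x ∉ K → #(K ⊔ ⟪x⟫) = p * #K := fun x hx hn => card_sup_zpowers hp (hK.nrm hx) hn (h x hx)
  have h1 := Finset.card_eq_sum_card_fiberwise (s := Finset.univ.filter fun w => w ∈ S ∧ w ∉ K)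
    (t := Finset.univ.filter fun B => K ≤ B ∧ B ≤ S ∧ #B = p * #K) (f := fun x => K ⊔ ⟪x⟫) fun x hx => by
      simp only [Finset.coe_filter, Finset.mem_univ, true_and, Set.mem_ofPred_eq] at hx ⊢
      exact ⟨le_sup_left, sup_le hK.le (zpowers_le.2 hx.1), h0 x hx.1 hx.2⟩
  obtain ⟨r, rfl⟩ := Nat.exists_eq_add_one_of_ne_zero hp.ne_zero
  rw [Finset.sum_congr rfl (g := fun _ => r * #K) fun B hB => ?_, Finset.sum_const, smul_eq_mul] at h1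
  · rw [Nat.card_eq_fintype_card, Fintype.card_subtype]
    have h2 := key S hK.le
    have h3 : 0 < r := by have := hp.two_le; omega
    refine Nat.eq_of_mul_eq_mul_right (Nat.mul_pos h3 (FT.card_pos K)) ?_
    rw [← h1]
    zify at h2 hc ⊢
    linear_combination h2 + hc
  · simp only [Finset.mem_filter, Finset.mem_univ, true_and] at hB
    have h2 := key B hB.1
    rw [hB.2.2, add_mul, one_mul, Nat.add_right_cancel_iff] at h2
    rw [← h2]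
    congr 1
    ext w
    simp only [Finset.mem_filter, Finset.mem_univ, true_and]
    exact ⟨fun e => ⟨e.2 ▸ mem_sup_right (mem_zpowers w), e.1.2⟩, fun e => ⟨⟨hB.2.1 e.1, e.2⟩,
      eq_of_card_eq (sup_le hB.1 (zpowers_le.2 e.1)) ((h0 w (hB.2.1 e.1) e.2).trans hB.2.2.symm)⟩⟩

theorem card_der_of_ab (hA : Ab A) (hx : x ∈ N(A)) : #A = #(A ⊓ C[x]) * #⁅A ⊔ ⟪x⟫, A ⊔ ⟪x⟫⁆ := by
  have hc : ∀ a ∈ A, ⁅a, x⁆ ∈ A := fun a ha => comm_mem_of_mem_normalizer_right hx ha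
  let φ : A →* G := MonoidHom.mk' (fun a => ⁅(a : G), x⁆) fun a b => by
    rw [Subgroup.coe_mul, comm_mul_left_of_commute (hA.comm a.2 (hc b b.2)), hA.comm (hc b b.2) (hc a a.2)]
  have h1 : φ.ker = C[x].subgroupOf A := by
    ext r
    rw [MonoidHom.mem_ker, mem_subgroupOf, mem_cen1, ← commutatorElement_eq_one_iff_mul_comm]
    rfl
  have h2 : φ.range = ⁅A ⊔ ⟪x⟫, A ⊔ ⟪x⟫⁆ := by
    refine le_antisymm ?_ ?_
    · rintro _ ⟨a, rfl⟩
      exact commutator_mem_commutator (mem_sup_left a.2) (mem_sup_right (mem_zpowers x))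
    · rw [der_sup_eq (zpowers_le.2 hx), ab_iff_der.1 hA, ab_iff_der.1 (ab_zpowers x), bot_sup_eq, sup_bot_eq]
      refine bg4_comm_zpowers_le' (mem_nrm.2 ?_) fun s hs => ⟨⟨s, hs⟩, rfl⟩
      rintro _ ⟨a, rfl⟩
      exact ⟨⟨_, FT.conj_mem hx a.2⟩, by show ⁅x * a * x⁻¹, x⁆ = x * ⁅(a : G), x⁆ * x⁻¹; group⟩
  rw [← h2, ← index_ker, h1, inf_comm, ← relIndex, FT.card_inf_mul_relIndex]

theorem center_le_of_ab (hA : A ≤ S) (hab : Ab A) (hi : (A.relIndex S).Prime) (hna : ¬ Ab S) : Z(S) ≤ A :=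
  ((eq_or_eq_of_prime_relIndex hi le_sup_left (sup_le hA inf_le_left)).resolve_right fun e =>
    hna (e ▸ hab.sup (ab_center S) (center_le_cen hA))) ▸ le_sup_right

theorem center_of_ab (hA : A ≤ S) (hab : Ab A) (hi : (A.relIndex S).Prime) (hna : ¬ Ab S) (hx : x ∈ S) (hn : x ∉ A) :
    A ⊓ C[x] = Z(S) := by
  refine le_antisymm (le_inf (inf_le_left.trans hA) ?_)
    (le_inf (center_le_of_ab hA hab hi hna) (inf_le_right.trans (cen_le_cen1 hx)))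
  rw [← sup_zpowers_eq_of_prime hi hA hx hn]
  exact centsY (inf_le_left.trans hab.le_cen) (cen_zpowers x ▸ inf_le_right)

theorem card_ab_max (hp : p.Prime) (hS : PGrp p S) (hA : A ≤ S) (hab : Ab A) (hi : A.relIndex S = p) (hna : ¬ Ab S) :
    #A = #Z(S) * #⁅S, S⁆ := by
  obtain ⟨x, hx, hn⟩ := SetLike.exists_of_lt (lt_of_le_of_ne hA fun e => hna (e ▸ hab))
  rw [card_der_of_ab hab ((hS.nml_of_relIndex hp hA hi).nrm hx), center_of_ab hA hab (hi ▸ hp) hna hx hn,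
    sup_zpowers_eq_of_prime (hi ▸ hp) hA hx hn]

theorem ab_of_center_prime (hK : K ≤ Z(A)) (hi : (K.relIndex A).Prime) : Ab A := by
  obtain ⟨x, hx, hn⟩ := SetLike.not_le_iff_exists.1 fun e : A ≤ K => hi.ne_one (relIndex_eq_one.2 e)
  exact cyclic_center_factor_abelian hK (sup_zpowers_eq_of_prime hi (hK.trans inf_le_left) hx hn)

theorem exists_ab_of_card_four (hp : p.Prime) (hS : #S = p ^ 4) : ∃ A ≤ S, Ab A ∧ #A = p ^ 3 := by
  haveI := Fact.mk hp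
  have pS := pGrp_of_card hp hS
  obtain ⟨V, h1, -, h2⟩ := normal_pgroup pS hp (Nml.refl S) (n := 2) (hS ▸ Nat.pow_le_pow_right hp.pos (by omega))
  have h3 := Nat.le_of_dvd hp.pos (relIndex_cen_dvd pS h2 h1.nrm)
  have h4 := FT.card_inf_mul_relIndex C(V) S
  obtain ⟨A, h5, h6, h7⟩ := (pS.mono (inf_le_right : C(V) ⊓ S ≤ S)).exists_between hp
    (le_inf (ab_of_card_sq hp h2).le_cen h1.le) (n := 3) (h2 ▸ Nat.pow_le_pow_right hp.pos (by omega)) (by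
      refine Nat.le_of_mul_le_mul_right ?_ hp.pos
      rw [← pow_succ, ← hS, ← h4]
      gcongr)
  refine ⟨A, h6.trans inf_le_right, ab_of_center_prime (le_inf h5 (centsC (h6.trans inf_le_left))) ?_, h7⟩
  rwa [relIndex_of_card_mul h5 (n := p) (by rw [h7, h2, pow_succ'])]

theorem XS.card_four (h : XS 2 (⊤ : Subgroup G) z) :
    nsq (⊤ : Subgroup G) + Nat.card {x : G // orderOf x = 4} = Nat.card G := by
  rw [← card_top' (G := G), ← ncard_compl ⊤ (· ^ 2 = 1), nsq]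
  congr 1
  refine (Nat.card_coe_set_eq {x : G | orderOf x = 4}).trans (congrArg _ (Set.ext fun w => ⟨fun e => ⟨mem_top w, fun e' => ?_⟩,
    fun e => orderOf_eq_prime_pow (p := 2) (n := 1) e.2 ?_⟩))
  · exact absurd (e.symm ▸ orderOf_dvd_of_pow_eq_one e' : 4 ∣ 2) (by norm_num)
  · rw [pow_succ, pow_mul]
    exact h.pow_of_mem (h.pow_mem e.1)

/-! ### P. Hall's theorem on groups of symplectic type -/

theorem Mod.cen_b (h : Mod p M u b n) (hq : q = if p = 2 then 4 else p) (hx : x ∈ M) (e : x ^ q = 1) : x ∈ C[b] := by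
  subst hq
  split_ifs at e with h2
  · subst h2
    obtain ⟨z, hz, -⟩ := xc_of_der h.prime h.pGrp h.card_der
    obtain ⟨t, ht, j, rfl⟩ := (mem_sup_zpowers_iff_nat h.b_nrm).1 (h.sup ▸ hx)
    have h3 := h.three_le rfl
    have hb : b ^ j ∈ M := pow_mem h.b_mem j
    rw [hz.mul_pow (h.le ht) hb, show Nat.choose 4 2 = 2 * 3 from rfl, pow_mul,
      hz.pow_of_mem (hz.comm _ hb _ (h.le ht)), ← pow_mul, show j * 4 = 2 * (j * 2) by ring, pow_mul, h.pow] at e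
    have h4 := zpowers_pow_pow_le u 2 (show 1 ≤ n - 2 by omega)
      (mem_zpowers_pow_of_pow Nat.prime_two h.ord h.two_le ht (by simpa using e))
    rw [pow_one] at h4
    exact mul_mem (cen_le_cen1 h.b_mem (h.pow_le_center h4).2) (pow_mem (self_mem_cen1 b) j)
  · exact h.pnElem_Ohm.ab.le_cen1 (mem_Ohm h.b_mem h.pow) (mem_Ohm hx e)

/-- central product of an extraspecial group with a cyclic group or a `2`-group of maximal class -/
def SympT (p : ℕ) (P : Subgroup G) : Prop :=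
  ∃ E R, CP E R P ∧ (E = ⊥ ∨ ∃ z, XS p E z ∧ ¬ Ab E) ∧ (Cyc R ∨ p = 2 ∧ ∃ a b m, 3 ≤ m ∧ MC R a b m)

theorem XS.sympT (h : XS p E z) (hc : CP E R P) (hz : z ∈ R) (hR : Cyc R ∨ p = 2 ∧ ∃ a b m, 3 ≤ m ∧ MC R a b m) :
    SympT p P := by
  by_cases e : Ab E
  · refine ⟨⊥, R, ⟨le_top.trans cen_bot.ge, ?_⟩, .inl rfl, hR⟩
    rw [← hc.sup, h.eq_of_ab e, bot_sup_eq, sup_eq_right.2 (zpowers_le.2 hz)]
  · exact ⟨E, R, hc, .inr ⟨z, h, e⟩, hR⟩

theorem XS.sympT' (h : XS p P z) : SympT p P :=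
  h.sympT ⟨h.zcen, sup_eq_left.2 h.zle⟩ (mem_zpowers z) (.inl (cyc_zpowers z))

theorem symp_cover {U : Subgroup G} (h : ∀ A, A ≤ P → N(P) ≤ N(A) → Ab A → Cyc A) (hU : U ≤ P) (nU : N(P) ≤ N(U))
    (pU : PGrp p U) (hz : XC p U z) (hu : Z(U) = ⟪u⟫) (ho : orderOf u = p ^ n) (hzu : z ∈ ⟪u ^ p⟫) (hx : x ∈ U) :
    ∃ v ∈ U, v ^ p = 1 ∧ ∃ y ∈ ⟪u⟫, x = v * y := by
  have hp := hz.prime
  have uU : ⟪u⟫ ≤ U := hu ▸ inf_le_left
  have uC : ⟪u⟫ ≤ C(U) := hu ▸ inf_le_right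
  have h0 : ∀ x ∈ U, x ^ p ∈ ⟪u ^ p⟫ → ∃ v ∈ U, v ^ p = 1 ∧ ∃ y ∈ ⟪u⟫, x = v * y := by
    rintro x hx ⟨k, hk⟩
    have hy : u ^ k ∈ ⟪u⟫ := zpow_mem_zpowers u k
    refine ⟨x * (u ^ k)⁻¹, mul_mem hx (uU (inv_mem hy)), ?_, u ^ k, hy, by simp⟩
    rw [Commute.mul_pow (FT.mem_cen.1 (uC (inv_mem hy)) x hx), ← hk]
    group
  refine h0 x hx (by_contra fun hn => ?_)
  have hm : ∀ a ∈ U, ∀ b ∈ U, a ^ p * b ^ p ∈ ⟪u ^ p⟫ → (a * b) ^ p ∈ ⟪u ^ p⟫ := fun a ha b hb e => by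
    rw [hz.mul_pow ha hb]
    exact mul_mem e (zpowers_le.2 hzu (pow_mem (hz.comm b hb a ha) _))
  let U₀ : Subgroup G := ⟨⟨⟨{a | a ∈ U ∧ a ^ p ∈ ⟪u ^ p⟫}, fun ha hb =>
    ⟨mul_mem ha.1 hb.1, hm _ ha.1 _ hb.1 (mul_mem ha.2 hb.2)⟩⟩, one_mem _, by simp⟩,
    fun ha => ⟨inv_mem ha.1, by simpa using ha.2⟩⟩
  have h1 : U₀ ≤ U := fun _ e => e.1
  have h2 : ⟪u⟫ ≤ U₀ := zpowers_le.2 ⟨uU (mem_zpowers u), mem_zpowers _⟩
  have h3 : N(P) ≤ N(U₀) := le_nrm_iff.2 fun g hg a ha => ⟨FT.conj_mem (nU hg) ha.1, by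
    rw [conj_pow]
    exact FT.conj_mem ((cyc_zpowers u).norms_sub (zpowers_pow_le u p) (hu ▸ norms_center nU) hg) ha.2⟩
  have hpow : ∀ a ∈ U, a ^ p ∈ ⟪u⟫ := fun a ha => hu ▸ ⟨pow_mem ha p, hz.pow_cen ha⟩
  have h4 : ⟪x ^ p⟫ = ⟪u⟫ := by
    obtain ⟨k, -, hk⟩ := exists_eq_zpowers_pow hp ho (zpowers_le.2 (hpow x hx))
    rcases k with _ | k
    · simpa using hk
    · have := zpowers_pow_pow_le u p (Nat.le_add_left 1 k) (hk.le (mem_zpowers _))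
      rw [pow_one] at this
      exact absurd this hn
  have h5 : U₀ ⊔ ⟪x⟫ = U := le_antisymm (sup_le h1 (zpowers_le.2 hx)) fun y hy => by
    obtain ⟨k, hk⟩ := h4 ▸ hpow y hy
    have hk' : (x ^ k)⁻¹ ∈ U := inv_mem (zpow_mem hx k)
    rw [show y = y * (x ^ k)⁻¹ * x ^ k by simp]
    refine mul_mem (mem_sup_left ⟨mul_mem hy hk', hm y hy _ hk' ?_⟩) (mem_sup_right (zpow_mem_zpowers x k))
    rw [← hk, show (x ^ p) ^ k * (x ^ k)⁻¹ ^ p = 1 by group]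
    exact one_mem _
  have h6 : #U = p * #U₀ := h5 ▸ card_sup_zpowers hp (h3 (le_nrm P (hU hx))) (fun e => hn e.2) (h2 (hpow x hx))
  have h7 := hz.card_perp pU h1
  rw [show U₀ ⊓ C(U) = ⟪u⟫ from le_antisymm (hu ▸ inf_le_inf_right _ h1) (le_inf h2 uC), h6] at h7
  obtain ⟨w, hw, hwn⟩ := SetLike.not_le_iff_exists.1 fun e : U ⊓ C(U₀) ≤ ⟪u⟫ => by
    have := card_le e
    have := FT.card_pos U₀
    have := FT.card_pos ⟪u⟫
    have := hp.two_le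
    nlinarith [Nat.mul_le_mul_left #U₀ (card_le e), Nat.mul_le_mul_left (#⟪u⟫ * #U₀) hp.two_le]
  have h8 : w ∈ U₀ := by_contra fun e => hwn (hu ▸ ⟨hw.1, by
    rw [← sup_zpowers_eq_of_prime ((relIndex_of_card_mul h1 h6).symm ▸ hp) h1 hw.1 e, cen_sup, cen_zpowers]
    exact ⟨hw.2, self_mem_cen1 w⟩⟩)
  obtain ⟨v, -, hv, y, hy, rfl⟩ := h0 w hw.1 h8.2
  have h9 : ⟪u⟫ ≤ Z(U₀) := le_inf h2 (uC.trans (cen_anti h1))
  have hzu' : ⟪z⟫ ≤ ⟪u⟫ := zpowers_le.2 (zpowers_pow_le u p hzu)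
  exact hwn (mul_mem (hzu' ((h _ (inf_le_left.trans (h1.trans hU)) (norms_center h3) (ab_center _)).mem_of_pow_card
    (hzu'.trans h9) ((mul_mem_cancel_right (h9 hy)).1 ⟨h8, hw.2⟩) (hz.card_z ▸ hv))) hy)

theorem symplectic_type (hp : p.Prime) (hP : PGrp p P) (h : ∀ A, A ≤ P → N(P) ≤ N(A) → Ab A → Cyc A) :
    SympT p P := by
  haveI := Fact.mk hp
  obtain ⟨U, hU, nU, h1, h2, h3⟩ := exists_critical hP.isPGroup
  have pU := hP.mono hU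
  have nY : N(P) ≤ N(Z(U)) := norms_center nU
  obtain ⟨u, hu⟩ := cyc_iff.1 (h _ (inf_le_left.trans hU) nY (ab_center U))
  by_cases hU1 : U = ⊥
  · refine ⟨⊥, ⊥, ⟨bot_le, ?_⟩, .inl rfl, .inl cyc_bot⟩
    rw [hU1, cen_bot, inf_top_eq, le_bot_iff] at h3
    rw [h3, bot_sup_eq]
  have uU : ⟪u⟫ ≤ U := hu ▸ inf_le_left
  have uC : ⟪u⟫ ≤ C(U) := hu ▸ inf_le_right
  obtain ⟨n, ho⟩ := (pU.mono uU).card
  rw [card_zpowers'] at ho
  have hn : 1 ≤ n := Nat.one_le_iff_ne_zero.2 (by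
    rintro rfl
    exact pU.center_ne_bot hU1 (by rw [hu, zpowers_eq_bot, ← orderOf_eq_one_iff, ho, pow_zero]))
  obtain ⟨z, hzd⟩ : ∃ z, z = u ^ p ^ (n - 1) := ⟨_, rfl⟩
  have oz : orderOf z = p := by rw [hzd, orderOf_pow_pow hp ho (Nat.sub_le n 1), Nat.sub_sub_self hn, pow_one]
  have zu : ⟪z⟫ ≤ ⟪u⟫ := hzd ▸ zpowers_pow_le u _
  have nsub : ∀ A ≤ ⟪u⟫, N(P) ≤ N(A) := fun A hA => (cyc_zpowers u).norms_sub hA (hu ▸ nY)
  have zP : ⟪z⟫ ≤ C(P) := centsC (hP.cents_of_prime ((card_zpowers' z).trans oz) hp ((le_nrm P).trans (nsub _ zu)))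
  have hz1 : ∀ y ∈ ⟪u⟫, y ^ p = 1 → y ∈ ⟪z⟫ := fun y hy e =>
    hzd ▸ mem_zpowers_pow_of_pow hp ho hn hy (by rwa [pow_one])
  have hc : ∀ x ∈ U, ∀ g ∈ P, x ^ p ∈ C[g] → ⁅x, g⁆ ∈ ⟪z⟫ := fun x hx g hg e => by
    have := h2 (commutator_mem_commutator hx hg)
    refine hz1 _ (hu ▸ this) ?_
    rw [← comm_pow_left (FT.mem_cen.1 this.2 x hx), commutatorElement_eq_one_iff_mul_comm, mem_cen1.1 e]
  have hz : XC p U z := ⟨hp, oz, uU (zu (mem_zpowers z)), uC (zu (mem_zpowers z)),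
    fun x hx y hy => hc x hx y (hU hy) (cen_le_cen1 hy (h1 x hx))⟩
  rcases hn.eq_or_lt with rfl | hn2
  · have h4 : XS p U z := ⟨hz, by simpa [hzd] using hu⟩
    have h5 := (bg4_cprod_of_center_prime hP hU (h4.card_center ▸ hp) h2).sup
    rw [sup_eq_left.2 h3] at h5
    exact (h5 ▸ h4).sympT'
  have zp : z ∈ ⟪u ^ p⟫ := by
    have := zpowers_pow_pow_le u p (show 1 ≤ n - 1 by omega) (mem_zpowers _)
    rwa [pow_one, ← hzd] at this
  obtain ⟨q, hq⟩ : ∃ q, q = if p = 2 then 4 else p := ⟨_, rfl⟩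
  have hpq : ∀ x : G, x ^ p = 1 → x ^ q = 1 := fun x e => by
    rw [hq]
    split_ifs with h2
    · rw [show 4 = p * 2 by omega, pow_mul, e, one_pow]
    · exact e
  have hD : ∀ x, x ∈ Ω[q](U) ↔ x ∈ U ∧ x ^ q = 1 := fun x =>
    mem_omega_iff_of_critical h1 (hz.der_le.trans hz.zcen) (by
      rw [hq]
      split_ifs with h2
      · rw [h2]; decide
      · simpa using p_dvd_choose_two (p := p) one_ne_zero (by rwa [pow_one]))
  have hDp : ∀ x ∈ Ω[q](U), x ^ p ∈ ⟪z⟫ := fun x hx => by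
    obtain ⟨h4, h5⟩ := (hD x).1 hx
    rw [hq] at h5
    split_ifs at h5 with h2
    · exact hz1 _ (hu ▸ ⟨pow_mem h4 p, h1 x h4⟩) (by rw [← pow_mul, h2]; exact h5)
    · exact h5 ▸ one_mem _
  obtain ⟨E, hE, hED⟩ := (hz.sub (Ohm_le q U) (mem_Ohm hz.mem (hpq z hz.z_pow))).exists_xs hDp
  have EU : E ≤ U := hED.left.trans (Ohm_le q U)
  have hEP := bg4_cprod_of_center_prime hP (EU.trans hU) (hE.card_center ▸ hp) (hE.center ▸ commutator_le.2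
    fun x hx g hg => hc x (EU hx) g hg (cen_le_cen1 hg (zP (hDp x (hED.left hx)))))
  have h4 : U ≤ Ω[q](U) ⊔ ⟪u⟫ := fun x hx => by
    obtain ⟨v, hv, e, y, hy, rfl⟩ := symp_cover h hU nU pU hz hu ho zp hx
    exact mul_mem (mem_sup_left (mem_Ohm hv (hpq v e))) (mem_sup_right hy)
  have h5 : Z(Ω[q](U)) ≤ ⟪u⟫ := hu ▸ le_inf (inf_le_left.trans (Ohm_le q U)) (centsS h4 (centsY inf_le_right
    (inf_le_left.trans ((Ohm_le q U).trans (centsC uC)))))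
  have h6 : U ≤ E ⊔ ⟪u⟫ := h4.trans (sup_le (hED.sup ▸ sup_le_sup_left h5 E) le_sup_right)
  have h7 : P ⊓ C(E) ⊓ C[u] ≤ ⟪u⟫ := by
    have : P ⊓ C(E) ⊓ C[u] ≤ C(U) :=
      centsS h6 (centsY (inf_le_left.trans inf_le_right) (cen_zpowers u ▸ inf_le_right))
    exact hu ▸ le_inf ((le_inf (inf_le_left.trans inf_le_left) this).trans h3) this
  have h8 : ⟪u⟫ ⊴ P ⊓ C(E) :=
    ⟨le_inf (uU.trans hU) (uC.trans (cen_anti EU)), inf_le_left.trans ((le_nrm P).trans (nsub _ le_rfl))⟩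
  have zR : z ∈ P ⊓ C(E) := h8.le (zu (mem_zpowers z))
  by_cases hab : Ab (P ⊓ C(E))
  · exact hE.sympT hEP zR (.inl ((cyc_zpowers u).mono ((le_inf le_rfl (hab.le_cen1 (h8.le (mem_zpowers u)))).trans h7)))
  rcases mc_or_mod_of_scn hp (hP.mono inf_le_left) h8 h7 hab ho with ⟨rfl, b, hb⟩ | ⟨b, hb, -⟩
  · rcases (show 2 ≤ n from hn2).eq_or_lt with rfl | hn3
    · refine XS.sympT' (z := z) ⟨⟨hp, oz, zR.1, zP (mem_zpowers z), commutator_le.1 ?_⟩, ?_⟩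
      · rw [hEP.der, hb.der]
        exact sup_le hE.der_le (by simp [hzd])
      · rw [hEP.center, hb.center, hE.center, ← hzd, sup_idem]
    · exact hE.sympT hEP zR (.inr ⟨rfl, u, b, n, hn3, hb⟩)
  · have nK : N(P) ≤ N(P ⊓ C[u ^ p]) := cen_zpowers (u ^ p) ▸ norms_subcent le_rfl (nsub _ (zpowers_pow_le u p))
    have bK : b ∈ P ⊓ C[u ^ p] := ⟨hb.b_mem.1.1, hb.b_mem.2⟩
    have h9 : Ω[q](P ⊓ C[u ^ p]) ≤ C[b] := Ohm_le_iff.2 fun x hx e => by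
      obtain ⟨a, ha, r, hr, rfl⟩ := hEP.mulEq.mul x hx.1
      have h10 : a ∈ C[u ^ p] := cen_le_cen1 (npow_mem_zpowers u p) (centsC uC (EU ha))
      rw [Commute.mul_pow (FT.mem_cen.1 hr.2 a ha), ((hD a).1 (hED.left ha)).2, one_mul] at e
      exact mul_mem (le_cen1.2 hb.b_mem.1.2 ha) (hb.cen_b hq ⟨hr, (mul_mem_cancel_left h10).1 hx.2⟩ e)
    have zK : ⟪z⟫ ≤ Z(Ω[q](P ⊓ C[u ^ p])) := le_inf (zpowers_le.2 (mem_Ohm ⟨zR.1, cen_le_cen1 (hU (uU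
      (npow_mem_zpowers u p))) (zP (mem_zpowers z))⟩ (hpq z hz.z_pow))) (centsS ((Ohm_le _ _).trans inf_le_left) zP)
    exact absurd ((h _ (inf_le_left.trans ((Ohm_le _ _).trans inf_le_left)) (norms_center (norms_Ohm q nK))
      (ab_center _)).mem_of_pow_card zK ⟨mem_Ohm bK (hpq b hb.pow), le_cen1.1 h9⟩ (hz.card_z ▸ hb.pow))
      (hzd ▸ hb.b_not_mem)

end Cfsg.Agent.H3
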