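import Cfsg.Agent.H3.Quad5
import Cfsg.Agent.H19.Root2

/-! A framework for the classical examples of root subgroups. -/

set_option autoImplicit false
set_option linter.unusedSectionVars false
set_option linter.unusedSimpArgs false

namespace Cfsg.Agent.H3.Ex

open Cfsg.Agent.H19 Cfsg.Agent.H3.Dk Cfsg.Agent.H3.Qd
open scoped MatrixGroups commutatorElement

variable {k A Γ : Type*} [Field k] [Ring A] [Algebra k A] [Group Γ] {ρ : Γ →* Aˣ} {𝒜 : Set A}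
  {α β : A} {g : Γ}

variable (k ρ) in
/-- the root group of `α` -/
def RG (α : A) : Subgroup Γ := Subgroup.closure {g | ∃ c : k, (ρ g : A) = 1 + c • α}

theorem inv_val {u : Aˣ} {x : A} (h : x * x = 0) (e : (u : A) = 1 + x) : ((u⁻¹ : Aˣ) : A) = 1 - x :=
  Units.inv_eq_of_mul_eq_one_right (by rw [e]; simp [mul_sub, add_mul, h])

theorem smul_sq (h : α * α = 0) (c : k) : c • α * c • α = 0 := by
  simp [h]

theorem mem_RG (h : α * α = 0) : g ∈ RG k ρ α ↔ ∃ c : k, (ρ g : A) = 1 + c • α := by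
  refine ⟨fun hg => ?_, fun hg => Subgroup.subset_closure hg⟩
  induction hg using Subgroup.closure_induction with
  | mem x hx => exact hx
  | one => exact ⟨0, by simp⟩
  | mul x y _ _ hx hy =>
    obtain ⟨c, hc⟩ := hx
    obtain ⟨d, hd⟩ := hy
    refine ⟨c + d, ?_⟩
    rw [map_mul, Units.val_mul, hc, hd]
    simp only [nc k A, h]
    module
  | inv x _ hx =>
    obtain ⟨c, hc⟩ := hx
    exact ⟨-c, by rw [map_inv, inv_val (smul_sq h c) hc, neg_smul, sub_eq_add_neg]⟩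

theorem RG_smul {c : k} (hc : c ≠ 0) : RG k ρ (c • α) = RG k ρ α := by
  unfold RG
  congr 1
  ext g
  exact ⟨fun ⟨d, e⟩ => ⟨d * c, by rw [e, smul_smul]⟩,
    fun ⟨d, e⟩ => ⟨d * c⁻¹, by rw [e, smul_smul, inv_mul_cancel_right₀ hc]⟩⟩

theorem RG_neg : RG k ρ (-α) = RG k ρ α := by
  rw [← neg_one_smul k α, RG_smul (neg_ne_zero.2 one_ne_zero)]

theorem cj_RG (h : α * α = 0) (g : Γ) :
    cj g (RG k ρ α) = RG k ρ ((ρ g : A) * α * ((ρ g)⁻¹ : Aˣ)) := by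
  have h' : (ρ g : A) * α * ((ρ g)⁻¹ : Aˣ) * ((ρ g : A) * α * ((ρ g)⁻¹ : Aˣ)) = 0 := by
    simp only [mul_assoc, Units.inv_mul_cancel_left, mul_zero' h, mul_zero]
  ext x
  rw [mem_cj, mem_RG h, mem_RG h']
  refine exists_congr fun c => ⟨fun e => ?_, fun e => ?_⟩
  · have : (ρ x : A) = ρ g * ρ (g⁻¹ * x * g) * ((ρ g)⁻¹ : Aˣ) := by simp [mul_assoc]
    rw [this, e]; simp [mul_add, add_mul]
  · simp only [map_mul, map_inv, Units.val_mul, e]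
    simp [mul_add, add_mul, mul_assoc]

variable (k) in
/-- opposite pair -/
def Op (α β : A) : Prop := ∃ c : k, c ≠ 0 ∧ α * β * α = c • α ∧ β * α * β = c • β

variable (k) in
/-- nilpotent pair -/
def Nl (𝒜 : Set A) (α β : A) : Prop :=
  α * β * α = 0 ∧ β * α * β = 0 ∧ ∃ c : k, c ≠ 0 ∧ c • (α * β - β * α) ∈ 𝒜

theorem Op.symm (h : Op k α β) : Op k β α := let ⟨c, h0, h1, h2⟩ := h; ⟨c, h0, h2, h1⟩

variable (k ρ) in
/-- a system of root elements -/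
structure Sys (𝒜 : Set A) : Prop where
  inj : Function.Injective ρ
  sq : ∀ α ∈ 𝒜, α * α = 0
  ne : ∀ α ∈ 𝒜, α ≠ 0
  full : ∀ α ∈ 𝒜, ∀ c : k, ∃ g, (ρ g : A) = 1 + c • α
  conj : ∀ α ∈ 𝒜, ∀ g, (ρ g : A) * α * ((ρ g)⁻¹ : Aˣ) ∈ 𝒜
  pair : ∀ α ∈ 𝒜, ∀ β ∈ 𝒜, α * β = β * α ∨ Op k α β ∨ Nl k 𝒜 α β

theorem comm_val {a b : Γ} {s t : k} (h1 : α * α = 0) (h2 : β * β = 0) (e1 : α * β * α = 0)
    (e2 : β * α * β = 0) (ha : (ρ a : A) = 1 + s • α) (hb : (ρ b : A) = 1 + t • β) :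
    (ρ ⁅a, b⁆ : A) = 1 + (s * t) • (α * β - β * α) := by
  rw [commutatorElement_def]
  simp only [map_mul, map_inv, Units.val_mul]
  rw [inv_val (smul_sq h1 s) ha, inv_val (smul_sq h2 t) hb, ha, hb]
  simp only [nc k A, h1, h2, mul_zero' h1, mul_zero' h2, mul_assoc α β α ▸ e1, mul_assoc β α β ▸ e2,
    mul_zero3 e1, mul_zero3 e2]
  module

namespace Sys

variable (h : Sys k ρ 𝒜)
include h

theorem ext {a b : Γ} (e : (ρ a : A) = ρ b) : a = b := h.inj (Units.ext e)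

theorem ne_one {c : k} (ha : α ∈ 𝒜) (e : (ρ g : A) = 1 + c • α) : g ≠ 1 ↔ c ≠ 0 := by
  refine not_congr ⟨fun e1 => ?_, fun e1 => h.ext (by simp [e, e1])⟩
  rw [e1, map_one, Units.val_one, left_eq_add] at e
  exact (smul_eq_zero.1 e).resolve_right (h.ne _ ha)

theorem comm_of (h1 : α * α = 0) (h2 : β * β = 0) (e : α * β = β * α) :
    Comm (RG k ρ α) (RG k ρ β) := fun a ha b hb => by
  obtain ⟨s, hs⟩ := (mem_RG h1).1 ha
  obtain ⟨t, ht⟩ := (mem_RG h2).1 hb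
  refine h.ext ?_
  simp only [map_mul, Units.val_mul, hs, ht, nc k A, e]
  module

theorem comm_rev (ha : α ∈ 𝒜) (hb : β ∈ 𝒜) (e : Comm (RG k ρ α) (RG k ρ β)) : α * β = β * α := by
  obtain ⟨a, e1⟩ := h.full α ha 1
  obtain ⟨b, e2⟩ := h.full β hb 1
  have := congrArg (fun x => (ρ x : A)) (e a (Subgroup.subset_closure ⟨1, e1⟩) b
    (Subgroup.subset_closure ⟨1, e2⟩))
  simp only [map_mul, Units.val_mul, e1, e2, nc k A, one_smul] at this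
  linear_combination (norm := abel1) this

theorem ne_bot (ha : α ∈ 𝒜) : RG k ρ α ≠ ⊥ := by
  obtain ⟨g, e⟩ := h.full α ha 1
  intro e0
  have : g ∈ RG k ρ α := Subgroup.subset_closure ⟨1, e⟩
  rw [e0, Subgroup.mem_bot] at this
  exact (h.ne_one ha e).2 one_ne_zero this

theorem exists_SL2 (ha : α ∈ 𝒜) (hb : β ∈ 𝒜) (o : Op k α β) :
    ∃ c : k, c ≠ 0 ∧ ∃ ψ : SL(2, k) →* Γ, Function.Injective ψ ∧
      (∀ z, (ρ (ψ (uu z)) : A) = 1 + z • α) ∧ ∀ z, (ρ (ψ (ll (z * c))) : A) = 1 + z • β := by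
  obtain ⟨c, hc, e1, e2⟩ := o
  have h1 := h.sq α ha
  have h2 := h.sq β hb
  have o : Opp α (c⁻¹ • β) := ⟨h1, smul_sq h2 _, by
      rw [mul_smul_comm, smul_mul_assoc, e1, smul_smul, inv_mul_cancel₀ hc, one_smul], by
      simp only [smul_mul_assoc, mul_smul_comm, e2, smul_smul, inv_mul_cancel₀ hc, mul_one]⟩
  obtain ⟨β', hβ'⟩ : ∃ β', β' = c⁻¹ • β := ⟨_, rfl⟩
  rw [← hβ'] at o
  have idem : (α * β' + β' * α) * (α * β' + β' * α) = α * β' + β' * α := by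
    simp only [nc k A, o.sq1, o.sq2, mul_zero' o.sq1, mul_zero' o.sq2, o.e1', o.e2', mul_eq3 o.e1,
      mul_eq3 o.e2]
    abel
  obtain ⟨φ, hφ, f1, f2⟩ := o.exists_SL2 (k := k) (h.ne α ha) (fun c : k => c • (α * β' + β' * α))
    (fun _ _ => add_smul _ _ _) (fun z w => by rw [smul_mul_assoc, mul_smul_comm, idem, smul_smul])
    (one_smul _ _) (fun z => by rw [smul_mul_assoc, mul_smul_comm, gam_left o.sq1])
    (fun z => by rw [smul_mul_assoc, mul_smul_comm, gam_right o.sq2])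
  have g1 : ∀ z, (φ (uu z)).1 = 1 + z • α := fun z => by simp [f1, add_mul, mul_assoc, o.sq1, o.e1']
  have g2 : ∀ z, (φ (ll z)).1 = 1 + z • β' := fun z => by simp [f2, add_mul, mul_assoc, o.sq2, o.e2']
  have hr : ∀ x, φ x ∈ ρ.range := fun x => by
    refine St.sl_induction (p := fun x => φ x ∈ ρ.range) (fun t => ?_) (fun t => ?_)
      (fun a b ha hb => by rw [map_mul]; exact mul_mem ha hb) x
    · obtain ⟨g, e⟩ := h.full α ha t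
      exact ⟨g, Units.ext (e.trans (g1 t).symm)⟩
    · obtain ⟨g, e⟩ := h.full β hb (t * c⁻¹)
      exact ⟨g, Units.ext (e.trans (by rw [← smul_smul, ← hβ']; exact (g2 t).symm))⟩
  let ψ : SL(2, k) →* Γ := (MonoidHom.ofInjective h.inj).symm.toMonoidHom.comp (φ.codRestrict _ hr)
  have e : ∀ x, ρ (ψ x) = φ x := fun x => MonoidHom.apply_ofInjective_symm h.inj _
  refine ⟨c, hc, ψ, fun x y exy => hφ (by rw [← e, ← e, exy]), fun z => by rw [e, g1], fun z => ?_⟩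
  rw [e, g2, hβ', smul_smul, mul_inv_cancel_right₀ hc]

theorem psl2' (ha : α ∈ 𝒜) (hb : β ∈ 𝒜) (o : Op k α β) :
    ∃ ψ : SL(2, k) →* Γ, Function.Injective ψ ∧ (upperUnipotentSL2 k).map ψ = RG k ρ α ∧
      (lowerUnipotentSL2 k).map ψ = RG k ρ β := by
  obtain ⟨c, hc, ψ, hψ, e1, e2⟩ := h.exists_SL2 ha hb o
  refine ⟨ψ, hψ, ?_, ?_⟩
  · ext x
    rw [mem_RG (h.sq α ha)]
    constructor
    · rintro ⟨y, hy, rfl⟩
      obtain ⟨t, rfl⟩ := St.mem_upper.1 hy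
      exact ⟨t, e1 t⟩
    · rintro ⟨t, e⟩
      exact ⟨uu t, St.mem_upper.2 ⟨t, rfl⟩, h.ext ((e1 t).trans e.symm)⟩
  · ext x
    rw [mem_RG (h.sq β hb)]
    constructor
    · rintro ⟨y, hy, rfl⟩
      obtain ⟨t, rfl⟩ := St.mem_lower.1 hy
      refine ⟨t * c⁻¹, ?_⟩
      rw [← e2, inv_mul_cancel_right₀ hc]; rfl
    · rintro ⟨t, e⟩
      exact ⟨ll (t * c), St.mem_lower.2 ⟨_, rfl⟩, h.ext ((e2 t).trans e.symm)⟩

theorem psl2 (ha : α ∈ 𝒜) (hb : β ∈ 𝒜) (o : Op k α β) : IsPSL2PairOver k (RG k ρ α) (RG k ρ β) := by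
  obtain ⟨ψ, hψ, e1, e2⟩ := h.psl2' ha hb o
  refine ⟨ψ, ?_, by simp [(MonoidHom.ker_eq_bot_iff ψ).2 hψ], e1, e2⟩
  rw [← e1, ← e2, ← Subgroup.map_sup, St.upper_sup_lower, MonoidHom.range_eq_map]

theorem ro (ha : α ∈ 𝒜) (hb : β ∈ 𝒜) (o : Op k α β) : IsRankOnePair (RG k ρ α) (RG k ρ β) := by
  obtain ⟨ψ, hψ, e1, e2⟩ := h.psl2' ha hb o
  rw [← e1, ← e2]
  exact (RO.map_iff ψ hψ).2 St.special_SL.1

theorem comm_eq (ha : α ∈ 𝒜) (hb : β ∈ 𝒜) (e1 : α * β * α = 0) (e2 : β * α * β = 0) :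
    ⁅RG k ρ α, RG k ρ β⁆ = RG k ρ (α * β - β * α) := by
  have h1 := h.sq α ha
  have h2 := h.sq β hb
  refine le_antisymm (Subgroup.commutator_le.2 fun a ha' b hb' => ?_) ((Subgroup.closure_le _).2 ?_)
  · obtain ⟨s, hs⟩ := (mem_RG h1).1 ha'
    obtain ⟨t, ht⟩ := (mem_RG h2).1 hb'
    exact Subgroup.subset_closure ⟨_, comm_val h1 h2 e1 e2 hs ht⟩
  · rintro x ⟨c, e⟩
    obtain ⟨a, hs⟩ := h.full α ha c
    obtain ⟨b, ht⟩ := h.full β hb 1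
    have : x = ⁅a, b⁆ := h.ext (by rw [comm_val h1 h2 e1 e2 hs ht, e, mul_one])
    rw [this]
    exact Subgroup.commutator_mem_commutator (Subgroup.subset_closure ⟨_, hs⟩)
      (Subgroup.subset_closure ⟨_, ht⟩)

theorem cc (ha : α ∈ 𝒜) (hb : β ∈ 𝒜) (n : Nl k 𝒜 α β) :
    CC (RG k ρ '' 𝒜) (RG k ρ α) (RG k ρ β) := by
  obtain ⟨e1, e2, c, hc, hm⟩ := n
  have h1 := h.sq α ha
  have h2 := h.sq β hb
  have e := h.comm_eq ha hb e1 e2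
  have h3 : (α * β - β * α) * (α * β - β * α) = 0 := by
    simp only [nc k A, mul_zero' h1, mul_zero' h2, mul_zero3 e1, mul_zero3 e2, sub_self]
  refine ⟨⟨_, hm, by rw [e, RG_smul hc]⟩, e ▸ h.comm_of h3 h1 ?_, e ▸ h.comm_of h3 h2 ?_,
    fun a ha' a1 x hx => ?_, fun b hb' b1 x hx => ?_⟩
  · simp only [nc k A, h1, mul_zero' h1, mul_assoc α β α ▸ e1, sub_self]
  · simp only [nc k A, h2, mul_zero' h2, mul_assoc β α β ▸ e2, sub_self]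
  · obtain ⟨s, hs⟩ := (mem_RG h1).1 ha'
    obtain ⟨u, hu⟩ := (mem_RG h3).1 (e ▸ hx)
    obtain ⟨b, ht⟩ := h.full β hb (s⁻¹ * u)
    refine ⟨b, Subgroup.subset_closure ⟨_, ht⟩, h.ext ?_⟩
    rw [comm_val h1 h2 e1 e2 hs ht, hu, mul_inv_cancel_left₀ ((h.ne_one ha hs).1 a1)]
  · obtain ⟨t, ht⟩ := (mem_RG h2).1 hb'
    obtain ⟨u, hu⟩ := (mem_RG h3).1 (e ▸ hx)
    obtain ⟨a, hs⟩ := h.full α ha (u * t⁻¹)
    refine ⟨a, Subgroup.subset_closure ⟨_, hs⟩, h.ext ?_⟩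
    rw [comm_val h1 h2 e1 e2 hs ht, hu, inv_mul_cancel_right₀ ((h.ne_one hb ht).1 b1)]

theorem rootSet (gen : (⨆ B ∈ RG k ρ '' 𝒜, B) = ⊤) : IsRootSubgroupSet (RG k ρ '' 𝒜) := by
  refine ⟨?_, ?_, gen, ?_, ?_⟩
  · rintro _ ⟨α, ha, rfl⟩
    exact comm_self_iff.1 (h.comm_of (h.sq α ha) (h.sq α ha) rfl)
  · rintro _ ⟨α, ha, rfl⟩
    exact h.ne_bot ha
  · rintro _ ⟨α, ha, rfl⟩ g
    exact ⟨_, h.conj α ha g, (cj_RG (h.sq α ha) g).symm⟩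
  · rintro _ ⟨α, ha, rfl⟩ _ ⟨β, hb, rfl⟩
    exact (h.pair α ha β hb).imp (fun e => comm_iff.1 (h.comm_of (h.sq α ha) (h.sq β hb) e))
      (Or.imp (h.ro ha hb) fun n => cc_iff.2 (h.cc ha hb n))

theorem kRootSet (gen : (⨆ B ∈ RG k ρ '' 𝒜, B) = ⊤) : IsKRootSubgroupSet k (RG k ρ '' 𝒜) := by
  refine ⟨h.rootSet gen, ?_⟩
  rintro _ ⟨α, ha, rfl⟩ _ ⟨β, hb, rfl⟩ r
  rcases h.pair α ha β hb with e | o | n
  · exact absurd (h.comm_of (h.sq α ha) (h.sq β hb) e) (RO.not_comm r)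
  · exact h.psl2 ha hb o
  · exact absurd r (Root.cc_not_ro (h.rootSet gen) ⟨β, hb, rfl⟩ (h.cc ha hb n))

theorem degenerate (gen : (⨆ B ∈ RG k ρ '' 𝒜, B) = ⊤)
    (hd : ∀ α ∈ 𝒜, ∀ β ∈ 𝒜, α * β = β * α ∨ Op k α β) : IsDegenerateRootSet (RG k ρ '' 𝒜) := by
  rintro _ ⟨α, ha, rfl⟩ _ ⟨β, hb, rfl⟩ r
  rw [cc_iff] at r
  rcases hd α ha β hb with e | o
  · exact Root.cc_not_comm (h.rootSet gen) r (h.comm_of (h.sq α ha) (h.sq β hb) e)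
  · exact Root.cc_not_ro (h.rootSet gen) ⟨β, hb, rfl⟩ r (h.ro ha hb o)

theorem adj (ha : α ∈ 𝒜) (hb : β ∈ 𝒜) (o : Op k α β) : FAdj (RG k ρ '' 𝒜) (RG k ρ α) (RG k ρ β) :=
  ⟨⟨α, ha, rfl⟩, ⟨β, hb, rfl⟩, h.ro ha hb o⟩

theorem restrict : Sys k (ρ.comp (⨆ B ∈ RG k ρ '' 𝒜, B).subtype) 𝒜 := by
  refine ⟨h.inj.comp Subtype.val_injective, h.sq, h.ne, fun α ha c => ?_, fun α ha g => h.conj α ha g,
    h.pair⟩
  obtain ⟨g, e⟩ := h.full α ha c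
  exact ⟨⟨g, le_bsup (S := RG k ρ '' 𝒜) ⟨α, ha, rfl⟩ (Subgroup.subset_closure ⟨c, e⟩)⟩, e⟩

theorem RG_restrict (K : Subgroup Γ) (ha : α ∈ 𝒜) :
    RG k (ρ.comp K.subtype) α = (RG k ρ α).subgroupOf K := by
  ext x
  rw [Subgroup.mem_subgroupOf, mem_RG (h.sq α ha), mem_RG (h.sq α ha)]
  rfl

theorem image_restrict (K : Subgroup Γ) :
    RG k (ρ.comp K.subtype) '' 𝒜 = (fun B : Subgroup Γ => B.subgroupOf K) '' (RG k ρ '' 𝒜) := by
  rw [Set.image_image]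
  exact Set.image_congr fun α ha => h.RG_restrict K ha

theorem gen_restrict : (⨆ B ∈ RG k (ρ.comp (⨆ B ∈ RG k ρ '' 𝒜, B).subtype) '' 𝒜, B) = ⊤ := by
  rw [h.image_restrict]
  apply Subgroup.map_injective (⨆ B ∈ RG k ρ '' 𝒜, B).subtype_injective
  rw [← MonoidHom.range_eq_map, Subgroup.subtype_range]
  refine le_antisymm (Subgroup.map_subtype_le _) (iSup₂_le fun B hB => ?_)
  exact (Subgroup.map_subgroupOf_eq_of_le (le_bsup hB)).ge.trans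
    (Subgroup.map_mono (le_bsup ⟨B, hB, rfl⟩))

theorem conn_unrestrict
    (hc : IsConnectedFamily (FAdj (RG k (ρ.comp (⨆ B ∈ RG k ρ '' 𝒜, B).subtype) '' 𝒜))
      (RG k (ρ.comp (⨆ B ∈ RG k ρ '' 𝒜, B).subtype) '' 𝒜)) :
    IsConnectedFamily (FAdj (RG k ρ '' 𝒜)) (RG k ρ '' 𝒜) := by
  have e : ∀ α ∈ 𝒜, (RG k (ρ.comp (⨆ B ∈ RG k ρ '' 𝒜, B).subtype) α).map
      (⨆ B ∈ RG k ρ '' 𝒜, B).subtype = RG k ρ α := fun α ha => by
    rw [h.RG_restrict _ ha, Subgroup.map_subgroupOf_eq_of_le (le_bsup (S := RG k ρ '' 𝒜) ⟨α, ha, rfl⟩)]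
  rintro _ ⟨α, ha, rfl⟩ _ ⟨β, hb, rfl⟩
  rw [← e α ha, ← e β hb]
  refine Relation.ReflTransGen.lift (Subgroup.map (⨆ B ∈ RG k ρ '' 𝒜, B).subtype) ?_ _ _
    (hc _ ⟨α, ha, rfl⟩ _ ⟨β, hb, rfl⟩)
  rintro _ _ ⟨⟨γ, hc, rfl⟩, ⟨δ, hd, rfl⟩, r⟩
  exact ⟨⟨γ, hc, (e γ hc).symm⟩, ⟨δ, hd, (e δ hd).symm⟩,
    (RO.map_iff _ (Subgroup.subtype_injective _)).2 r⟩

end Sys

/-- in the commutator case the commutator group is connected to both members -/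
theorem conn_cc {S : Set (Subgroup Γ)} {A B : Subgroup Γ} (hS : IsRootSubgroupSet S)
    (hN : Root.AllNI S) (hA : A ∈ S) (hB : B ∈ S) (h : CC S A B) : Root.Conn S A ⁅A, B⁆ := by
  obtain ⟨D, hD, r⟩ := hN _ h.mem
  obtain ⟨b, hb, b1⟩ := exists_ne_one_of_ne_bot (hS.ne_bot B hB)
  obtain ⟨c, hc, c1⟩ := exists_ne_one_of_ne_bot (hS.ne_bot _ h.mem)
  have hA' := Root.cj_mem hS hA b
  have hcm : Comm A (cj b A) := Root.comm_cj_of_not_ro hS hB hA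
    (Root.cc_not_ro hS hA h.symm) hb
  have hc' : c ∈ A ⊔ cj b A := by
    rw [Root.sup_cj_cc h hb b1]; exact Subgroup.mem_sup_right hc
  have t : Root.Conn S D ⁅A, B⁆ := Root.Conn.of_ro hD h.mem (RO.symm r)
  rcases Root.ro_or_ro hS hA hD hA' r hcm hc c1 hc' with r' | r'
  · exact (Root.Conn.of_ro hA hD r').trans t
  · exact ((Root.conn_cj hS hA (hN _ hA) b).trans (Root.Conn.of_ro hA' hD r')).trans t

theorem conn_of_not_comm {S : Set (Subgroup Γ)} {A B : Subgroup Γ} (hS : IsRootSubgroupSet S)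
    (hN : Root.AllNI S) (hA : A ∈ S) (hB : B ∈ S) (h : ¬ Comm A B) : Root.Conn S A B := by
  rcases Root.cases hS hA hB with c | r | c
  · exact absurd c h
  · exact Root.Conn.of_ro hA hB r
  · refine (conn_cc hS hN hA hB c).trans ?_
    rw [Subgroup.commutator_comm]
    exact (conn_cc hS hN hB hA c.symm).symm

end Cfsg.Agent.H3.Ex
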