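import Cfsg.Agent.H3.PC

/-! Blackburn's classification of the `p`-groups of rank two, `p` odd. -/

set_option autoImplicit false
set_option linter.unusedSectionVars false
set_option linter.style.haveILetI false

namespace Cfsg.Agent.H3
open Cfsg Subgroup Cfsg.Agent.FT
open scoped commutatorElement
universe u

variable {G : Type u} [Group G] [Finite G] {p n : ℕ} [hp : Fact p.Prime] {T V W : Subgroup G} {x y z c g : G}

theorem conj_pow_cubic {b : G} (h : Commute x ⁅x, ⁅x, b⁆⁆) (h' : Commute ⁅x, ⁅x, b⁆⁆ ⁅x, b⁆) (k : ℕ) :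
    x ^ k * b * (x ^ k)⁻¹ = ⁅x, ⁅x, b⁆⁆ ^ k.choose 2 * ⁅x, b⁆ ^ k * b := by
  have e1 := conj_eq_comm_mul x b
  generalize ⁅x, b⁆ = c at *
  have e2 := conj_eq_comm_mul x c
  generalize ⁅x, c⁆ = d at *
  have e3 : x * d * x⁻¹ = d := by rw [h.eq]; group
  induction k with
  | zero => simp
  | succ k ih =>
    have h2 : (k + 1).choose 2 = k.choose 2 + k := by
      rw [Nat.choose_succ_succ' k 1, Nat.choose_one_right, add_comm]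
    calc x ^ (k + 1) * b * (x ^ (k + 1))⁻¹ = x * (x ^ k * b * (x ^ k)⁻¹) * x⁻¹ := by group
      _ = (x * d * x⁻¹) ^ k.choose 2 * (x * c * x⁻¹) ^ k * (x * b * x⁻¹) := by
        rw [ih, conj_pow, conj_pow]; group
      _ = _ := by rw [e1, e2, e3, h'.mul_pow, h2]; group

theorem abc (h : Ab V) (hx : x ∈ V) (hy : y ∈ V) : Commute x y := ab_iff_forall.1 h x hx y hy

theorem sq_act (hV : Abelem p V) (cV : #V = p ^ 2) (hx : PGrp p ⟪x⟫) (hn : x ∈ N(V)) (hc : x ∉ C(V)) :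
    #(V ⊓ C[x]) = p ∧ ∀ v ∈ V, ⁅x, v⁆ ∈ V ⊓ C[x] := by
  have e : PnElem p 2 V V := ⟨hp.out, le_rfl, hV, cV⟩
  have n := zpowers_le.2 hn
  have v1 := e.ne_bot
  have v2 := hx.meet_cen e.pGrp n v1
  rw [cen_zpowers] at v2
  refine ⟨(e.one_of_lt (inf_lt_left.2 fun k => hc (le_cen1.1 k)) v2).card_one, fun v hv => ?_⟩
  have l : ⁅V, ⟪x⟫⁆ ≤ V ⊓ C[x] := le_inf (comm_le_left n) (by
    by_cases k : ⁅V, ⟪x⟫⁆ = ⊥
    · rw [k]; exact bot_le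
    · rw [← cen_zpowers]
      exact centsC (hx.cents_of_prime (e.one_of_lt (hx.comm_lt e.pGrp n v1) k).card_one hp.out (normsR n (le_nrm _))))
  rw [commC] at l
  exact l (commutator_mem_commutator (mem_zpowers x) hv)

theorem Reg.mono (h : Reg p T) (hW : W ≤ T) : Reg p W := h.of_injective (inclusion hW) (inclusion_injective hW)

theorem Reg.mul_pow_of_mem (h : Reg p T) (hT : PGrp p T) (hx : x ∈ T) (hy : y ∈ T) (e : ⁅x, y⁆ ^ p = 1) :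
    (x * y) ^ p = x ^ p * y ^ p :=
  congrArg Subtype.val (h.mul_pow_of_comm_pow hT.isPGroup (x := ⟨x, hx⟩) (y := ⟨y, hy⟩) (Subtype.ext e))

theorem Reg.commute_of_mem (h : Reg p T) (hT : PGrp p T) (hx : x ∈ T) (hy : y ∈ T) :
    Commute (x ^ p) y ↔ ⁅x, y⁆ ^ p = 1 := by
  have := h.commute_pow_iff hT.isPGroup 1 ⟨x, hx⟩ ⟨y, hy⟩
  rw [pow_one, Subtype.ext_iff, commute_iff_eq, Subtype.ext_iff] at this
  exact this

theorem Reg.relIndex_mho (h : Reg p T) (hT : PGrp p T) : ℧[p](T).relIndex T = #Ω[p](T) :=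
  Nat.eq_of_mul_eq_mul_left (card_pos ℧[p](T)) (by
    rw [FT.card_mul_relIndex (Mho_le p T), mul_comm, h.card_omegaOne_mul hT.isPGroup])

theorem Reg.comm_sq (h : Reg p T) (hT : PGrp p T) (c : #Ω[p](T) ≤ p ^ 2) (hx : x ∈ T) (hy : y ∈ T)
    (e : (x ^ p) ^ p = 1) (e' : (y ^ p) ^ p = 1) : ⁅x, y⁆ ^ p = 1 := by
  obtain ⟨W, hW⟩ : ∃ W : Subgroup G, ∀ w, w ∈ W ↔ w ∈ T ∧ (w ^ p) ^ p = 1 :=
    ⟨(h.omega hT.isPGroup 2).map T.subtype, fun w => ⟨by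
      rintro ⟨w, k, rfl⟩; exact ⟨w.2, by rw [← pow_mul, ← sq]; exact congrArg Subtype.val k⟩,
      fun k => ⟨⟨w, k.1⟩, Subtype.ext (show w ^ p ^ 2 = 1 by rw [sq, pow_mul, k.2]), rfl⟩⟩⟩
  have l : W ≤ T := fun w k => ((hW w).1 k).1
  have pW := hT.mono l
  have i : Ω[p](W).relIndex W ≤ p ^ 2 := by
    rw [← Nat.eq_of_mul_eq_mul_left (card_pos Ω[p](W)) (((h.mono l).card_omegaOne_mul pW.isPGroup).trans
      (FT.card_mul_relIndex (Ohm_le p W)).symm)]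
    exact (card_le (Mho_le_iff.2 fun w k => mem_Ohm (pow_mem (l k) p) ((hW w).1 k).2)).trans c
  obtain ⟨a, ha⟩ := pW.card
  obtain ⟨b, hb⟩ := (pW.mono (Ohm_le p W)).card
  have j := (relIndex_eq_pow hp.out (Ohm_le p W) ha hb).2
  exact (((h.mono l).mem_omegaOne_of_mem pW.isPGroup).1 (der_le_of_relIndex_dvd_sq hp.out (Ohm_nml p W).nrm
    (j ▸ pow_dvd_pow p ((Nat.pow_le_pow_iff_right hp.out.one_lt).1 (j ▸ i)))
    (commutator_mem_commutator ((hW x).2 ⟨hx, e⟩) ((hW y).2 ⟨hy, e'⟩)))).2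

theorem Reg.exists_gen (h : Reg p T) (hT : PGrp p T) (c : #Ω[p](T) = p ^ 2) (hy : y ∈ Ω[p](T))
    (hn : ¬ ∃ w ∈ T, y = w ^ p) : ∃ g, Ω[p](T) ⊔ ⟪g⟫ = T := by
  have i := (h.relIndex_mho hT).trans c
  have e : Phi T = ℧[p](T) := by
    rw [hT.Phi_eq hp.out, sup_eq_right.2 (der_le_of_relIndex_dvd_sq hp.out (Mho_nml p T).nrm i.dvd)]
  obtain ⟨g, k⟩ := exists_gen_of_not_mem hT (e.symm ▸ i.dvd) (Ohm_le p T hy)
    (by rwa [e, h.mem_powerClosure_of_mem hT.isPGroup])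
  exact ⟨g, (sup_le (Ohm_le p T) (le_sup_right.trans k.le)).antisymm (k.ge.trans (sup_le_sup_right (zpowers_le.2 hy) _))⟩

theorem Reg.not_commute (h2 : p ≠ 2) (h : Reg p T) (hT : PGrp p T) (cV : #Ω[p](T) = p ^ 2)
    (hr : ∀ v ∈ Ω[p](T), ∃ w ∈ T, v = w ^ p) (hx : PGrp p ⟪x⟫) (hn : x ∈ N(T)) (hc : x ∉ C(Ω[p](T))) (cT : c ∈ T)
    (cx : c ∈ C[x]) (c1 : c ^ p ≠ 1) (c2 : (c ^ p) ^ p = 1) : ∃ w ∈ T, (w ^ p) ^ p = 1 ∧ ¬ Commute (x ^ p) w := by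
  have m := fun y => h.mem_omegaOne_of_mem hT.isPGroup (x := y)
  have hV : Abelem p Ω[p](T) := abelem_Ohm_of_ab (ab_of_card_sq hp.out cV)
  obtain ⟨z1, z2⟩ := sq_act hV cV hx (norms_Ohm p le_rfl hn) hc
  obtain ⟨v, hv, vx⟩ : ∃ v ∈ Ω[p](T), ⁅x, v⁆ ≠ 1 := by
    by_contra! k
    exact hc (FT.mem_cen.2 fun v hv => (commutatorElement_eq_one_iff_commute.1 (k v hv)).symm)
  obtain ⟨w, hw, rfl⟩ := hr v hv
  obtain ⟨j, hj⟩ := mem_powers_iff_mem_zpowers.2 (eq_zpowers_of_prime (z1.symm ▸ hp.out)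
    ⟨mem_Ohm (pow_mem cT p) c2, pow_mem cx p⟩ c1 ▸ z2 _ hv)
  have hj : (c ^ j) ^ p = ⁅x, w ^ p⁆ := by rw [← hj, ← pow_mul, mul_comm, pow_mul]
  have d2 : ((c ^ j) ^ p) ^ p = 1 := by rw [hj]; exact hV.pow (z2 _ hv).1
  have dT := pow_mem cT j
  have dx := mem_cen1.1 (pow_mem cx j)
  generalize c ^ j = d at hj d2 dT dx
  have xw : x * w * x⁻¹ ∈ T := (mem_normalizer_iff.1 hn w).1 hw
  have hu : x * w * x⁻¹ * (d * w)⁻¹ ∈ Ω[p](T) := (m _).2 ⟨mul_mem xw (inv_mem (mul_mem dT hw)),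
    (h.pow_eq_pow_of_mem hT.isPGroup xw (mul_mem dT hw)).1 (by
      rw [h.mul_pow_of_mem hT dT hw (h.comm_sq hT cV.le dT hw d2 (hV.pow hv)), hj, conj_pow, conj_eq_comm_mul])⟩
  have e : ⁅x, w⁆ = x * w * x⁻¹ * (d * w)⁻¹ * d := by rw [commutatorElement_def]; group
  generalize x * w * x⁻¹ * (d * w)⁻¹ = u at hu e
  have cd : ∀ v ∈ Ω[p](T), Commute v d := fun v hv => by
    obtain ⟨t, ht, rfl⟩ := hr v hv
    exact (h.commute_of_mem hT ht dT).2 (h.comm_sq hT cV.le ht dT (hV.pow hv) d2)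
  have e2 : ⁅x, ⁅x, w⁆⁆ = ⁅x, u⁆ := by
    rw [e, comm_mul_right, commutatorElement_eq_one_iff_commute.2 dx.symm]; simp
  refine ⟨w, hw, hV.pow hv, fun k => vx ?_⟩
  have := conj_pow_cubic (b := w) (e2 ▸ (mem_cen1.1 (z2 u hu).2).symm) (by
    rw [e2, e]; exact (abc hV.ab (z2 u hu).1 hu).mul_right (cd _ (z2 u hu).1)) p
  rw [k.eq, mul_inv_cancel_right, e2, choose_pow h2 (hV.pow (z2 u hu).1), e, (cd u hu).mul_pow, hV.pow hu, hj] at this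
  simpa using this

theorem gen3 (hT : T.index = p) (hz : z ∈ T) (hi : ⟪z⟫.relIndex T = p) (hy : y ∈ T) (yz : y ∉ ⟪z⟫) (hx : x ∉ T) :
    closure ({x⁻¹, y, z} : Set G) = ⊤ := by
  have l : T ≤ closure ({x⁻¹, y, z} : Set G) := inf_eq_right.1 ((eq_or_eq_of_prime_relIndex (hi.symm ▸ hp.out)
    (le_inf (zpowers_le.2 (subset_closure (by simp))) (zpowers_le.2 hz)) inf_le_right).resolve_left fun e =>
      yz (e ▸ ⟨subset_closure (by simp), hy⟩))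
  exact (eq_or_eq_of_prime_relIndex (by rw [relIndex_top_right, hT]; exact hp.out) l le_top).resolve_left
    fun e => hx (inv_mem_iff.1 (e ▸ subset_closure (by simp)))

theorem blk_A (h2 : p ≠ 2) (hG : Nat.card G = p ^ n) [V.Normal] (hV : Abelem p V) (cV : #V = p ^ 2)
    (r : ∀ g ∈ C(V), g ^ p = 1 → g ∈ V) (hx : x ∉ C(V)) (x1 : x ^ p = 1) (hc : ∀ t ∈ C(V), ⁅x, t⁆ ∈ V) :
    (3 ≤ n ∧ ∃ x y z : G, closure ({x, y, z} : Set G) = ⊤ ∧ x ^ p = 1 ∧ y ^ p = 1 ∧ z ^ p ^ (n - 2) = 1 ∧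
        x * z = z * x ∧ y * z = z * y ∧ x⁻¹ * y * x = y * z ^ p ^ (n - 3)) ∨
    (4 ≤ n ∧ ∃ (s : ℕ) (x y z : G), (s = 1 ∨ ¬ IsSquare (s : ZMod p)) ∧ closure ({x, y, z} : Set G) = ⊤ ∧
        x ^ p = 1 ∧ y ^ p = 1 ∧ z ^ p ^ (n - 2) = 1 ∧ y * z = z * y ∧ x⁻¹ * y * x = y * z ^ (s * p ^ (n - 3)) ∧
        x⁻¹ * z * x = y * z) := by
  have pG := IsPGroup.of_card hG
  have pT := pGrp_top pG
  have iT := index_centralizer_eq_p pG V cV.le fun k => hx fun v hv => (mem_center_iff.1 (k hv) x).symm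
  obtain ⟨z1, z2⟩ := sq_act hV cV (pT.mono le_top) (mem_normalizer_of_normal _ _) hx
  have VT := hV.ab.le_cen
  have cm : ∀ t ∈ C(V), ∀ v ∈ V, Commute v t := fun t ht v hv => FT.mem_cen.1 ht v hv
  let f : C(V) →* G := MonoidHom.mk' (fun t => ⁅x, (t : G)⁆) fun a b => by
    rw [coe_mul, comm_mul_right, ← (cm _ a.2 _ (hc _ b.2)).eq, mul_inv_cancel_right]
  have fp : ∀ t ∈ C(V), ∀ i : ℕ, ⁅x, t ^ i⁆ = ⁅x, t⁆ ^ i := fun t ht i => map_pow f ⟨t, ht⟩ i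
  have tx : ∀ u, ⁅x, u⁆ = 1 ↔ u ∈ C[x] := fun u =>
    commutatorElement_eq_one_iff_mul_comm.trans (eq_comm.trans mem_cen1.symm)
  have cT : p * #C(V) = p ^ n := by rw [← hG, ← C(V).card_mul_index, iT, mul_comm]
  have cD : #(C(V) ⊓ C[x]) * #f.range = #C(V) := by
    rw [← FT.card_mul_relIndex (inf_le_left (a := C(V)) (b := C[x])), inf_relIndex_left, ← index_ker, relIndex,
      show f.ker = C[x].subgroupOf C(V) from Subgroup.ext fun t => tx t]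
  have ZD : V ⊓ C[x] ≤ C(V) ⊓ C[x] := inf_le_inf_right _ VT
  obtain ⟨d, hd⟩ := (pT.mono (le_top (a := C(V) ⊓ C[x]))).card
  have d1 : 1 ≤ d := (Nat.pow_le_pow_iff_right hp.out.one_lt).1 (by rw [pow_one, ← hd, ← z1]; exact card_le ZD)
  have cyc : ∀ D : Subgroup G, (∀ u ∈ D, u ^ p = 1 → u ∈ V ⊓ C[x]) → ∀ k, #D = p ^ (k + 1) →
      ∃ z ∈ D, D = ⟪z⟫ ∧ z ^ p ^ (k + 1) = 1 ∧ z ^ p ^ k ≠ 1 ∧ V ⊓ C[x] = ⟪z ^ p ^ k⟫ := fun D h k e => by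
    obtain ⟨z, hz, e1, e2⟩ := Cyc.exists_gen (isCyclic_of_forall_mem h2 (pG.to_subgroup D)
      (cyc_of_prime (z1.symm ▸ hp.out)) h)
    have a : z ^ p ^ (k + 1) = 1 := e ▸ pow_card hz
    have b : z ^ p ^ k ≠ 1 := fun b => absurd (Nat.le_of_dvd (pow_pos hp.out.pos k) (orderOf_dvd_of_pow_eq_one b))
      (by rw [e2, e]; exact (Nat.pow_lt_pow_right hp.out.one_lt k.lt_succ_self).not_ge)
    exact ⟨z, hz, e1, a, b, eq_zpowers_of_prime (z1.symm ▸ hp.out) (h _ (pow_mem hz _) (by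
      rw [← pow_mul, ← pow_succ, a])) b⟩
  obtain ⟨y, hy, yx⟩ : ∃ v ∈ V, ⁅x, v⁆ ≠ 1 := by
    by_contra! k
    exact hx (FT.mem_cen.2 fun v hv => (commutatorElement_eq_one_iff_commute.1 (k v hv)).symm)
  have e0 := eq_zpowers_of_prime (z1.symm ▸ hp.out) (z2 y hy) yx
  have ZR : V ⊓ C[x] ≤ f.range := e0.le.trans (zpowers_le.2 ⟨⟨y, VT hy⟩, rfl⟩)
  obtain ⟨d, rfl⟩ : ∃ k, d = k + 1 := ⟨d - 1, by omega⟩
  by_cases k : ∀ t ∈ C(V), ⁅x, t⁆ ∈ V ⊓ C[x]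
  · left
    rw [← ZR.antisymm (by rintro _ ⟨t, rfl⟩; exact k _ t.2), z1] at cD
    obtain rfl : n = d + 3 := Nat.pow_right_injective hp.out.two_le (by
      show p ^ n = p ^ (d + 3); rw [← cT, ← cD, hd]; ring)
    obtain ⟨z, hz, e1, e2, e3, e4⟩ := cyc (C(V) ⊓ C[x]) (fun u hu e => ⟨r u hu.1 e, hu.2⟩) d hd
    obtain ⟨j, hj⟩ := mem_powers_iff_mem_zpowers.2 (e0 ▸ e4 ▸ mem_zpowers (z ^ p ^ d))
    have hj : ⁅x, y ^ j⁆ = z ^ p ^ d := (fp y (VT hy) j).trans hj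
    have hy := pow_mem hy j
    generalize y ^ j = y at hj hy
    refine ⟨by omega, x⁻¹, y, z, gen3 iT hz.1 ?_ (VT hy) (fun k => e3 ?_) hx, by rw [inv_pow, x1, inv_one], hV.pow hy,
      e2, (Commute.inv_left (mem_cen1.1 hz.2).symm).eq, cm z hz.1 y hy, ?_⟩
    · exact Nat.eq_of_mul_eq_mul_left (card_pos _) ((FT.card_mul_relIndex (zpowers_le.2 hz.1)).trans (e1 ▸ cD.symm))
    · rw [← hj]; exact commutatorElement_eq_one_iff_mul_comm.2 (mem_cen1.1 (e1.ge k).2).symm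
    · rw [inv_inv, conj_eq_comm_mul, hj]; exact ((cm z hz.1 y hy).pow_right _).symm
  · right
    obtain ⟨t, ht, tz⟩ : ∃ t ∈ C(V), ⁅x, t⁆ ∉ V ⊓ C[x] := by simpa only [not_forall, exists_prop] using k
    have RV : f.range = V := le_antisymm (by rintro _ ⟨t, rfl⟩; exact hc _ t.2) (eq_of_card_le (by
      rintro _ ⟨t, rfl⟩; exact hc _ t.2) (by
        rw [cV, sq, ← z1]
        conv_lhs => arg 1; rw [z1]
        exact (pT.mono le_top).mul_card_le (lt_of_le_of_ne ZR fun e => tz (e ▸ ⟨⟨t, ht⟩, rfl⟩)))).ge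
    rw [RV, cV] at cD
    obtain rfl : n = d + 4 := Nat.pow_right_injective hp.out.two_le (by
      show p ^ n = p ^ (d + 4); rw [← cT, ← cD, hd]; ring)
    have nt : t ∈ N(C(V) ⊓ C[x]) := mem_normalizer_of_conj_mem fun u hu => ⟨C(V).mul_mem (C(V).mul_mem ht hu.1) (C(V).inv_mem ht), by
      have := map_mul f (⟨t, ht⟩ * ⟨u, hu.1⟩) ⟨t, ht⟩⁻¹
      rw [map_mul f ⟨t, ht⟩, map_inv, show f ⟨u, hu.1⟩ = 1 from (tx u).2 hu.2, mul_one, mul_inv_cancel] at this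
      exact (tx _).1 this⟩
    have fD : ∀ u ∈ C(V) ⊓ C[x] ⊔ ⟪t⟫, ⁅x, u⁆ ∈ ⟪⁅x, t⁆⟫ := fun u hu => by
      obtain ⟨a, ha, i, rfl⟩ := (mem_sup_zpowers_iff_nat nt).1 hu
      have := map_mul f ⟨a, ha.1⟩ (⟨t, ht⟩ ^ i)
      rw [show f ⟨a, ha.1⟩ = 1 from (tx a).2 ha.2, one_mul, map_pow] at this
      exact (show ⁅x, a * t ^ i⁆ = ⁅x, t⁆ ^ i from this) ▸ pow_mem (mem_zpowers _) i
    have i0 : ⟪⁅x, t⁆⟫ ⊓ (V ⊓ C[x]) = ⊥ := prime_inf_of_not_le (by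
      rw [card_zpowers_of_pow_prime (hV.pow (hc t ht)) fun e => tz (e ▸ one_mem _)]; exact hp.out)
      fun l => tz (l (mem_zpowers _))
    have DT : C(V) ⊓ C[x] ⊔ ⟪t⟫ ≤ C(V) := sup_le inf_le_left (zpowers_le.2 ht)
    have tD : t ∉ C(V) ⊓ C[x] := fun k => tz ((tx t).2 k.2 ▸ one_mem _)
    have oD : ∀ u ∈ C(V) ⊓ C[x] ⊔ ⟪t⟫, u ^ p = 1 → u ∈ V ⊓ C[x] := fun u hu e =>
      ⟨r u (DT hu) e, (tx u).1 (mem_bot.1 (i0 ▸ ⟨fD u hu, z2 u (r u (DT hu) e)⟩))⟩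
    have cD' := card_sup_zpowers hp.out nt tD ⟨pow_mem ht p, (tx _).1 ((fp t ht p).trans (hV.pow (hc t ht)))⟩
    rw [hd, ← pow_succ'] at cD'
    obtain ⟨z, hz, e1, e2, e3, e4⟩ := cyc _ oD _ cD'
    have zT := DT hz
    have iz : ⟪z⟫.relIndex C(V) = p := Nat.eq_of_mul_eq_mul_left (card_pos _)
      ((FT.card_mul_relIndex (zpowers_le.2 zT)).trans (by rw [← e1, cD', ← cD, hd]; ring))
    have fin : ∀ (s : ℕ) (X : G), (s = 1 ∨ ¬ IsSquare (s : ZMod p)) → X ^ p = 1 → ⁅X, z⁆ ∈ V → Commute X (z ^ p ^ (d + 1)) →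
        (∀ u ∈ C[x], Commute X u) → ⁅X, ⁅X, z⁆⁆ = (z ^ p ^ (d + 1)) ^ s → ⁅X, ⁅X, z⁆⁆ ≠ 1 → _ := fun s X a1 a2 a3 _ a5 a6 a7 =>
      (⟨s, X⁻¹, ⁅X, z⁆, z, a1, gen3 iT zT iz (VT a3) (fun k => a7 (commutatorElement_eq_one_iff_commute.2
        (a5 _ (oD _ (e1 ▸ k) (hV.pow a3)).2))) fun k => a7 (commutatorElement_eq_one_iff_commute.2 (cm X k _ a3).symm),
        by rw [inv_pow, a2, inv_one], hV.pow a3, e2, cm z zT _ a3, by
          rw [inv_inv, conj_eq_comm_mul, a6, ← pow_mul, mul_comm _ s]; exact ((cm z zT _ a3).pow_right _).symm,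
        by rw [inv_inv, conj_eq_comm_mul]⟩ : ∃ (s : ℕ) (x y z : G), (s = 1 ∨ ¬ IsSquare (s : ZMod p)) ∧
        closure ({x, y, z} : Set G) = ⊤ ∧ x ^ p = 1 ∧ y ^ p = 1 ∧ z ^ p ^ (d + 4 - 2) = 1 ∧ y * z = z * y ∧
        x⁻¹ * y * x = y * z ^ (s * p ^ (d + 4 - 3)) ∧ x⁻¹ * z * x = y * z)
    have yV := hc z zT
    have w := e4 ▸ mem_zpowers (z ^ p ^ (d + 1))
    have y1 : ⁅x, ⁅x, z⁆⁆ ≠ 1 := fun e => tD (by
      have : z ∈ C[x] := (tx z).1 (mem_bot.1 (i0 ▸ ⟨fD z hz, yV, (tx _).1 e⟩))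
      exact zpowers_le.2 (mem_inf.2 ⟨zT, this⟩) (e1 ▸ mem_sup_right (mem_zpowers t)))
    obtain ⟨s, hs⟩ := mem_powers_iff_mem_zpowers.2 (e4 ▸ z2 _ yV)
    have hs : (z ^ p ^ (d + 1)) ^ s = ⁅x, ⁅x, z⁆⁆ := hs
    refine ⟨by omega, ?_⟩
    by_cases q : IsSquare (s : ZMod p)
    swap
    · exact fin s x (Or.inr q) x1 yV (mem_cen1.1 w.2).symm (fun u hu => (mem_cen1.1 hu).symm) hs.symm y1
    obtain ⟨a, ha⟩ : ∃ a : ℕ, s * (a * a) ≡ 1 [MOD p] := by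
      obtain ⟨b, hb⟩ := q
      have b0 : b ≠ 0 := by
        rintro rfl
        obtain ⟨k, rfl⟩ := (ZMod.natCast_eq_zero_iff _ _).1 (hb.trans (mul_zero _))
        exact y1 (by rw [← hs, pow_mul, hV.pow w.1, one_pow])
      refine ⟨b⁻¹.val, (ZMod.natCast_eq_natCast_iff _ _ _).1 ?_⟩
      push_cast
      rw [ZMod.natCast_zmod_val, hb]; field_simp
    have c1 : Commute x ⁅x, ⁅x, z⁆⁆ := (mem_cen1.1 (z2 _ yV).2).symm
    have c2 := abc hV.ab (z2 _ yV).1 yV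
    have e5 : ⁅x ^ a, z⁆ = ⁅x, ⁅x, z⁆⁆ ^ a.choose 2 * ⁅x, z⁆ ^ a := by
      rw [commutatorElement_def (x ^ a), conj_pow_cubic c1 c2, mul_inv_cancel_right]
    have e6 : ⁅x ^ a, ⁅x ^ a, z⁆⁆ = (z ^ p ^ (d + 1)) ^ 1 := by
      rw [e5, comm_mul_right, commutatorElement_eq_one_iff_commute.2 (c1.pow_pow _ _), comm_pow_pow c1 c2.symm, one_mul,
        ← ((Commute.refl _).pow_pow _ _).eq, mul_inv_cancel_right, ← hs, ← pow_mul]
      exact pow_eq_pow_of_modEq ha (hV.pow w.1)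
    exact fin 1 (x ^ a) (Or.inl rfl) (by rw [← pow_mul, mul_comm, pow_mul, x1, one_pow])
      (e5 ▸ mul_mem (pow_mem (z2 _ yV).1 _) (pow_mem yV _)) (Commute.pow_left (mem_cen1.1 w.2).symm _)
      (fun u hu => Commute.pow_left (mem_cen1.1 hu).symm _) e6 (by rwa [e6, pow_one])

end Cfsg.Agent.H3
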