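import Cfsg.Agent.H3.Blk

/-! Blackburn's classification of the `p`-groups of rank two, `p` odd: the case `p = 3` and the theorem. -/

set_option autoImplicit false
set_option linter.unusedSectionVars false
set_option linter.style.haveILetI false

namespace Cfsg.Agent.H3
open Cfsg Subgroup Cfsg.Agent.FT
open scoped commutatorElement IsMulCommutative
universe u

variable {G : Type u} [Group G] [Finite G] {p n : ℕ} [hp : Fact p.Prime] {T V W D : Subgroup G} {x y z c g : G}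

theorem mem_zp_pow (hG : IsPGroup p G) {k : ℕ} (h : ¬ p ∣ k) (g : G) : g ∈ ⟪g ^ k⟫ := by
  obtain ⟨j, e⟩ := IsPGroup.iff_orderOf.1 hG g
  rw [mem_zpowers_pow_iff, e]
  exact ((hp.out.coprime_iff_not_dvd.2 h).symm.pow_right j)

theorem cube_comm {A : Type*} [CommGroup A] (φ : A →* A) {g v z : A} {b : ℕ} (h1 : φ g = v * g ^ (3 * b + 1))
    (h2 : φ v = z * v) (h3 : φ z = z) (v3 : v ^ 3 = 1) (z3 : z ^ 3 = 1) (h4 : φ (φ (φ g)) = g) :
    (g ^ (9 * b)) ^ (3 * (b * b + b) + 1) = 1 ∧ (g ^ (9 * b) = 1 → g * φ g * φ (φ g) = z * g ^ 3) := by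
  have e1 : v ^ (3 * b + 1) = v := by rw [pow_succ, pow_mul, v3, one_pow, one_mul]
  have e2 : φ (φ g) = z * v ^ 2 * g ^ ((3 * b + 1) * (3 * b + 1)) := by
    rw [h1, map_mul, map_pow, h1, h2, mul_pow, e1, pow_mul, sq, mul_assoc, mul_assoc, mul_assoc]
  constructor
  · rw [e2, map_mul, map_mul, map_pow, map_pow, h3, h2, h1, mul_pow v, pow_mul v, e1, e1,
      show z * (z * v) ^ 2 * (v * (g ^ (3 * b + 1)) ^ ((3 * b + 1) * (3 * b + 1))) =
        z ^ 3 * v ^ 3 * ((g ^ (9 * b)) ^ (3 * (b * b + b) + 1) * g) by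
          rw [← pow_mul, ← pow_mul, ← pow_succ, show (3 * b + 1) * ((3 * b + 1) * (3 * b + 1)) =
            9 * b * (3 * (b * b + b) + 1) + 1 by ring, mul_pow, pow_succ' z 2, pow_succ v 2]
          simp only [mul_assoc, mul_comm, mul_left_comm], z3, v3] at h4
    simpa using h4
  · intro k
    rw [e2, h1, show g * (v * g ^ (3 * b + 1)) * (z * v ^ 2 * g ^ ((3 * b + 1) * (3 * b + 1))) =
      z * v ^ 3 * (g ^ 1 * g ^ (3 * b + 1) * g ^ ((3 * b + 1) * (3 * b + 1))) by rw [pow_succ v 2, pow_one]; ac_rfl,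
      ← pow_add, ← pow_add, show 1 + (3 * b + 1) + (3 * b + 1) * (3 * b + 1) = 9 * b * (b + 1) + 3 by ring, pow_add,
      pow_mul g (9 * b), k, v3]
    simp

theorem blk_three (hG : IsPGroup 3 G) [V.Normal] (hV : Abelem 3 V) (cV : #V = 3 ^ 2)
    (r : ∀ g ∈ C(V), g ^ 3 = 1 → g ∈ V) (hx : x ∉ C(V)) (hg : V ⊔ ⟪g⟫ = C(V)) (cT : c ∈ C(V)) (cx : c ∈ C[x])
    (c1 : c ^ 3 ≠ 1) (c2 : (c ^ 3) ^ 3 = 1) (ht : x ^ 3 ∈ ℧[3](C(V))) :
    ∃ x' ∉ C(V), x' ^ 3 = 1 ∧ ∀ t ∈ C(V), ⁅x', t⁆ ∈ V := by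
  haveI : Fact (Nat.Prime 3) := ⟨Nat.prime_three⟩
  have pT := pGrp_top hG
  obtain ⟨z1, z2⟩ := sq_act hV cV (pT.mono le_top) (mem_normalizer_of_normal _ _) hx
  have VT := hV.ab.le_cen
  have gT : g ∈ C(V) := hg ▸ mem_sup_right (mem_zpowers g)
  haveI ab : Ab C(V) := hg ▸ hV.ab.sup (ab_zpowers g) (zpowers_le.2 gT)
  have el : ∀ t ∈ C(V), ∃ v ∈ V, ∃ i : ℕ, t = v * g ^ i := fun t ht =>
    (mem_sup_zpowers_iff_nat (mem_normalizer_of_normal _ _)).1 (hg ▸ ht)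
  have cu : ∀ t ∈ C(V), ∃ i : ℕ, t ^ 3 = (g ^ 3) ^ i := fun t ht => by
    obtain ⟨v, hv, i, rfl⟩ := el t ht
    exact ⟨i, by rw [(abc ab (VT hv) (pow_mem gT i)).mul_pow, hV.pow hv, one_mul, ← pow_mul, ← pow_mul, mul_comm]⟩
  have xT : ∀ t ∈ C(V), ⁅x, t⁆ ∈ C(V) := fun t ht => comm_mem_of_mem_normalizer_left (mem_normalizer_of_normal _ _) ht
  obtain ⟨v, hv, a, ha⟩ := el _ (xT g gT)
  obtain ⟨b, rfl⟩ : 3 ∣ a := by_contra fun k => c1 (hV.pow (pT.nil.le_of_le_sup_comm le_top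
    (by rw [normalizer_eq_top]) (hg.ge.trans (sup_le le_sup_left (zpowers_le.2 (zpowers_le.2 (by
      rw [eq_inv_mul_iff_mul_eq.2 ha.symm]
      exact mul_mem (mem_sup_left (inv_mem hv)) (mem_sup_right (by
        rw [commC]; exact commutator_mem_commutator (mem_top x) gT)))
      (mem_zp_pow hG k g))))) cT))
  let φ : C(V) →* C(V) := (MulAut.conjNormal x : MulAut C(V)).toMonoidHom
  have hφ : ∀ t : C(V), (φ t : G) = x * t * x⁻¹ := fun _ => rfl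
  have x3 : x ^ 3 ∈ C(V) := Mho_le _ _ ht
  obtain ⟨k1, k2⟩ := cube_comm φ (g := ⟨g, gT⟩) (v := ⟨v, VT hv⟩) (z := ⟨_, VT (z2 v hv).1⟩) (b := b)
    (Subtype.ext (by rw [hφ, conj_eq_comm_mul, ha, mul_assoc, ← pow_succ]; rfl))
    (Subtype.ext (by rw [hφ, conj_eq_comm_mul]; rfl))
    (Subtype.ext (by rw [hφ, ← mem_cen1.1 (z2 v hv).2, mul_inv_cancel_right])) (Subtype.ext (hV.pow hv))
    (Subtype.ext (hV.pow (z2 v hv).1)) (Subtype.ext (by
      rw [hφ, hφ, hφ, show x * (x * (x * g * x⁻¹) * x⁻¹) * x⁻¹ = x ^ 3 * g * (x ^ 3)⁻¹ by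
        rw [pow_three']; group, (abc ab x3 gT).eq, mul_inv_cancel_right]))
  have k3 : (⟨g, gT⟩ : C(V)) ^ (9 * b) = 1 := by
    have := mem_zp_pow (hG.to_subgroup _) (k := 3 * (b * b + b) + 1) (by omega) ((⟨g, gT⟩ : C(V)) ^ (9 * b))
    rwa [k1, zpowers_one_eq_bot, mem_bot] at this
  let N : C(V) →* C(V) := MonoidHom.id _ * φ * φ.comp φ
  have m : g ^ 3 ∈ N.range.map C(V).subtype := by
    obtain ⟨i, hi⟩ := cu c cT
    obtain ⟨j, hj⟩ := mem_powers_iff_mem_zpowers.2 (eq_zpowers_of_prime (z1.symm ▸ Nat.prime_three)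
      ⟨r _ (pow_mem cT 3) c2, pow_mem cx 3⟩ c1 ▸ z2 _ hv)
    by_cases k : 3 ∣ i
    · refine zpowers_le.2 ?_ (mem_zp_pow hG (k := i * j + 1) (fun e => absurd ((Nat.dvd_add_right
        (k.mul_right j)).1 e) (by decide)) _)
      exact ⟨_, ⟨⟨g, gT⟩, rfl⟩, (congrArg Subtype.val (k2 k3)).trans (show ⁅x, v⁆ * g ^ 3 = _ by
        rw [pow_succ (g ^ 3), pow_mul, ← hi, ← hj])⟩
    · refine zpowers_le.2 ?_ (mem_zp_pow hG k _)
      have : φ ⟨c, cT⟩ = ⟨c, cT⟩ := Subtype.ext (by rw [hφ, ← mem_cen1.1 cx, mul_inv_cancel_right])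
      refine ⟨_, ⟨⟨c, cT⟩, rfl⟩, ?_⟩
      show ((⟨c, cT⟩ * φ ⟨c, cT⟩ * φ (φ ⟨c, cT⟩) : C(V)) : G) = _
      rw [this, this, ← hi, pow_three']; rfl
  obtain ⟨_, ⟨s, rfl⟩, hs⟩ := inv_mem (Mho_le_iff.2 (fun t ht => by
    obtain ⟨i, e⟩ := cu t ht
    exact e ▸ pow_mem m i) ht)
  refine ⟨s * x, fun k => hx (by simpa using mul_mem (inv_mem s.2) k), ?_, fun t ht => ?_⟩
  · rw [← inv_mul_cancel (x ^ 3), ← hs]
    show _ = s * (x * s * x⁻¹) * (x * (x * s * x⁻¹) * x⁻¹) * x ^ 3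
    simp only [pow_succ]; group
  · rw [comm_mul_left, commutatorElement_eq_one_iff_commute.2 (abc ab s.2 ht), mul_one, (abc ab s.2 (xT t ht)).eq,
      mul_inv_cancel_right]
    obtain ⟨i, e⟩ := cu t ht
    have : x * g ^ 3 * x⁻¹ = g ^ 3 := by
      rw [← conj_pow, conj_eq_comm_mul, ha, mul_assoc, (abc ab (VT hv) (mul_mem (pow_mem gT _) gT)).mul_pow, hV.pow hv,
        ((Commute.refl g).pow_left _).mul_pow, ← pow_mul, show 3 * b * 3 = 9 * b by ring,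
        show g ^ (9 * b) = 1 from congrArg Subtype.val k3, one_mul, one_mul]
    refine r _ (xT t ht) ?_
    rw [← comm_pow_right (abc ab ht (xT t ht)), e, commutatorElement_def, ← conj_pow, this, mul_inv_cancel]

theorem exists_ord_sq (hD : PGrp p D) (h : ¬ ∀ d ∈ D, d ^ p = 1) : ∃ c ∈ D, c ^ p ≠ 1 ∧ (c ^ p) ^ p = 1 := by
  obtain ⟨d, hd, h1⟩ : ∃ d ∈ D, d ^ p ≠ 1 := by simpa only [not_forall, exists_prop] using h
  obtain ⟨k, e⟩ := hD.card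
  have : d ^ p ^ k = 1 := e ▸ pow_card hd
  clear e h
  induction k generalizing d with
  | zero => exact absurd (by rw [pow_zero, pow_one] at this; rw [this, one_pow]) h1
  | succ k ih =>
    by_cases q : (d ^ p) ^ p = 1
    · exact ⟨d, hd, h1, q⟩
    · exact ih _ (pow_mem hd p) q (by rwa [← pow_mul, ← pow_succ'])

theorem blackburn (h2 : p ≠ 2) (hG : Nat.card G = p ^ n) (hr : PRankLE p 2 G) : IsMetacyclic G ∨
    (3 ≤ n ∧ ∃ x y z : G, closure ({x, y, z} : Set G) = ⊤ ∧ x ^ p = 1 ∧ y ^ p = 1 ∧ z ^ p ^ (n - 2) = 1 ∧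
        x * z = z * x ∧ y * z = z * y ∧ x⁻¹ * y * x = y * z ^ p ^ (n - 3)) ∨
    (4 ≤ n ∧ ∃ (s : ℕ) (x y z : G), (s = 1 ∨ ¬ IsSquare (s : ZMod p)) ∧ closure ({x, y, z} : Set G) = ⊤ ∧
        x ^ p = 1 ∧ y ^ p = 1 ∧ z ^ p ^ (n - 2) = 1 ∧ y * z = z * y ∧ x⁻¹ * y * x = y * z ^ (s * p ^ (n - 3)) ∧
        x⁻¹ * z * x = y * z) ∨
    (p = 3 ∧ 2 ≤ n ∧ (⊤ : Subgroup G).lowerCentralSeries (n - 2) ≠ ⊥) := by
  refine or_iff_not_imp_left.2 fun nm => ?_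
  rw [← or_assoc]
  have pG := IsPGroup.of_card hG
  have pT := pGrp_top pG
  obtain ⟨V, _, hV, cV⟩ := exists_normal_elemAb_sq pG h2 fun c => nm (isMetacyclic_of_isCyclic c)
  have r : ∀ g ∈ C(V), g ^ p = 1 → g ∈ V := fun g hg e => eq_of_card_le le_sup_left (cV ▸ pRankLE_iff.1 hr _
    (Abelem.sup_zpowers hV hg e)) ▸ mem_sup_right (mem_zpowers g)
  rcases (show 3 ≤ p by have := hp.out.two_le; omega).eq_or_lt with rfl | h3
  swap
  · have m := fun x => mem_omegaOne_iff_of_rank_two pG h3 hr (H := ⊤) (x := x)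
    haveI := omegaOne_normal p (⊤ : Subgroup G)
    obtain ⟨x, hx, xV⟩ := SetLike.not_le_iff_exists.1 fun l : Ω[p]((⊤ : Subgroup G)) ≤ V =>
      nm (isMetacyclic_of_card_omegaOne_le pG h3 (cV ▸ card_le l))
    have x1 := ((m x).1 hx).2
    exact Or.inl (blk_A h2 hG hV cV r (fun k => xV (r x k x1)) x1 fun t ht => r _
      (comm_mem_of_mem_normalizer_left (mem_normalizer_of_normal _ _) ht)
      ((m _).1 (comm_mem_of_mem_normalizer_right (mem_normalizer_of_normal _ _) hx)).2)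
  have pC := pT.mono (le_top (a := C(V)))
  have eO : Ω[3](C(V)) = V := (Ohm_le_iff.2 r).antisymm (Abelem.le_Ohm hV (Abelem.ab hV).le_cen)
  have pc : PCen 3 C(V) := fun v hv e => centsC le_rfl (r v hv e)
  have mc := pc.metacyc h2 pC (eO.symm ▸ cV.le)
  have rg := reg_of_isMetacyclic pC.isPGroup h2 mc
  obtain ⟨x, -, hx⟩ := SetLike.exists_of_lt (lt_top_iff_ne_top.2 fun e : C(V) = ⊤ =>
    nm (isMetacyclic_of_surjective (e ▸ mc : Metacyc (⊤ : Subgroup G)) (⊤ : Subgroup G).subtype fun g => ⟨⟨g, trivial⟩, rfl⟩))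
  have iT := index_centralizer_eq_p pG V cV.le fun k => hx fun v hv => (mem_center_iff.1 (k hv) x).symm
  have n2 : 2 ≤ n := (relIndex_eq_pow hp.out le_top (card_top'.trans hG) cV).1
  by_cases k : ∀ d ∈ C(V) ⊓ C[x], d ^ 3 = 1
  · refine Or.inr ⟨rfl, n2, (maxCl_of_cen1' hp.out (card_top'.trans hG) n2 (mem_top x) ?_).ne⟩
    rw [top_inf_eq, sq]
    refine (card_le_card_inf_mul_index C(V) C[x]).trans (Nat.mul_le_mul ?_ iT.le)
    rw [← (sq_act hV cV (pT.mono le_top) (mem_normalizer_of_normal _ _) hx).1]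
    exact card_le fun d hd => ⟨r d hd.1 (k d hd), hd.2⟩
  obtain ⟨c, hc, c1, c2⟩ := exists_ord_sq (pT.mono le_top) k
  have ht : x ^ 3 ∈ ℧[3](C(V)) := by_contra fun q => nm (isMetacyclic_of_mho h2 pG (by
    have i := (pT.mono le_top).mul_card_le (lt_of_le_of_ne (Mho_mono 3 (le_top (a := C(V))))
      fun e => q (e ▸ pow_mem_Mho 3 (mem_top x)))
    have e1 := ℧[3](C(V)).card_mul_index
    rw [← relIndex_mul_index (Mho_le 3 C(V)), rg.relIndex_mho pC, eO, cV, iT,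
      ← ℧[3]((⊤ : Subgroup G)).card_mul_index] at e1
    have := card_pos ℧[3](C(V))
    nlinarith))
  by_cases q : ∀ v ∈ Ω[3](C(V)), ∃ w ∈ C(V), v = w ^ 3
  · obtain ⟨w, hw, w2, nc⟩ := rg.not_commute h2 pC (eO.symm ▸ cV) q (pT.mono le_top) (mem_normalizer_of_normal _ _)
      (eO.symm ▸ hx) hc.1 hc.2 c1 c2
    obtain ⟨t, ht, e⟩ := (rg.mem_powerClosure_of_mem pC.isPGroup).1 ht
    refine absurd (e ▸ (rg.commute_of_mem pC ht hw).2 ?_) nc
    rw [← commutatorElement_inv, inv_pow, pc.comm h2 pC hw ht w2, inv_one]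
  · obtain ⟨v, hv, q⟩ : ∃ v ∈ Ω[3](C(V)), ¬ ∃ w ∈ C(V), v = w ^ 3 := by simpa only [not_forall, exists_prop] using q
    obtain ⟨g, hg⟩ := rg.exists_gen pC (eO.symm ▸ cV) hv q
    obtain ⟨x', h1, h3, h4⟩ := blk_three pG hV cV r hx (eO ▸ hg) hc.1 hc.2 c1 c2 ht
    exact Or.inl (blk_A h2 hG hV cV r h1 h3 h4)

end Cfsg.Agent.H3
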