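import Mathlib
import Cfsg.Agent.H19.SL2
import Cfsg.Agent.H10.SL2Gen

/-! The subgroup of `SL₂(k[X])` generated by `u(k)` and `l(kX)`; Dickson's lemma over any field. -/

set_option autoImplicit false
set_option linter.unusedSectionVars false
set_option linter.style.haveILetI false

namespace Cfsg.Agent.H3.Dk

open Matrix Polynomial
open scoped MatrixGroups

section Ring

variable {R S : Type*} [CommRing R] [CommRing S]

/-- upper unitriangular -/
def uu (a : R) : SL(2, R) := ⟨!![1, a; 0, 1], by simp [det_fin_two]⟩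
/-- lower unitriangular -/
def ll (a : R) : SL(2, R) := ⟨!![1, 0; a, 1], by simp [det_fin_two]⟩
/-- the transvection along the column `(s, t)` -/
def tt (c s t : R) : SL(2, R) :=
  ⟨!![1 - c * s * t, c * s ^ 2; -(c * t ^ 2), 1 + c * s * t], by simp [det_fin_two]; ring⟩

@[simp] theorem uu00 (a : R) : (uu a).1 0 0 = 1 := rfl
@[simp] theorem uu01 (a : R) : (uu a).1 0 1 = a := rfl
@[simp] theorem uu10 (a : R) : (uu a).1 1 0 = 0 := rfl
@[simp] theorem uu11 (a : R) : (uu a).1 1 1 = 1 := rfl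
@[simp] theorem ll00 (a : R) : (ll a).1 0 0 = 1 := rfl
@[simp] theorem ll01 (a : R) : (ll a).1 0 1 = 0 := rfl
@[simp] theorem ll10 (a : R) : (ll a).1 1 0 = a := rfl
@[simp] theorem ll11 (a : R) : (ll a).1 1 1 = 1 := rfl
@[simp] theorem tt00 (c s t : R) : (tt c s t).1 0 0 = 1 - c * s * t := rfl
@[simp] theorem tt01 (c s t : R) : (tt c s t).1 0 1 = c * s ^ 2 := rfl
@[simp] theorem tt10 (c s t : R) : (tt c s t).1 1 0 = -(c * t ^ 2) := rfl
@[simp] theorem tt11 (c s t : R) : (tt c s t).1 1 1 = 1 + c * s * t := rfl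
@[simp] theorem one00 : (1 : SL(2, R)).1 0 0 = 1 := rfl
@[simp] theorem one01 : (1 : SL(2, R)).1 0 1 = 0 := rfl
@[simp] theorem one10 : (1 : SL(2, R)).1 1 0 = 0 := rfl
@[simp] theorem one11 : (1 : SL(2, R)).1 1 1 = 1 := rfl

theorem ext2 {g h : SL(2, R)} (h00 : g.1 0 0 = h.1 0 0) (h01 : g.1 0 1 = h.1 0 1)
    (h10 : g.1 1 0 = h.1 1 0) (h11 : g.1 1 1 = h.1 1 1) : g = h := by
  ext i j
  fin_cases i <;> fin_cases j <;> assumption

theorem det2 (g : SL(2, R)) : g.1 0 0 * g.1 1 1 - g.1 0 1 * g.1 1 0 = 1 := by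
  rw [← det_fin_two, g.2]

theorem mul2 (g h : SL(2, R)) (i j : Fin 2) :
    (g * h).1 i j = g.1 i 0 * h.1 0 j + g.1 i 1 * h.1 1 j := by
  change (g.1 * h.1) i j = _
  rw [Matrix.mul_apply, Fin.sum_univ_two]

theorem neg2 (g : SL(2, R)) (i j : Fin 2) : (-g).1 i j = -g.1 i j := rfl

/-- reduction along a ring homomorphism -/
abbrev mp (f : R →+* S) : SL(2, R) →* SL(2, S) := SpecialLinearGroup.map f

theorem mp2 (f : R →+* S) (g : SL(2, R)) (i j : Fin 2) : (mp f g).1 i j = f (g.1 i j) := rfl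

theorem mp_uu (f : R →+* S) (a : R) : mp f (uu a) = uu (f a) := by
  refine ext2 ?_ ?_ ?_ ?_ <;> simp [mp2]

theorem mp_ll (f : R →+* S) (a : R) : mp f (ll a) = ll (f a) := by
  refine ext2 ?_ ?_ ?_ ?_ <;> simp [mp2]

theorem mp_tt (f : R →+* S) (c s t : R) : mp f (tt c s t) = tt (f c) (f s) (f t) := by
  refine ext2 ?_ ?_ ?_ ?_ <;> simp [mp2]

theorem uu_add (a b : R) : uu (a + b) = uu a * uu b := by
  refine ext2 ?_ ?_ ?_ ?_ <;> simp [mul2, add_comm]

theorem ll_add (a b : R) : ll (a + b) = ll a * ll b := by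
  refine ext2 ?_ ?_ ?_ ?_ <;> simp [mul2]

theorem uu_zero : uu (0 : R) = 1 := ext2 rfl rfl rfl rfl
theorem ll_zero : ll (0 : R) = 1 := ext2 rfl rfl rfl rfl
theorem uu_neg (a : R) : uu (-a) = (uu a)⁻¹ :=
  eq_inv_of_mul_eq_one_left (by rw [← uu_add, neg_add_cancel, uu_zero])
theorem ll_neg (a : R) : ll (-a) = (ll a)⁻¹ :=
  eq_inv_of_mul_eq_one_left (by rw [← ll_add, neg_add_cancel, ll_zero])

theorem conj_tt (g : SL(2, R)) (c s t : R) :
    g * tt c s t * g⁻¹ = tt c (g.1 0 0 * s + g.1 0 1 * t) (g.1 1 0 * s + g.1 1 1 * t) := by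
  rw [mul_inv_eq_iff_eq_mul]
  refine ext2 ?_ ?_ ?_ ?_ <;> simp only [mul2, tt00, tt01, tt10, tt11]
  · linear_combination (c * (g.1 0 0 * s + g.1 0 1 * t) * t) * det2 g
  · linear_combination (-c * (g.1 0 0 * s + g.1 0 1 * t) * s) * det2 g
  · linear_combination (c * (g.1 1 0 * s + g.1 1 1 * t) * t) * det2 g
  · linear_combination (-c * (g.1 1 0 * s + g.1 1 1 * t) * s) * det2 g

theorem tt_smul (c e s t : R) : tt c (e * s) (e * t) = tt (c * e ^ 2) s t := by
  refine ext2 ?_ ?_ ?_ ?_ <;> simp only [tt00, tt01, tt10, tt11] <;> ring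

theorem tt_one (c : R) : tt c 1 0 = uu c := by
  refine ext2 ?_ ?_ ?_ ?_ <;> simp

theorem conj_uu (g : SL(2, R)) (c : R) : g * uu c * g⁻¹ = tt c (g.1 0 0) (g.1 1 0) := by
  rw [← tt_one, conj_tt]; simp

end Ring

variable {k : Type*} [Field k]

/-- the subgroup of `SL₂(k[X])` generated by `u(k)` and `l(kX)` -/
noncomputable def HH (k : Type*) [Field k] : Subgroup SL(2, k[X]) :=
  Subgroup.closure ({g | ∃ a : k, g = uu (C a)} ∪ {g | ∃ b : k, g = ll (C b * X)})

theorem uu_mem (a : k) : uu (C a) ∈ HH k := Subgroup.subset_closure (Or.inl ⟨a, rfl⟩)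
theorem ll_mem (b : k) : ll (C b * X) ∈ HH k := Subgroup.subset_closure (Or.inr ⟨b, rfl⟩)

theorem HH_induction {p : SL(2, k[X]) → Prop} (h1 : p 1) (hu : ∀ a g, p g → p (uu (C a) * g))
    (hl : ∀ b g, p g → p (ll (C b * X) * g)) {g : SL(2, k[X])} (hg : g ∈ HH k) : p g := by
  induction hg using Subgroup.closure_induction_left with
  | one => exact h1
  | mul_left x hx y _ ih =>
    rcases hx with ⟨a, rfl⟩ | ⟨b, rfl⟩
    exacts [hu a y ih, hl b y ih]
  | inv_mul_cancel x hx y _ ih =>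
    rcases hx with ⟨a, rfl⟩ | ⟨b, rfl⟩
    · rw [← uu_neg, ← C_neg]; exact hu _ y ih
    · rw [← ll_neg, ← neg_mul, ← C_neg]; exact hl _ y ih

/-- reduction modulo `F` -/
noncomputable abbrev red (F : k[X]) : SL(2, k[X]) →* SL(2, AdjoinRoot F) := mp (AdjoinRoot.mk F)

theorem red_eq_iff {F : k[X]} {g h : SL(2, k[X])} :
    red F g = red F h ↔ ∀ i j, F ∣ g.1 i j - h.1 i j := by
  exact (Matrix.SpecialLinearGroup.ext_iff _ _).trans (forall₂_congr fun i j => AdjoinRoot.mk_eq_mk)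

section Inf

/-- all transvections along `(s, t)` with parameter in `k` lie in `HH k` -/
def Pp (s t : k[X]) : Prop := ∀ c : k, tt (C c) s t ∈ HH k

theorem Pp.conj {s t : k[X]} (h : Pp s t) {g : SL(2, k[X])} (hg : g ∈ HH k) :
    Pp (g.1 0 0 * s + g.1 0 1 * t) (g.1 1 0 * s + g.1 1 1 * t) := fun c =>
  conj_tt g (C c) s t ▸ mul_mem (mul_mem hg (h c)) (inv_mem hg)

theorem Pp.of_smul {s t : k[X]} {e : k} (he : e ≠ 0) (h : Pp (C e * s) (C e * t)) : Pp s t := fun c => by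
  have := h (c / e ^ 2)
  rwa [tt_smul, ← C_pow, ← C_mul, div_mul_cancel₀ _ (pow_ne_zero 2 he)] at this

theorem Pp.base (e : k) : Pp (C e) 0 := fun c => by
  have := tt_smul (C c) (C e) (1 : k[X]) 0
  rw [mul_one, mul_zero, tt_one, ← C_pow, ← C_mul] at this
  exact this ▸ uu_mem _

/-- a chain of columns whose Euclidean algorithm has quotients of degree one -/
noncomputable def ch (k : Type*) [Field k] : ℕ → k[X] × k[X]
  | 0 => (1, 0)
  | j + 1 => ((ch k j).1 + X * ((ch k j).2 + (ch k j).1), (ch k j).2 + (ch k j).1)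

theorem ch_coeff (j : ℕ) : (ch k j).1.coeff j = 1 ∧ (∀ i, j < i → (ch k j).1.coeff i = 0) ∧
    ∀ i, j ≤ i → (ch k j).2.coeff i = 0 := by
  induction j with
  | zero => exact ⟨by simp [ch], fun i hi => by simp [ch, coeff_one, hi.ne'], fun i _ => by simp [ch]⟩
  | succ j ih =>
    obtain ⟨h1, h2, h3⟩ := ih
    refine ⟨?_, fun i hi => ?_, fun i hi => ?_⟩
    · simp [ch, coeff_X_mul, h1, h2 (j + 1) (by omega), h3 j le_rfl]
    · obtain ⟨i, rfl⟩ : ∃ i', i = i' + 1 := ⟨i - 1, by omega⟩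
      simp [ch, coeff_X_mul, h2 (i + 1) (by omega), h2 i (by omega), h3 i (by omega)]
    · simp [ch, h2 i (by omega), h3 i (by omega)]

theorem ch_mem (j : ℕ) : ∃ g ∈ HH k, g.1 0 0 = (ch k j).1 ∧ g.1 1 0 = X * (ch k j).2 := by
  induction j with
  | zero => exact ⟨1, one_mem _, rfl, by simp [ch]⟩
  | succ j ih =>
    obtain ⟨g, hg, h1, h2⟩ := ih
    refine ⟨uu (C 1) * (ll (C 1 * X) * g), mul_mem (uu_mem 1) (mul_mem (ll_mem 1) hg), ?_, ?_⟩ <;>
      simp only [mul2, uu00, uu01, uu10, uu11, ll00, ll01, ll10, ll11, h1, h2, ch, C_1] <;> ring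

/-- specialisation of the parameter -/
noncomputable abbrev ev (ε : k) : k[X][X] →+* k[X] := mapRingHom (evalRingHom ε)

theorem ev_C (ε : k) (a : k[X]) : ev ε (C a) = C (a.eval ε) := by simp
theorem ev_X (ε : k) : ev ε X = X := by simp
theorem ev_coeff (ε : k) (S : k[X][X]) (i : ℕ) : (ev ε S).coeff i = (S.coeff i).eval ε := by simp

theorem ev_ne {a : k[X]} (h : a.eval 0 ≠ 0) : ∀ᶠ ε in Filter.cofinite, a.eval ε ≠ 0 := by
  have h0 : a ≠ 0 := by rintro rfl; simp at h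
  simpa [Filter.eventually_cofinite] using finite_setOfPred_isRoot h0

theorem pert (j : ℕ) : ∀ (S T : k[X][X]) (c : k), c ≠ 0 → (∀ i, j < i → S.coeff i = 0) →
    (∀ i, j ≤ i → T.coeff i = 0) → ev 0 S = C c * (ch k j).1 → ev 0 T = C c * (ch k j).2 →
    ∀ᶠ ε in Filter.cofinite, Pp (ev ε S) (X * ev ε T) := by
  induction j with
  | zero =>
    intro S T c _ hS hT _ _
    obtain rfl : T = 0 := Polynomial.ext fun i => hT i (Nat.zero_le i)
    have : S = C (S.coeff 0) := Polynomial.ext fun i => by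
      rcases i with _ | i
      · simp
      · simp [hS (i + 1) (by omega)]
    refine Filter.Eventually.of_forall fun ε => ?_
    rw [this, ev_C, map_zero, mul_zero]
    exact Pp.base _
  | succ j ih =>
    intro S T c hc hS hT e1 e2
    obtain ⟨h1, h2, h3⟩ := ch_coeff (k := k) j
    have f1 : (T.coeff j).eval 0 = c := by
      rw [← ev_coeff, e2]; simp [ch, h1, h3 j le_rfl]
    have f2 : (S.coeff (j + 1)).eval 0 = c := by
      rw [← ev_coeff, e1, coeff_C_mul, (ch_coeff (j + 1)).1, mul_one]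
    obtain ⟨S1, hS1⟩ : ∃ S1, S1 = C (T.coeff j) * S - C (S.coeff (j + 1)) * (X * T) := ⟨_, rfl⟩
    obtain ⟨T1, hT1⟩ : ∃ T1, T1 = C (T.coeff j) * T := ⟨_, rfl⟩
    have g1 : ev 0 S1 = C (c * c) * (ch k j).1 := by
      rw [hS1, map_sub, map_mul, map_mul, map_mul, ev_C, ev_C, ev_X, f1, f2, e1, e2, C_mul]
      simp only [ch]; ring
    have g2 : ev 0 T1 = C (c * c) * ((ch k j).2 + (ch k j).1) := by
      rw [hT1, map_mul, ev_C, f1, e2, C_mul]; simp only [ch]; ring
    have g3 : ∀ i, j < i → S1.coeff i = 0 := fun i hi => by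
      obtain ⟨i, rfl⟩ : ∃ i', i = i' + 1 := ⟨i - 1, by omega⟩
      rw [hS1, coeff_sub, coeff_C_mul, coeff_C_mul, coeff_X_mul]
      rcases (Nat.lt_succ_iff.1 hi).eq_or_lt with rfl | h
      · ring
      · rw [hS (i + 1) (by omega), hT i (by omega)]; ring
    have g4 : ∀ i, j < i → T1.coeff i = 0 := fun i hi => by rw [hT1, coeff_C_mul, hT i hi, mul_zero]
    have f3 : (S1.coeff j).eval 0 = c * c := by rw [← ev_coeff, g1, coeff_C_mul, h1, mul_one]
    have f4 : (T1.coeff j).eval 0 = c * c := by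
      rw [← ev_coeff, g2, coeff_C_mul, coeff_add, h1, h3 j le_rfl]; ring
    have hcc := mul_ne_zero hc hc
    have := ih (C (S1.coeff j) * S1) (C (S1.coeff j) * T1 - C (T1.coeff j) * S1) (c * c * (c * c))
      (mul_ne_zero hcc hcc) (fun i hi => by rw [coeff_C_mul, g3 i hi, mul_zero]) (fun i hi => by
        rw [coeff_sub, coeff_C_mul, coeff_C_mul]
        rcases hi.eq_or_lt with rfl | h
        · ring
        · rw [g3 i h, g4 i h]; ring)
      (by rw [map_mul, ev_C, f3, g1, C_mul (a := c * c)]; ring)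
      (by rw [map_sub, map_mul, map_mul, ev_C, ev_C, f3, f4, g1, g2, C_mul (a := c * c)]; ring)
    filter_upwards [this, ev_ne (f1 ▸ hc), ev_ne (f3 ▸ hcc)] with ε h4 h5 h6
    have h7 : Pp (ev ε S1) (X * ev ε T1) := by
      refine Pp.of_smul h6 ?_
      convert h4.conj (ll_mem ((T1.coeff j).eval ε / (S1.coeff j).eval ε)) using 1
      · simp only [ll00, ll01, map_mul, ev_C]; ring
      · simp only [ll10, ll11, map_mul, map_sub, ev_C]
        rw [← div_mul_cancel₀ ((T1.coeff j).eval ε) h6, C_mul, mul_div_cancel_right₀ _ h6]; ring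
    refine Pp.of_smul h5 ?_
    convert h7.conj (uu_mem ((S.coeff (j + 1)).eval ε / (T.coeff j).eval ε)) using 1
    · simp only [uu00, uu01, hS1, hT1, map_mul, map_sub, ev_C, ev_X]
      rw [← div_mul_cancel₀ ((S.coeff (j + 1)).eval ε) h5, C_mul, mul_div_cancel_right₀ _ h5]; ring
    · simp only [uu10, uu11, hT1, map_mul, ev_C]; ring

theorem univ_inf [Infinite k] (h2 : (2 : k) ≠ 0) {F : k[X]} (hF : F ≠ 0) (p : k[X]) :
    ∃ g ∈ HH k, red F g = red F (uu p) := by
  obtain ⟨h1, h3, h4⟩ := ch_coeff (k := k) F.natDegree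
  obtain ⟨g, hg, e1, e2⟩ := ch_mem (k := k) F.natDegree
  have hmod : ∀ (q : k[X]) (i : ℕ), F.natDegree ≤ i → (q % F).coeff i = 0 := fun q i hi =>
    coeff_eq_zero_of_degree_lt ((degree_mod_lt q hF).trans_le
      ((degree_le_natDegree).trans (by exact_mod_cast hi)))
  have hev : ∀ (ε : k) (a b : k[X]), ev ε (a.map C + C X * b.map C) = a + C ε * b := fun ε a b => by
    ext i; simp [mul_comm]
  have h5 := pert F.natDegree ((ch k F.natDegree).1.map C + C X * ((p * (ch k F.natDegree).1) % F).map C)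
    ((ch k F.natDegree).2.map C + C X * ((p * (ch k F.natDegree).2) % F).map C) 1 one_ne_zero
    (fun i hi => by simp [h3 i hi, hmod _ i hi.le]) (fun i hi => by simp [h4 i hi, hmod _ i hi])
    (by rw [hev]; simp) (by rw [hev]; simp)
  have key : ∀ᶠ ε in Filter.cofinite, ∀ c : k,
      ∃ g ∈ HH k, red F g = red F (uu (C c * (1 + C ε * p) ^ 2)) := by
    filter_upwards [h5] with ε h c
    refine ⟨g⁻¹ * _ * g, mul_mem (mul_mem (inv_mem hg) (h c)) hg, ?_⟩
    have hm : ∀ q : k[X], AdjoinRoot.mk F (q % F) = AdjoinRoot.mk F q := fun q =>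
      AdjoinRoot.mk_eq_mk.2 ⟨-(q / F), by linear_combination EuclideanDomain.div_add_mod q F⟩
    have : red F (tt (C c) (ev ε ((ch k F.natDegree).1.map C +
        C X * ((p * (ch k F.natDegree).1) % F).map C)) (X * ev ε ((ch k F.natDegree).2.map C +
        C X * ((p * (ch k F.natDegree).2) % F).map C))) =
        red F (g * uu (C c * (1 + C ε * p) ^ 2) * g⁻¹) := by
      rw [conj_uu, ← tt_smul, e1, e2, mp_tt, mp_tt, hev, hev]
      congr 1 <;> simp only [map_mul, map_add, hm, map_one] <;> ring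
    rw [map_mul, map_mul, this]
    simp [mul_assoc]
  have key' := (Function.Injective.tendsto_cofinite (neg_injective (G := k))).eventually key
  obtain ⟨ε, h6, h7, h8⟩ := (key.and (key'.and (Filter.eventually_cofinite_ne 0))).exists
  obtain ⟨g1, hg1, e3⟩ := h6 (4 * ε)⁻¹
  obtain ⟨g2, hg2, e4⟩ := h7 (-(4 * ε)⁻¹)
  refine ⟨g1 * g2, mul_mem hg1 hg2, ?_⟩
  rw [map_mul, e3, e4, ← map_mul, ← uu_add]
  congr 2
  have h9 : (4 : k) * ε ≠ 0 := mul_ne_zero (by rw [show (4 : k) = 2 * 2 by norm_num]; exact mul_ne_zero h2 h2) h8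
  have : C (4 * ε)⁻¹ * (4 * C ε) = (1 : k[X]) := by
    rw [show (4 : k[X]) = C 4 from rfl, ← C_mul, ← C_mul, inv_mul_cancel₀ h9, C_1]
  rw [C_neg, C_neg]
  linear_combination p * this

end Inf

end Cfsg.Agent.H3.Dk
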