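import Cfsg.Agent.H3.Dick1

/-! Dickson's lemma modulo an arbitrary polynomial. -/

set_option autoImplicit false
set_option linter.unusedSectionVars false
set_option linter.style.haveILetI false

namespace Cfsg.Agent.H3.Dk

open Matrix Polynomial
open scoped MatrixGroups commutatorElement

section Fld

variable {K : Type*} [Field K]

theorem eq_top_of {H : Subgroup SL(2, K)} (hu : ∀ z, uu z ∈ H) (hl : ∀ z, ll z ∈ H) : H = ⊤ :=
  eq_top_iff.2 fun g _ => H19.St.sl_induction (p := (· ∈ H)) hu hl (fun _ _ => mul_mem) g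

theorem w_conj {t : K} (ht : t ≠ 0) (z : K) :
    uu t * ll (-t⁻¹) * uu t * uu z * (uu t * ll (-t⁻¹) * uu t)⁻¹ = ll (-z / t ^ 2) :=
  mul_inv_eq_iff_eq_mul.2 (H19.St.rel_SL.conj t ht z)

theorem eq_top_of' {H : Subgroup SL(2, K)} (hu : ∀ z, uu z ∈ H) {b : K} (hb : b ≠ 0)
    (hl : ll b ∈ H) : H = ⊤ := by
  refine eq_top_of hu fun z => ?_
  have h1 : uu (-b⁻¹) * ll (-(-b⁻¹)⁻¹) * uu (-b⁻¹) ∈ H :=
    mul_mem (mul_mem (hu _) (by simpa using hl)) (hu _)
  have := mul_mem (mul_mem h1 (hu (-z * (-b⁻¹) ^ 2))) (inv_mem h1)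
  rwa [w_conj (by simpa), neg_mul, neg_neg, mul_div_cancel_right₀ _ (by simpa)] at this

/-- the diagonal matrix -/
def dd (t : K) (ht : t ≠ 0) : SL(2, K) := ⟨!![t, 0; 0, t⁻¹], by simp [det_fin_two, ht]⟩

theorem dd_conj {t : K} (ht : t ≠ 0) (z : K) : dd t ht * uu z * (dd t ht)⁻¹ = uu (t ^ 2 * z) := by
  rw [conj_uu]
  refine ext2 ?_ ?_ ?_ ?_ <;> simp [dd, mul_comm]

theorem mul_mem_of_subfield (h2 : (2 : K) ≠ 0) {H : Subgroup SL(2, K)} (E : Subfield K)
    (hE : ∀ t ∈ E, uu t ∈ H ∧ ll t ∈ H) {t z : K} (ht : t ∈ E) (hz : uu z ∈ H) : uu (t * z) ∈ H := by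
  have h1 : ∀ s ∈ E, uu (s ^ 2 * z) ∈ H := fun s hs => by
    rcases eq_or_ne s 0 with rfl | h0
    · simp [uu_zero]
    have h3 : dd s h0 = uu s * ll (-s⁻¹) * uu s * (uu (-1) * ll 1 * uu (-1)) := by
      refine ext2 ?_ ?_ ?_ ?_ <;> simp [dd, mul2, h0]
    have h4 : dd s h0 ∈ H := h3 ▸ mul_mem (mul_mem (mul_mem (hE s hs).1 (hE _ (neg_mem (inv_mem hs))).2)
      (hE s hs).1) (mul_mem (mul_mem (hE _ (neg_mem (one_mem _))).1 (hE _ (one_mem _)).2)
      (hE _ (neg_mem (one_mem _))).1)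
    exact dd_conj h0 z ▸ mul_mem (mul_mem h4 hz) (inv_mem h4)
  have h4 : t / (2 * 2) ∈ E := div_mem ht (mul_mem (ofNat_mem E 2) (ofNat_mem E 2))
  have := mul_mem (h1 _ (add_mem h4 (one_mem _))) (inv_mem (h1 _ (sub_mem h4 (one_mem _))))
  rw [← uu_neg, ← uu_add] at this
  convert this using 2
  field_simp
  ring

/-- conjugation by `diag(d⁻¹, 1)` -/
def twf (d : K) (hd : d ≠ 0) (g : SL(2, K)) : SL(2, K) :=
  ⟨!![g.1 0 0, g.1 0 1 * d⁻¹; g.1 1 0 * d, g.1 1 1], by
    rw [det_fin_two_of]; field_simp; linear_combination det2 g⟩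

@[simp] theorem twf00 {d : K} (hd : d ≠ 0) (g : SL(2, K)) : (twf d hd g).1 0 0 = g.1 0 0 := rfl
@[simp] theorem twf01 {d : K} (hd : d ≠ 0) (g : SL(2, K)) : (twf d hd g).1 0 1 = g.1 0 1 * d⁻¹ := rfl
@[simp] theorem twf10 {d : K} (hd : d ≠ 0) (g : SL(2, K)) : (twf d hd g).1 1 0 = g.1 1 0 * d := rfl
@[simp] theorem twf11 {d : K} (hd : d ≠ 0) (g : SL(2, K)) : (twf d hd g).1 1 1 = g.1 1 1 := rfl

/-- conjugation by `diag(d⁻¹, 1)` -/
def tw (d : K) (hd : d ≠ 0) : SL(2, K) →* SL(2, K) := MonoidHom.mk' (twf d hd) fun g h => by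
  refine ext2 ?_ ?_ ?_ ?_ <;> simp only [mul2, twf00, twf01, twf10, twf11] <;> field_simp

theorem tw_uu {d : K} (hd : d ≠ 0) (z : K) : tw d hd (uu z) = uu (z * d⁻¹) := ext2 rfl rfl (by
  change 0 * d = 0; simp) rfl

theorem tw_ll {d : K} (hd : d ≠ 0) (z : K) : tw d hd (ll z) = ll (z * d) := ext2 rfl (by
  change 0 * d⁻¹ = 0; simp) rfl rfl

theorem exists_sq_ne (h2 : (2 : K) ≠ 0) (h3 : Nat.card K ≠ 3) : ∃ c : K, c ≠ 0 ∧ c ^ 2 ≠ 1 := by
  by_contra hc
  push Not at hc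
  have h1 : (1 : K) ≠ -1 := fun e => h2 (by linear_combination e)
  have : (Set.univ : Set K) = {0, 1, -1} := Set.ext fun c => by
    rcases eq_or_ne c 0 with rfl | h0
    · simp
    · simpa [h0] using sq_eq_sq_iff_eq_or_eq_neg.1 ((hc c h0).trans (one_pow 2).symm)
  apply h3
  rw [← Set.ncard_univ, this, Set.ncard_eq_three]
  exact ⟨0, 1, -1, zero_ne_one, by simp, h1, rfl⟩

theorem closure_top (mu : K) : Subfield.closure {(⟨mu, Subfield.subset_closure rfl⟩ :
    Subfield.closure ({mu} : Set K))} = ⊤ := by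
  refine eq_top_iff.2 fun x _ => ?_
  have h := x.2
  have e := RingHom.map_field_closure (Subfield.closure ({mu} : Set K)).subtype
    {(⟨mu, Subfield.subset_closure rfl⟩ : Subfield.closure ({mu} : Set K))}
  rw [Set.image_singleton] at e
  obtain ⟨y, hy, e'⟩ := Subfield.mem_map.1 (e.ge h)
  obtain rfl : y = x := Subtype.ext e'
  exact hy

theorem dickson_fin [Finite K] {k : Type*} [Field k] [Algebra k K] (h2 : (2 : k) ≠ 0)
    (h3 : Nat.card k ≠ 3) {lam : K} (h0 : lam ≠ 0) (hgen : ∀ z : K, ∃ p : k[X], aeval lam p = z)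
    {H : Subgroup SL(2, K)} (hu : ∀ a : k, uu (algebraMap k K a) ∈ H)
    (hl : ∀ a : k, ll (algebraMap k K a * lam) ∈ H) : H = ⊤ := by
  have h2' : (2 : K) ≠ 0 := fun e => h2 ((algebraMap k K).injective (by rw [map_ofNat, e, map_zero]))
  have hu' : ∀ a : k, uu (algebraMap k K a * lam) ∈ H.comap (tw lam h0) := fun a => by
    rw [Subgroup.mem_comap, tw_uu, mul_inv_cancel_right₀ h0]; exact hu a
  have hl' : ∀ a : k, ll (algebraMap k K a) ∈ H.comap (tw lam h0) := fun a => by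
    rw [Subgroup.mem_comap, tw_ll]; exact hl a
  obtain ⟨c, hc0, hc⟩ : ∃ c : k, c ≠ 0 ∧ (algebraMap k K c * lam) ^ 2 ≠ -1 := by
    by_cases h : lam ^ 2 = -1
    · obtain ⟨c, h4, h5⟩ := exists_sq_ne h2 h3
      refine ⟨c, h4, fun e => h5 ((algebraMap k K).injective ?_)⟩
      rw [mul_pow, h] at e
      rw [map_pow, map_one]; linear_combination -e
    · exact ⟨1, one_ne_zero, by simpa using h⟩
  obtain ⟨mu, hmu⟩ : ∃ mu, mu = algebraMap k K c * lam := ⟨_, rfl⟩
  have hc' : algebraMap k K c ≠ 0 := (_root_.map_ne_zero _).2 hc0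
  have hE : ∀ g : SL(2, Subfield.closure ({mu} : Set K)),
      mp (Subfield.subtype _) g ∈ H.comap (tw lam h0) := by
    obtain ⟨p, hp⟩ := CharP.exists (Subfield.closure ({mu} : Set K))
    have := Fact.mk (CharP.char_is_prime (Subfield.closure ({mu} : Set K)) p)
    have hp2 : p ≠ 2 := by
      rintro rfl
      exact h2' (congrArg Subtype.val (CharP.cast_eq_zero (Subfield.closure ({mu} : Set K)) 2))
    rcases H10.closure_genSet_cases hp2 (lam := (⟨mu, Subfield.subset_closure rfl⟩ :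
      Subfield.closure ({mu} : Set K))) (fun e => mul_ne_zero hc' h0 (hmu ▸ congrArg Subtype.val e))
      (closure_top mu) with h | h
    · intro g
      have : g ∈ (H.comap (tw lam h0)).comap (mp (Subfield.subtype _)) := by
        refine (Subgroup.closure_le _).2 ?_ (h ▸ Subgroup.mem_top g)
        rintro x (hx | hx)
        · obtain rfl : x = ll 1 := Subtype.ext hx
          simpa [mp_ll] using hl' 1
        · obtain rfl : x = uu _ := Subtype.ext hx
          simpa [mp_uu, hmu] using hu' c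
      exact this
    · exact absurd (hmu ▸ (by simpa using congrArg Subtype.val h.2.1)) hc
  have hE' : ∀ t ∈ Subfield.closure ({mu} : Set K), uu t ∈ H.comap (tw lam h0) ∧
      ll t ∈ H.comap (tw lam h0) := fun t ht =>
    ⟨by simpa [mp_uu] using hE (uu ⟨t, ht⟩), by simpa [mp_ll] using hE (ll ⟨t, ht⟩)⟩
  have hk : ∀ t ∈ (algebraMap k K).fieldRange, uu t ∈ H.comap (tw lam h0) ∧
      ll t ∈ H.comap (tw lam h0) := by
    rintro _ ⟨a, rfl⟩
    refine ⟨?_, hl' a⟩
    have h4 : uu (1 : K) * ll (-1⁻¹) * uu 1 ∈ H.comap (tw lam h0) :=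
      mul_mem (mul_mem (hE' _ (one_mem _)).1 (hE' _ (neg_mem (inv_mem (one_mem _)))).2)
        (hE' _ (one_mem _)).1
    have h5 := w_conj (one_ne_zero (α := K)) (algebraMap k K a)
    rw [← (mul_mem_cancel_left h4), ← mul_mem_cancel_right (inv_mem h4), h5]
    simpa using hl' (-a)
  have h6 : ∀ p : k[X], ∀ z, uu z ∈ H.comap (tw lam h0) → uu (aeval lam p * z) ∈ H.comap (tw lam h0) := by
    intro p
    induction p using Polynomial.induction_on with
    | C a => exact fun z hz => by simpa using mul_mem_of_subfield h2' _ hk ⟨a, rfl⟩ hz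
    | add p q hp hq => exact fun z hz => by rw [map_add, add_mul, uu_add]; exact mul_mem (hp z hz) (hq z hz)
    | monomial n a h =>
      intro z hz
      have := mul_mem_of_subfield h2' _ hk ⟨c⁻¹, rfl⟩
        (mul_mem_of_subfield h2' _ hE' (Subfield.subset_closure rfl) (h z hz))
      convert this using 2
      simp only [hmu, map_mul, map_pow, aeval_X, aeval_C, map_inv₀]
      field_simp
      ring
  refine eq_top_of' (fun z => ?_) h0 (by simpa using hl 1)
  obtain ⟨p, hp⟩ := hgen (z * lam)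
  have := h6 p 1 (hE' _ (one_mem _)).1
  rwa [Subgroup.mem_comap, tw_uu, mul_one, hp, mul_inv_cancel_right₀ h0] at this

end Fld

end Cfsg.Agent.H3.Dk
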