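import Cfsg.Agent.H3.Dick2

/-! Dickson's lemma modulo an arbitrary polynomial. -/

set_option autoImplicit false
set_option linter.unusedSectionVars false
set_option linter.style.haveILetI false

namespace Cfsg.Agent.H3.Dk

open Matrix Polynomial
open scoped MatrixGroups commutatorElement

section Hua

variable {R : Type*} [CommRing R]

/-- equality up to sign -/
def PM (a b : SL(2, R)) : Prop := a = b ∨ a = -b

theorem PM.symm {a b : SL(2, R)} (h : PM a b) : PM b a :=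
  h.imp Eq.symm fun e => by rw [e, neg_neg]

theorem PM.trans {a b c : SL(2, R)} (h : PM a b) (h' : PM b c) : PM a c := by
  rcases h with rfl | rfl <;> rcases h' with rfl | rfl <;> simp [PM]

theorem PM.mul {a b c d : SL(2, R)} (h : PM a b) (h' : PM c d) : PM (a * c) (b * d) := by
  rcases h with rfl | rfl <;> rcases h' with rfl | rfl <;> simp [PM]

theorem PM.inv {a b : SL(2, R)} (h : PM a b) : PM a⁻¹ b⁻¹ := by
  rcases h with rfl | rfl <;> simp [PM]

theorem ent {a b : SL(2, R)} (h : a = b) (i j : Fin 2) : a.1 i j = b.1 i j := h ▸ rfl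

variable (h2 : IsUnit (2 : R)) (hloc : ∀ a : R, IsUnit a ∨ IsUnit (1 - a))
include h2

theorem zero_of_two {a : R} (h : 2 * a = 0) : a = 0 := h2.mul_right_eq_zero.1 h

variable [Nontrivial R]

theorem PM.uu_inj {a b : R} (h : PM (uu a) (uu b)) : a = b := by
  rcases h with h | h
  · exact ent h 0 1
  · have := ent h 0 0
    simp only [neg2, uu00] at this
    exact absurd (zero_of_two h2 (a := 1) (by linear_combination this)) one_ne_zero

theorem PM.ll_inj {a b : R} (h : PM (ll a) (ll b)) : a = b := by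
  rcases h with h | h
  · exact ent h 1 0
  · have := ent h 0 0
    simp only [neg2, ll00] at this
    exact absurd (zero_of_two h2 (a := 1) (by linear_combination this)) one_ne_zero

include hloc

theorem sq_one {a : R} (h : a * a = 1) : a = 1 ∨ a = -1 := by
  obtain ⟨i, hi⟩ := h2.exists_right_inv
  rcases hloc ((1 + a) * i) with h1 | h1
  · exact Or.inl (sub_eq_zero.1 (h1.mul_right_eq_zero.1 (by linear_combination i * h)))
  · refine Or.inr (add_eq_zero_iff_eq_neg.1 (h1.mul_right_eq_zero.1 ?_))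
    linear_combination (-i) * h - (a + 1) * hi

theorem comm_uu {y : SL(2, R)} (h : PM (y * uu 1) (uu 1 * y)) : ∃ a, PM y (uu a) := by
  have hd := det2 y
  rcases h with h | h
  · have e1 := ent h 0 0
    have e2 := ent h 0 1
    simp only [mul2, uu00, uu01, uu10, uu11] at e1 e2
    have e3 : y.1 1 0 = 0 := by linear_combination -e1
    have e4 : y.1 1 1 = y.1 0 0 := by linear_combination -e2
    rcases sq_one h2 hloc (a := y.1 0 0) (by rw [e3, e4] at hd; linear_combination hd) with e | e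
    · exact ⟨y.1 0 1, Or.inl (ext2 e rfl e3 (e4.trans e))⟩
    · exact ⟨-y.1 0 1, Or.inr (ext2 e (neg_neg _).symm (e3.trans neg_zero.symm) (e4.trans e))⟩
  · have e1 := ent h 0 0
    have e2 := ent h 1 0
    simp only [neg2, mul2, uu00, uu01, uu10, uu11] at e1 e2
    have e3 : y.1 1 0 = 0 := zero_of_two h2 (by linear_combination e2)
    have e4 : y.1 0 0 = 0 := zero_of_two h2 (by linear_combination e1 - e3)
    rw [e3, e4] at hd
    simp at hd

theorem comm_ll {y : SL(2, R)} {t : R} (ht : IsUnit t) (h : PM (y * ll t) (ll t * y)) :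
    ∃ a, PM y (ll a) := by
  have hd := det2 y
  rcases h with h | h
  · have e1 := ent h 0 0
    have e2 := ent h 1 0
    simp only [mul2, ll00, ll01, ll10, ll11] at e1 e2
    have e3 : y.1 0 1 = 0 := ht.mul_right_eq_zero.1 (by linear_combination e1)
    have e4 : y.1 1 1 = y.1 0 0 := sub_eq_zero.1 (ht.mul_right_eq_zero.1 (by linear_combination e2))
    rcases sq_one h2 hloc (a := y.1 0 0) (by rw [e3, e4] at hd; linear_combination hd) with e | e
    · exact ⟨y.1 1 0, Or.inl (ext2 e e3 rfl (e4.trans e))⟩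
    · exact ⟨-y.1 1 0, Or.inr (ext2 e (e3.trans neg_zero.symm) (neg_neg _).symm (e4.trans e))⟩
  · have e1 := ent h 0 0
    have e2 := ent h 0 1
    simp only [neg2, mul2, ll00, ll01, ll10, ll11] at e1 e2
    have e3 : y.1 0 1 = 0 := zero_of_two h2 (by linear_combination e2)
    have e4 : y.1 0 0 = 0 := zero_of_two h2 (by linear_combination e1 - t * e3)
    rw [e3, e4] at hd
    simp at hd

theorem braid {a b : R} (h : PM (uu a * ll b * uu a) (ll b * uu a * ll b)) : a * b = -1 ∨ a = 0 := by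
  rcases h with h | h
  · have e2 := ent h 0 1
    simp only [mul2, uu00, uu01, uu10, uu11, ll00, ll01, ll10, ll11] at e2
    rcases hloc (-(a * b)) with h1 | h1
    · exact Or.inl (add_eq_zero_iff_eq_neg.1 (h1.mul_right_eq_zero.1 (by linear_combination (-b) * e2)))
    · exact Or.inr (h1.mul_right_eq_zero.1 (by linear_combination e2))
  · have e1 := ent h 0 0
    simp only [neg2, mul2, uu00, uu01, uu10, uu11, ll00, ll01, ll10, ll11] at e1
    exact Or.inl (add_eq_zero_iff_eq_neg.1 (zero_of_two h2 (by linear_combination e1)))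

end Hua

variable {k : Type*} [Field k]

theorem two_ne (h2 : (2 : k) ≠ 0) (g : k[X]) [Fact (Irreducible g)] : (2 : AdjoinRoot g) ≠ 0 := fun e =>
  h2 ((algebraMap k (AdjoinRoot g)).injective (by rw [map_ofNat, e, map_zero]))

theorem hua {R K : Type*} [CommRing R] [Nontrivial R] [Field K]
    (hloc : ∀ a : R, IsUnit a ∨ IsUnit (1 - a)) (h2 : (2 : k) ≠ 0) (π : k[X] →+* K) (hX0 : π X ≠ 0)
    (h2K : (2 : K) ≠ 0) (φ : k[X] →+* R) (hx : IsUnit (φ X)) (hs : (HH k).map (mp π) = ⊤)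
    (h : ∀ a ∈ HH k, mp π a = 1 → PM (mp φ a) 1) : ∃ Φ : K →+* R, Φ.comp π = φ := by
  have h2R : IsUnit (2 : R) := by
    simpa [map_ofNat] using (isUnit_C.2 (Ne.isUnit h2)).map φ
  let Rl : SL(2, K) → SL(2, R) → Prop := fun y y' => ∃ a ∈ HH k, mp π a = y ∧ PM (mp φ a) y'
  have tot : ∀ y, ∃ y', Rl y y' := fun y => by
    obtain ⟨a, ha, e⟩ := Subgroup.mem_map.1 (hs ▸ Subgroup.mem_top y)
    exact ⟨_, a, ha, e, Or.inl rfl⟩
  have mul : ∀ {y z y' z'}, Rl y y' → Rl z z' → Rl (y * z) (y' * z') := by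
    rintro _ _ y' z' ⟨a, ha, rfl, e⟩ ⟨b, hb, rfl, e'⟩
    exact ⟨a * b, mul_mem ha hb, map_mul _ _ _, map_mul (mp φ) a b ▸ e.mul e'⟩
  have inv : ∀ {y y'}, Rl y y' → Rl y⁻¹ y'⁻¹ := by
    rintro _ y' ⟨a, ha, rfl, e⟩
    exact ⟨a⁻¹, inv_mem ha, map_inv _ _, map_inv (mp φ) a ▸ e.inv⟩
  have uniq : ∀ {y a b}, Rl y a → Rl y b → PM a b := by
    rintro _ a b ⟨c, hc, rfl, e⟩ ⟨d, hd, e1, e2⟩
    have := (h (c * d⁻¹) (mul_mem hc (inv_mem hd)) (by simp [e1])).mul (Or.inl (rfl : mp φ d = _))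
    rw [map_mul, map_inv, inv_mul_cancel_right, one_mul] at this
    exact e.symm.trans (this.trans e2)
  have pm : ∀ {y a b}, Rl y a → PM a b → Rl y b := by
    rintro _ a b ⟨c, hc, rfl, e⟩ e'
    exact ⟨c, hc, rfl, e.trans e'⟩
  have rC : ∀ a : k, Rl (uu (π (C a))) (uu (φ (C a))) := fun a =>
    ⟨_, uu_mem a, mp_uu _ _, Or.inl (mp_uu _ _)⟩
  have r1 : Rl (uu 1) (uu 1) := by simpa using rC 1
  have rX : Rl (ll (π X)) (ll (φ X)) := by
    simpa using (⟨_, ll_mem 1, mp_ll _ _, Or.inl (mp_ll _ _)⟩ :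
      Rl (ll (π (C 1 * X))) (ll (φ (C 1 * X))))
  have exu : ∀ z, ∃ a, Rl (uu z) (uu a) := fun z => by
    obtain ⟨y, hy⟩ := tot (uu z)
    obtain ⟨a, ha⟩ := comm_uu h2R hloc (uniq (mul hy r1)
      (by rw [← uu_add, add_comm, uu_add]; exact mul r1 hy))
    exact ⟨a, pm hy ha⟩
  have exl : ∀ z, ∃ a, Rl (ll z) (ll a) := fun z => by
    obtain ⟨y, hy⟩ := tot (ll z)
    obtain ⟨a, ha⟩ := comm_ll h2R hloc hx (uniq (mul hy rX)
      (by rw [← ll_add, add_comm, ll_add]; exact mul rX hy))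
    exact ⟨a, pm hy ha⟩
  choose fu hu using exu
  choose fl hl using exl
  have uadd : ∀ z w, fu (z + w) = fu z + fu w := fun z w => PM.uu_inj h2R (uniq (hu _)
    (by rw [uu_add, uu_add]; exact mul (hu z) (hu w)))
  have ladd : ∀ z w, fl (z + w) = fl z + fl w := fun z w => PM.ll_inj h2R (uniq (hl _)
    (by rw [ll_add, ll_add]; exact mul (hl z) (hl w)))
  have u1 : fu 1 = 1 := PM.uu_inj h2R (uniq (hu _) r1)
  let U : K →+ R := AddMonoidHom.mk' fu uadd
  let L : K →+ R := AddMonoidHom.mk' fl ladd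
  have hne : ∀ z, z ≠ 0 → U z ≠ 0 := fun z hz e => by
    have h3 : ∀ t, U (t ^ 2 * z) = 0 := fun t => by
      rcases eq_or_ne t 0 with rfl | ht
      · simp
      obtain ⟨y, hy⟩ := tot (dd t ht)
      have := mul (mul hy (hu z)) (inv hy)
      rw [dd_conj, show fu z = 0 from e, uu_zero, mul_one, mul_inv_cancel, ← uu_zero] at this
      exact PM.uu_inj h2R (uniq (hu _) this)
    have h4 : (1 : K) = ((2 * 2 * z)⁻¹ + 1) ^ 2 * z - ((2 * 2 * z)⁻¹ - 1) ^ 2 * z := by
      field_simp; ring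
    have := congrArg U h4
    rw [map_sub, h3, h3, sub_zero] at this
    exact one_ne_zero (u1.symm.trans this)
  have key : ∀ z, z ≠ 0 → U z * L z⁻¹ = 1 := fun z hz => by
    have h3 : uu z * ll (-z⁻¹) * uu z = ll (-z⁻¹) * uu z * ll (-z⁻¹) := H19.St.rel_SL.w_eq hz
    have h4 := (braid h2R hloc (uniq (mul (mul (hu z) (hl _)) (hu z))
      (by rw [h3]; exact mul (mul (hl _) (hu z)) (hl _)))).resolve_right (hne z hz)
    change U z * L (-z⁻¹) = -1 at h4
    rw [map_neg] at h4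
    linear_combination -h4
  have hsq : ∀ z, U (z * z) = U z * U z := fun z => by
    have U1 : U 1 = 1 := u1
    rcases eq_or_ne z 0 with rfl | h0
    · simp
    rcases eq_or_ne z (-1) with rfl | h1
    · simp [U1]
    have h1' : z + 1 ≠ 0 := fun e => h1 (add_eq_zero_iff_eq_neg.1 e)
    have e1 := key z h0
    have e2 := key _ h1'
    have e3 := key _ (mul_ne_zero h0 h1')
    rw [show (z * (z + 1))⁻¹ = z⁻¹ - (z + 1)⁻¹ by field_simp; ring, map_sub, mul_add, mul_one,
      map_add] at e3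
    rw [map_add, U1] at e2
    linear_combination (U z * (U z + 1)) * e3 - (U (z * z) + U z) * ((U z + 1) * e1 - U z * e2)
  have hmul : ∀ z w, U (z * w) = U z * U w := fun z w => by
    have e1 := hsq (z + w)
    rw [show (z + w) * (z + w) = z * z + w * w + (z * w + z * w) by ring] at e1
    simp only [map_add, hsq] at e1
    exact sub_eq_zero.1 (zero_of_two h2R (by linear_combination e1))
  let Φ : K →+* R := { U with map_one' := u1, map_mul' := hmul }
  refine ⟨Φ, Polynomial.ringHom_ext (fun a => PM.uu_inj h2R (uniq (hu _) (rC a))) ?_⟩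
  have e1 := key _ (inv_ne_zero hX0)
  rw [inv_inv, show L (π X) = φ X from PM.ll_inj h2R (uniq (hl _) rX)] at e1
  have e2 := hmul (π X) (π X)⁻¹
  rw [mul_inv_cancel₀ hX0, show U 1 = 1 from u1] at e2
  change U (π X) = φ X
  linear_combination (-U (π X)) * e1 - φ X * e2

theorem red_eq_iff' {F : k[X]} {g h : SL(2, k[X])} :
    red F g = red F h ↔ ∃ Y : Matrix (Fin 2) (Fin 2) k[X], g.1 = h.1 + F • Y := by
  rw [red_eq_iff]
  constructor
  · intro H
    choose Y hY using H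
    exact ⟨Matrix.of Y, Matrix.ext fun i j => by
      rw [Matrix.add_apply, Matrix.smul_apply, of_apply, smul_eq_mul, ← hY]; ring⟩
  · rintro ⟨Y, e⟩ i j
    exact ⟨Y i j, by rw [e, Matrix.add_apply, Matrix.smul_apply, smul_eq_mul]; ring⟩

theorem red_eq_one {F : k[X]} {g : SL(2, k[X])} :
    red F g = 1 ↔ ∃ Y : Matrix (Fin 2) (Fin 2) k[X], g.1 = 1 + F • Y := by
  rw [← map_one (red F), red_eq_iff']; rfl

/-- the congruence subgroup -/
noncomputable def KK (G : k[X]) : Subgroup SL(2, k[X]) := HH k ⊓ (red G).ker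

theorem mem_KK {G : k[X]} {a : SL(2, k[X])} : a ∈ KK G ↔ a ∈ HH k ∧ red G a = 1 := Iff.rfl

theorem KK_le (G : k[X]) : KK G ≤ HH k := inf_le_left

theorem KK_conj {G : k[X]} {g a : SL(2, k[X])} (hg : g ∈ HH k) (ha : a ∈ KK G) : g * a * g⁻¹ ∈ KK G :=
  mem_KK.2 ⟨mul_mem (mul_mem hg (KK_le G ha)) (inv_mem hg), (red G).normal_ker.conj_mem a ha.2 g⟩

theorem comm_mem {a b : SL(2, k[X])} (ha : a ∈ HH k) (hb : b ∈ HH k) : ⁅a, b⁆ ∈ HH k :=
  mul_mem (mul_mem (mul_mem ha hb) (inv_mem ha)) (inv_mem hb)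

theorem comm_KK (G G' : k[X]) : ⁅KK G, KK G'⁆ ≤ KK (G * G') := by
  refine Subgroup.commutator_le.2 fun a ha b hb => mem_KK.2 ⟨comm_mem ha.1 hb.1, ?_⟩
  obtain ⟨A, hA⟩ := red_eq_one.1 ha.2
  obtain ⟨B, hB⟩ := red_eq_one.1 hb.2
  rw [map_commutatorElement, commutatorElement_eq_one_iff_mul_comm,
    ← map_mul, ← map_mul]
  refine red_eq_iff'.2 ⟨A * B - B * A, ?_⟩
  change a.1 * b.1 = b.1 * a.1 + _
  rw [hA, hB]
  simp only [add_mul, mul_add, one_mul, mul_one, smul_mul_assoc, mul_smul_comm, smul_smul]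
  module

theorem unit_mk {p F : k[X]} (h : IsCoprime p F) : IsUnit (AdjoinRoot.mk F p) := by
  obtain ⟨a, b, e⟩ := h
  have := congrArg (AdjoinRoot.mk F) e
  rw [map_add, map_mul, map_mul, AdjoinRoot.mk_self, mul_zero, add_zero, map_one] at this
  exact IsUnit.of_mul_eq_one_right _ this

section Fin

variable (h2 : (2 : k) ≠ 0) (h3 : Nat.card k ≠ 3)
include h2 h3

theorem perfect (f : k[X]) [Fact (Irreducible f)] : commutator SL(2, AdjoinRoot f) = ⊤ := by
  obtain ⟨c, h4, h5⟩ := exists_sq_ne h2 h3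
  exact SL2.commutator_eq_top ((_root_.map_ne_zero (algebraMap k (AdjoinRoot f))).2 h4) fun e =>
    h5 ((algebraMap k (AdjoinRoot f)).injective (by rw [map_pow, e, map_one]))

variable (hs : ∀ g : k[X], Irreducible g → ¬ g ∣ X → (HH k).map (red g) = ⊤)
  {f : k[X]} [hf : Fact (Irreducible f)] (hX : ¬ f ∣ X)
include hs hX

theorem full_irr {g : k[X]} (hg : Irreducible g) (h : ¬ f ∣ g) : (KK g).map (red f) = ⊤ := by
  have hp := perfect h2 h3 f
  by_cases hgX : g ∣ X
  · have h1 : ∀ a ∈ HH k, ∃ z, red g a = uu z := fun a ha => by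
      refine HH_induction (p := fun a => ∃ z, red g a = uu z) ⟨0, by rw [map_one, uu_zero]⟩ ?_ ?_ ha
      · rintro c a ⟨z, e⟩
        exact ⟨_, by rw [map_mul, e, mp_uu, ← uu_add]⟩
      · rintro c a ⟨z, e⟩
        exact ⟨z, by rw [map_mul, e, mp_ll, AdjoinRoot.mk_eq_zero.2 (hgX.mul_left _), ll_zero, one_mul]⟩
    have h4 : ⁅HH k, HH k⁆ ≤ KK g := Subgroup.commutator_le.2 fun a ha b hb =>
      mem_KK.2 ⟨comm_mem ha hb, by
        obtain ⟨z, e⟩ := h1 a ha
        obtain ⟨w, e'⟩ := h1 b hb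
        rw [map_commutatorElement,
          commutatorElement_eq_one_iff_mul_comm, e, e', ← uu_add, ← uu_add, add_comm]⟩
    have := Subgroup.map_mono (f := red f) h4
    rwa [Subgroup.map_commutator, hs f hf.out hX, ← commutator_def, hp, top_le_iff] at this
  have hn : ((KK g).map (red f)).Normal := ⟨by
    rintro _ ⟨a, ha, rfl⟩ y
    obtain ⟨b, hb, rfl⟩ := Subgroup.mem_map.1 (hs f hf.out hX ▸ Subgroup.mem_top y)
    exact ⟨_, KK_conj hb ha, by simp⟩⟩
  rcases H10.normal_SL_le_center_or ((KK g).map (red f)) with h4 | h4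
  · have := Fact.mk hg
    obtain ⟨Φ, e⟩ := hua (R := AdjoinRoot f) (fun a => by
        rcases eq_or_ne a 0 with rfl | h0
        exacts [Or.inr (by simp), Or.inl h0.isUnit]) h2 (AdjoinRoot.mk g)
      (fun e => hgX (AdjoinRoot.mk_eq_zero.1 e)) (two_ne h2 g) (AdjoinRoot.mk f)
      (Ne.isUnit fun e => hX (AdjoinRoot.mk_eq_zero.1 e)) (hs g hg hgX)
      fun a ha h5 => H19.St.mem_center_iff.1 (h4 ⟨a, ⟨ha, h5⟩, rfl⟩)
    exact absurd (AdjoinRoot.mk_eq_zero.1 (by
      rw [← e, RingHom.comp_apply, AdjoinRoot.mk_self, map_zero])) h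
  · rwa [hp, top_le_iff] at h4

theorem full_KK (G : k[X]) (h : ¬ f ∣ G) : (KK G).map (red f) = ⊤ := by
  induction G using WfDvdMonoid.induction_on_irreducible with
  | zero => exact absurd (dvd_zero f) h
  | unit u hu =>
    rw [← hs f hf.out hX]
    exact congrArg _ (inf_eq_left.2 fun a _ => by
      rw [MonoidHom.mem_ker, ← map_one (red u), red_eq_iff]; exact fun _ _ => hu.dvd)
  | mul a i _ hi ih =>
    have := Subgroup.map_mono (f := red f) (comm_KK i a)
    rwa [Subgroup.map_commutator, full_irr h2 h3 hs hX hi fun e => h (e.mul_right _),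
      ih fun e => h (e.mul_left _), ← commutator_def, perfect h2 h3 f, top_le_iff] at this

theorem level_one : ∃ a ∈ KK f, red (f ^ 2) a ≠ 1 := by
  by_contra hc
  push Not at hc
  have hu : ∀ p, ¬ f ∣ p → IsUnit (AdjoinRoot.mk (f ^ 2) p) := fun p hp =>
    unit_mk (hf.out.coprime_iff_not_dvd.2 hp).symm.pow_right
  have hnd : ¬ f ^ 2 ∣ f := fun e => hf.out.not_isUnit (isUnit_of_dvd_one
    ((mul_dvd_mul_iff_left hf.out.ne_zero).1 (by rwa [← sq, mul_one])))
  have : Nontrivial (AdjoinRoot (f ^ 2)) :=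
    ⟨⟨AdjoinRoot.mk _ f, 0, fun e => hnd (AdjoinRoot.mk_eq_zero.1 e)⟩⟩
  obtain ⟨Φ, e⟩ := hua (R := AdjoinRoot (f ^ 2)) (fun a => by
      obtain ⟨p, rfl⟩ := AdjoinRoot.mk_surjective a
      by_cases hp : f ∣ p
      · exact Or.inr (by
          simpa using hu (1 - p) fun e => hf.out.not_isUnit (isUnit_of_dvd_one (by
            simpa using dvd_add e hp)))
      · exact Or.inl (hu p hp)) h2 (AdjoinRoot.mk f)
    (fun e => hX (AdjoinRoot.mk_eq_zero.1 e)) (two_ne h2 f) (AdjoinRoot.mk (f ^ 2)) (hu X hX)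
    (hs f hf.out hX) fun a ha h5 => Or.inl (hc a ⟨ha, h5⟩)
  exact hnd (AdjoinRoot.mk_eq_zero.1 (by rw [← e, RingHom.comp_apply, AdjoinRoot.mk_self, map_zero]))

end Fin

theorem gen_e12 {K : Type*} [Field K] (h2 : (2 : K) ≠ 0) {P : Matrix (Fin 2) (Fin 2) K → Prop}
    (hD : ∀ (g : SL(2, K)) Y, P Y → P (g.1 * Y * (g⁻¹).1 - Y)) {Y : Matrix (Fin 2) (Fin 2) K}
    (hY : P Y) (htr : Y 0 0 + Y 1 1 = 0) (h0 : Y ≠ 0) (z : K) : P !![0, z; 0, 0] := by
  have D : ∀ (t a b c : K), P !![a, b; c, -a] → P !![t * c, -(2 * t * a) - t ^ 2 * c; 0, -(t * c)] := by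
    intro t a b c h
    convert hD (uu t) _ h using 1
    rw [← uu_neg]
    ext i j
    fin_cases i <;> fin_cases j <;> simp [uu, Matrix.mul_apply, Fin.sum_univ_two] <;> ring
  have A : ∀ a b : K, a ≠ 0 → P !![a, b; 0, -a] → P !![0, z; 0, 0] := fun a b ha h => by
    convert D (-z / (2 * a)) a b 0 h using 1
    ext i j
    fin_cases i <;> fin_cases j <;> simp
    field_simp
  have B : ∀ a b c : K, c ≠ 0 → P !![a, b; c, -a] → P !![0, z; 0, 0] := fun a b c hc h =>
    A _ _ (by simpa) (D 1 a b c h)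
  have e : Y = !![Y 0 0, Y 0 1; Y 1 0, -Y 0 0] := by
    ext i j
    fin_cases i <;> fin_cases j <;> simp
    linear_combination htr
  rw [e] at hY h0
  by_cases hc : Y 1 0 = 0
  · rw [hc] at hY h0
    by_cases ha : Y 0 0 = 0
    · rw [ha] at hY h0
      refine B (-Y 0 1) 0 (-Y 0 1) (fun e => h0 ?_) ?_
      · rw [neg_eq_zero.1 e]; ext i j; fin_cases i <;> fin_cases j <;> simp
      · convert hD (ll 1) _ hY using 1
        rw [← ll_neg]
        ext i j
        fin_cases i <;> fin_cases j <;> simp [ll, Matrix.mul_apply, Fin.sum_univ_two]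
    · exact A _ _ ha hY
  · exact B _ _ _ hc hY

/-- leading terms of level `j` -/
def WW (N : Subgroup SL(2, k[X])) (f : k[X]) (j : ℕ) (Y : Matrix (Fin 2) (Fin 2) (AdjoinRoot f)) :
    Prop := ∃ a ∈ N, ∃ A, a.1 = 1 + f ^ j • A ∧ (AdjoinRoot.mk f).mapMatrix A = Y

theorem red_coe (f : k[X]) (a : SL(2, k[X])) : (AdjoinRoot.mk f).mapMatrix a.1 = (red f a).1 := rfl

theorem red_of_level {f : k[X]} {j : ℕ} {a : SL(2, k[X])} {A : Matrix (Fin 2) (Fin 2) k[X]}
    (h : a.1 = 1 + f ^ (j + 1) • A) : red f a = 1 :=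
  red_eq_one.2 ⟨f ^ j • A, by rw [h, smul_smul, pow_succ']⟩

theorem WW_D {N : Subgroup SL(2, k[X])} {f : k[X]} {j : ℕ} {g b : SL(2, k[X])}
    {B : Matrix (Fin 2) (Fin 2) k[X]} (hb : b.1 = 1 + f ^ (j + 1) • B) (h : ⁅g, b⁆ ∈ N) :
    WW N f (j + 1) ((red f g).1 * (AdjoinRoot.mk f).mapMatrix B * ((red f g)⁻¹).1 -
      (AdjoinRoot.mk f).mapMatrix B) := by
  refine ⟨_, h, (g.1 * B * (g⁻¹).1 - B) * (b⁻¹).1, ?_, ?_⟩
  · have e1 : g.1 * (g⁻¹).1 = 1 := congrArg Subtype.val (mul_inv_cancel g)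
    have e2 : b.1 * (b⁻¹).1 = 1 := congrArg Subtype.val (mul_inv_cancel b)
    change g.1 * b.1 * (g⁻¹).1 * (b⁻¹).1 = _
    calc _ = (b.1 + f ^ (j + 1) • (g.1 * B * (g⁻¹).1 - B)) * (b⁻¹).1 := by
          rw [hb, mul_add, add_mul, mul_one, e1, mul_smul_comm, smul_mul_assoc, smul_sub]
          congr 1; abel
      _ = _ := by rw [add_mul, e2, smul_mul_assoc]
  · rw [map_mul, map_sub, map_mul, map_mul, red_coe, red_coe, red_coe, map_inv, map_inv,
      red_of_level hb, inv_one]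
    exact mul_one _

theorem WW_br {N : Subgroup SL(2, k[X])} {f : k[X]} {j : ℕ} {Y Y' : Matrix (Fin 2) (Fin 2) (AdjoinRoot f)}
    (h : WW N f 1 Y) (h' : WW N f (j + 1) Y') : WW N f (j + 1 + 1) (Y * Y' - Y' * Y) := by
  obtain ⟨a, ha, A, e, rfl⟩ := h
  obtain ⟨b, hb, B, e', rfl⟩ := h'
  refine ⟨a * b * a⁻¹ * b⁻¹, mul_mem (mul_mem (mul_mem ha hb) (inv_mem ha)) (inv_mem hb),
    (A * B - B * A) * (a⁻¹).1 * (b⁻¹).1, ?_, ?_⟩
  · have e1 : a.1 * (a⁻¹).1 = 1 := congrArg Subtype.val (mul_inv_cancel a)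
    have e2 : b.1 * (b⁻¹).1 = 1 := congrArg Subtype.val (mul_inv_cancel b)
    change a.1 * b.1 * (a⁻¹).1 * (b⁻¹).1 = _
    have e3 : a.1 * b.1 = b.1 * a.1 + f ^ (j + 1 + 1) • (A * B - B * A) := by
      rw [e, e']
      simp only [add_mul, mul_add, one_mul, mul_one, smul_mul_assoc, mul_smul_comm, smul_smul]
      module
    rw [e3, add_mul, add_mul, mul_assoc b.1, e1, mul_one, e2, smul_mul_assoc, smul_mul_assoc]
  · rw [map_mul, map_mul, map_sub, map_mul, map_mul, red_coe, red_coe, map_inv, map_inv,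
      red_of_level (j := 0) e, red_of_level e', inv_one]
    exact (mul_one _).trans (mul_one _)

theorem univ_of_surj (h2 : (2 : k) ≠ 0) (h3 : Nat.card k ≠ 3)
    (hs : ∀ g : k[X], Irreducible g → ¬ g ∣ X → (HH k).map (red g) = ⊤) {f G : k[X]}
    (hf : Irreducible f) (hX : ¬ f ∣ X) (hG : G ≠ 0) (p : k[X]) :
    ∃ g ∈ HH k, red (f * G) g = red (f * G) (uu (p * G)) := by
  have := Fact.mk hf
  obtain ⟨m, G, hfG, rfl⟩ := WfDvdMonoid.max_power_factor hG hf
  have h2K := two_ne h2 f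
  have hfull := full_KK h2 h3 hs hX G hfG
  have hD : ∀ (F : k[X]) (j : ℕ) (g : SL(2, AdjoinRoot f)) Y, WW (KK F) f (j + 1) Y →
      WW (KK F) f (j + 1) (g.1 * Y * (g⁻¹).1 - Y) := by
    rintro F j g _ ⟨b, hb, B, e, rfl⟩
    obtain ⟨g, hg, rfl⟩ := Subgroup.mem_map.1 (hs f hf hX ▸ Subgroup.mem_top g)
    exact WW_D e (mul_mem (KK_conj hg hb) (inv_mem hb))
  have hl : ∀ z : AdjoinRoot f, (ll (1 : AdjoinRoot f)).1 * !![0, z; 0, 0] * ((ll 1)⁻¹).1 - !![0, z; 0, 0] =
      !![-z, 0; -z, z] := fun z => by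
    rw [← ll_neg]
    ext i j
    fin_cases i <;> fin_cases j <;> simp [ll, Matrix.mul_apply, Fin.sum_univ_two]
  have h1 : ∀ z, WW (KK G) f 1 !![0, z; 0, 0] := by
    obtain ⟨a, ha, h4⟩ := level_one h2 h3 hs hX
    obtain ⟨A, hA⟩ := red_eq_one.1 ha.2
    obtain ⟨b, hb, B, e, e'⟩ := gen_e12 h2K (hD f 0) ⟨a, ha, A, by rw [hA, zero_add, pow_one], rfl⟩ (by
      have := det2 a
      rw [hA] at this
      simp only [Matrix.add_apply, Matrix.smul_apply, smul_eq_mul, one_apply_eq,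
        one_apply_ne (show (0 : Fin 2) ≠ 1 by decide), one_apply_ne (show (1 : Fin 2) ≠ 0 by decide)] at this
      change AdjoinRoot.mk f (A 0 0) + AdjoinRoot.mk f (A 1 1) = 0
      rw [← map_add, AdjoinRoot.mk_eq_zero]
      exact ⟨A 0 1 * A 1 0 - A 0 0 * A 1 1, mul_left_cancel₀ hf.ne_zero (by linear_combination this)⟩)
      (fun e => h4 (by
        rw [← map_one (red (f ^ 2)), red_eq_iff]
        intro i j
        obtain ⟨c, hc⟩ : f ∣ A i j := AdjoinRoot.mk_eq_zero.1 (congrFun (congrFun e i) j)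
        exact ⟨c, by
          change a.1 i j - (1 : Matrix (Fin 2) (Fin 2) k[X]) i j = _
          rw [hA, Matrix.add_apply, Matrix.smul_apply, smul_eq_mul, hc]; ring⟩)) 1
    obtain ⟨g, hg, e1⟩ := Subgroup.mem_map.1 (hfull ▸ Subgroup.mem_top (ll 1))
    have := WW_D (N := KK G) (g := g) e (by
      rw [commutatorElement_def, mul_assoc, mul_assoc, ← mul_assoc b, ← inv_inv b, inv_inv]
      exact mul_mem hg (by simpa using KK_conj (KK_le f hb) (inv_mem hg)))
    rw [e1, e', hl] at this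
    exact gen_e12 h2K (hD G 0) this (by simp) fun e => by simpa using congrFun (congrFun e 1) 1
  have h4 : ∀ j z, WW (KK G) f j !![0, z; 0, 0] := by
    intro j
    rcases j with _ | j
    · intro z
      obtain ⟨g, hg, e1⟩ := Subgroup.mem_map.1 (hfull ▸ Subgroup.mem_top (uu z))
      refine ⟨g, hg, g.1 - 1, by simp, ?_⟩
      rw [map_sub, red_coe, e1, map_one]
      ext i j
      fin_cases i <;> fin_cases j <;> simp [uu]
    induction j with
    | zero => exact h1
    | succ j ih =>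
      have := hD G j (ll 1) _ (ih 1)
      rw [hl] at this
      refine gen_e12 h2K (hD G (j + 1)) (WW_br (h1 1) this) (by simp) fun e => ?_
      simpa using congrFun (congrFun e 1) 1
  obtain ⟨a, ha, A, e, e'⟩ := h4 m (AdjoinRoot.mk f (p * G))
  refine ⟨a, ha.1, red_eq_iff.2 fun i j => ?_⟩
  rw [← mul_assoc, ← pow_succ']
  refine (hf.coprime_iff_not_dvd.2 hfG).pow_left.mul_dvd ?_ ?_
  · have h5 : f ∣ A i j - !![0, p * G; 0, 0] i j := by
      rw [← AdjoinRoot.mk_eq_mk]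
      refine (congrFun (congrFun e' i) j).trans ?_
      fin_cases i <;> fin_cases j <;> simp
    convert mul_dvd_mul_left (f ^ m) h5 using 1
    · exact pow_succ _ _
    · rw [e]
      fin_cases i <;> fin_cases j <;> simp [uu] <;> ring
  · have h5 := red_eq_iff.1 (ha.2.trans (map_one (red G)).symm) i j
    have h6 : G ∣ (uu (p * (f ^ m * G))).1 i j - (1 : SL(2, k[X])).1 i j := by
      fin_cases i <;> fin_cases j <;> simp [← mul_assoc]
    simpa using dvd_sub h5 h6

theorem surj (h2 : (2 : k) ≠ 0) (h3 : Nat.card k ≠ 3) {g : k[X]} (hg : Irreducible g) (hX : ¬ g ∣ X) :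
    (HH k).map (red g) = ⊤ := by
  have := Fact.mk hg
  have h0 : AdjoinRoot.root g ≠ 0 := fun e => hX (AdjoinRoot.mk_eq_zero.1 e)
  have hl : ∀ a : k, ll (algebraMap k (AdjoinRoot g) a * AdjoinRoot.root g) ∈ (HH k).map (red g) :=
    fun a => ⟨_, ll_mem a, by rw [mp_ll, map_mul]; rfl⟩
  cases finite_or_infinite k with
  | inl h =>
    have : Module.Finite k (AdjoinRoot g) := (AdjoinRoot.powerBasis hg.ne_zero).finite
    have : Finite (AdjoinRoot g) := Module.finite_of_finite k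
    exact dickson_fin h2 h3 h0 (fun z => by
      obtain ⟨p, rfl⟩ := AdjoinRoot.mk_surjective z
      exact ⟨p, AdjoinRoot.aeval_eq p⟩) (fun a => ⟨_, uu_mem a, mp_uu _ _⟩) hl
  | inr h =>
    refine eq_top_of' (fun z => ?_) h0 (by simpa using hl 1)
    obtain ⟨p, rfl⟩ := AdjoinRoot.mk_surjective z
    obtain ⟨a, ha, e⟩ := univ_inf h2 hg.ne_zero p
    exact ⟨a, ha, e.trans (mp_uu _ _)⟩

/-- Dickson's lemma modulo an arbitrary polynomial -/
theorem univ (h2 : (2 : k) ≠ 0) (h3 : Nat.card k ≠ 3) {f G : k[X]} (hf : Irreducible f)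
    (hX : ¬ f ∣ X) (hG : G ≠ 0) (p : k[X]) : ∃ g ∈ HH k, red (f * G) g = red (f * G) (uu (p * G)) :=
  univ_of_surj h2 h3 (fun _ => surj h2 h3) hf hX hG p

end Cfsg.Agent.H3.Dk
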