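import Mathlib

/-!
Finite fields generated by a root of unity of prime order and invariant alternating forms.
-/

set_option autoImplicit false

namespace Cfsg.Agent.H3.Gol

variable {F : Type} [Field F] [Finite F] {p q a : ℕ} {ζ : F}

/-- the multiplicative stabiliser of an additive subgroup -/
def stab (T : AddSubgroup F) : Subfield F where
  carrier := {c | ∀ w ∈ T, c * w ∈ T}
  mul_mem' := fun {x y} hx hy w hw => by
    rw [mul_assoc]
    exact hx _ (hy w hw)
  one_mem' := fun w hw => by rwa [one_mul]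
  add_mem' := fun {x y} hx hy w hw => by
    rw [add_mul]
    exact T.add_mem (hx w hw) (hy w hw)
  zero_mem' := fun w _ => by
    rw [zero_mul]
    exact T.zero_mem
  neg_mem' := fun {x} hx w hw => by
    rw [neg_mul]
    exact T.neg_mem (hx w hw)
  inv_mem' := fun x hx w hw => by
    by_cases h : x = 0
    · rw [h, inv_zero, zero_mul]
      exact T.zero_mem
    have h1 : Function.Injective fun v : T => (⟨x * v, hx v v.2⟩ : T) := fun u v e =>
      Subtype.ext (mul_left_cancel₀ h (congrArg Subtype.val e))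
    obtain ⟨v, hv⟩ := Finite.surjective_of_injective h1 ⟨w, hw⟩
    have h2 : x * v = w := congrArg Subtype.val hv
    rw [← h2, inv_mul_cancel_left₀ h]
    exact v.2

omit [Finite F] in
theorem ne_zero_of_ord (hq : q.Prime) (ho : orderOf ζ = q) : ζ ≠ 0 := fun e => by
  have := pow_orderOf_eq_one ζ
  rw [ho, e, zero_pow hq.ne_zero] at this
  exact zero_ne_one this

omit [Finite F] in
theorem pow_iff (hp : p.Prime) (hq : q.Prime) (ho : orderOf ζ = q) (m : ℕ) :
    ζ ^ p ^ m = ζ ↔ orderOf (p : ZMod q) ∣ m := by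
  have h0 := ne_zero_of_ord hq ho
  have h6 := Nat.one_le_pow m p hp.pos
  rw [orderOf_dvd_iff_pow_eq_one, ← Nat.cast_pow, ← Nat.cast_one (R := ZMod q),
    eq_comm (a := ((p ^ m : ℕ) : ZMod q)), ZMod.natCast_eq_natCast_iff, Nat.modEq_iff_dvd' h6, ← ho,
    orderOf_dvd_iff_pow_eq_one, ← mul_eq_right₀ h0, ← pow_succ, Nat.sub_add_cancel h6]

theorem card_sub (hp : p.Prime) (hF : Nat.card F = p ^ a) (K : Subfield F) :
    ∃ b ≤ a, Nat.card K = p ^ b :=
  (Nat.dvd_prime_pow hp).1 (hF ▸ AddSubgroup.card_addSubgroup_dvd_card K.toAddSubgroup)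

theorem irr (hp : p.Prime) (hq : q.Prime) (hF : Nat.card F = p ^ a) (ha : a = orderOf (p : ZMod q))
    (ho : orderOf ζ = q) (W : AddSubgroup F) (hW : ∀ w ∈ W, ζ * w ∈ W) {w : F} (hw : w ∈ W)
    (h0 : w ≠ 0) (c : F) : c ∈ W := by
  obtain ⟨b, h1, h2⟩ := card_sub hp hF (stab W)
  haveI := Fintype.ofFinite (stab W)
  have h3 : ζ ^ p ^ b = ζ := by
    have := FiniteField.pow_card (⟨ζ, hW⟩ : stab W)
    rw [← Nat.card_eq_fintype_card, h2] at this
    exact congrArg Subtype.val this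
  have h4 : b ≠ 0 := by
    rintro rfl
    exact (Finite.one_lt_card (α := stab W)).ne' h2
  have h5 := Nat.le_of_dvd (Nat.pos_of_ne_zero h4) ((pow_iff hp hq ho b).1 h3)
  have h6 : (stab W).toAddSubgroup = ⊤ := (AddSubgroup.card_eq_iff_eq_top _).1 (by
    rw [hF, show a = b by omega]
    exact h2)
  have h7 : c * w⁻¹ ∈ stab W := h6.ge (AddSubgroup.mem_top _)
  have := h7 w hw
  rwa [inv_mul_cancel_right₀ h0] at this

theorem form (hp : p.Prime) (hq : q.Prime) (hF : Nat.card F = p ^ a) (ha : a = orderOf (p : ZMod q))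
    (ho : orderOf ζ = q) {A : Type*} [Group A] (B : F → F → A)
    (B1 : ∀ c c' d, B (c + c') d = B c d * B c' d) (B2 : ∀ c d d', B c (d + d') = B c d * B c d')
    (B3 : ∀ c, B c c = 1) (B4 : ∀ c d, B (ζ * c) (ζ * d) = B c d) :
    ∃ K : Subgroup A, Finite K ∧ (∀ c d, B c d ∈ K) ∧
      (Nat.card K = 1 ∨ (a % 2 = 0 ∧ Nat.card K ≤ p ^ (a / 2))) := by
  have z0 := ne_zero_of_ord hq ho
  let β : Multiplicative F →* A := MonoidHom.mk' (fun d => B 1 d.toAdd) fun d d' => B2 _ _ _
  have B0 : ∀ d, B 0 d = 1 := fun d => by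
    have := B1 0 0 d
    rw [add_zero] at this
    exact left_eq_mul.1 this
  have B0' : ∀ d, B d 0 = 1 := fun d => by
    have := B2 d 0 0
    rw [add_zero] at this
    exact left_eq_mul.1 this
  have B5 : ∀ c d, B (-c) d = (B c d)⁻¹ := fun c d => by
    rw [eq_inv_iff_mul_eq_one, ← B1, neg_add_cancel, B0]
  have B5' : ∀ c d, B c (-d) = (B c d)⁻¹ := fun c d => by
    rw [eq_inv_iff_mul_eq_one, ← B2, neg_add_cancel, B0']
  have B6 : ∀ c d, B (ζ * c) d = B c (ζ⁻¹ * d) := fun c d => by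
    rw [← B4 c, mul_inv_cancel_left₀ z0]
  have B7 : ∀ c d, B (ζ⁻¹ * c) d = B c (ζ * d) := fun c d => by
    rw [← B4, mul_inv_cancel_left₀ z0]
  have B8 : ∀ c d, B c d * B d c = 1 := fun c d => by
    have := B3 (c + d)
    rwa [B1, B2, B2, B3, B3, one_mul, mul_one] at this
  have B9 : ∀ c d, B ((ζ + ζ⁻¹) * c) d = B c ((ζ + ζ⁻¹) * d) := fun c d => by
    rw [add_mul, B1, B6, B7, ← B2, ← add_mul, add_comm]
  have B10 : ∀ (n : ℕ) c, B c ((ζ + ζ⁻¹) ^ n * c) = 1 := fun n => by
    induction n using Nat.twoStepInduction with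
    | zero => intro c; rw [pow_zero, one_mul, B3]
    | one => intro c; rw [pow_one, add_mul, B2, ← B6, B8]
    | more n ih _ =>
      intro c
      rw [show (ζ + ζ⁻¹) ^ (n + 2) * c = (ζ + ζ⁻¹) * ((ζ + ζ⁻¹) ^ n * ((ζ + ζ⁻¹) * c)) by ring, ← B9, ih]
  let W : AddSubgroup F :=
    { carrier := {c | ∀ d, B c d ∈ β.range}
      add_mem' := fun {x y} hx hy d => by
        rw [B1]
        exact mul_mem (hx d) (hy d)
      zero_mem' := fun d => by
        rw [B0]
        exact one_mem _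
      neg_mem' := fun {x} hx d => by
        rw [B5]
        exact inv_mem (hx d) }
  have h1 : ∀ c, c ∈ W := irr hp hq hF ha ho W (fun w hw d => by
    rw [B6]
    exact hw _) (w := 1) (fun d => ⟨Multiplicative.ofAdd d, rfl⟩) one_ne_zero
  let T : AddSubgroup F :=
    { carrier := {r | ∀ n : ℕ, B 1 ((ζ + ζ⁻¹) ^ n * r) = 1}
      add_mem' := fun {x y} hx hy n => by rw [mul_add, B2, hx, hy, one_mul]
      zero_mem' := fun n => by rw [mul_zero, B0']
      neg_mem' := fun {x} hx n => by rw [mul_neg, B5', hx, inv_one] }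
  have hη : ζ + ζ⁻¹ ∈ stab T := fun w hw n => by
    rw [← mul_assoc, ← pow_succ]
    exact hw _
  have h2 : ∀ r ∈ stab T, B 1 r = 1 := fun r hr => by
    have := hr 1 (fun n => B10 n 1) 0
    rwa [pow_zero, one_mul, mul_one] at this
  let W3 : AddSubgroup F :=
    { carrier := {c | ∃ r ∈ stab T, ∃ s ∈ stab T, c = r + s * ζ}
      add_mem' := by
        rintro _ _ ⟨r, hr, s, hs, rfl⟩ ⟨r', hr', s', hs', rfl⟩
        exact ⟨_, add_mem hr hr', _, add_mem hs hs', by ring⟩
      zero_mem' := ⟨0, zero_mem _, 0, zero_mem _, by ring⟩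
      neg_mem' := by
        rintro _ ⟨r, hr, s, hs, rfl⟩
        exact ⟨_, neg_mem hr, _, neg_mem hs, by ring⟩ }
  have h3 : ∀ c, c ∈ W3 := irr hp hq hF ha ho W3 (by
    rintro _ ⟨r, hr, s, hs, rfl⟩
    refine ⟨_, neg_mem hs, _, add_mem hr (mul_mem hs hη), ?_⟩
    field_simp
    ring) (w := 1) ⟨1, one_mem _, 0, zero_mem _, by ring⟩ one_ne_zero
  have h4 : Nat.card F ≤ Nat.card (stab T) ^ 2 := by
    rw [sq, ← Nat.card_prod]
    refine Nat.card_le_card_of_surjective (fun x : stab T × stab T => (x.1 : F) + x.2 * ζ) fun c => ?_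
    obtain ⟨r, hr, s, hs, e⟩ := h3 c
    exact ⟨(⟨r, hr⟩, ⟨s, hs⟩), e.symm⟩
  have h5 : Nat.card F = Nat.card (stab T) ^ Module.finrank (stab T) F := Module.natCard_eq_pow_finrank
  have h6 : 1 < Nat.card (stab T) := Finite.one_lt_card
  have h7 : 1 < Nat.card F := Finite.one_lt_card
  have h8 : Nat.card (stab T) ≤ Nat.card β.ker :=
    Nat.card_le_card_of_injective (fun r : stab T => (⟨Multiplicative.ofAdd r.1, h2 r r.2⟩ : β.ker))
      fun r s e => Subtype.ext (Multiplicative.ofAdd.injective (congrArg (fun x : β.ker => x.1) e))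
  have h9 : Nat.card β.ker * Nat.card β.range = Nat.card F := by
    rw [← Subgroup.index_ker, Subgroup.card_mul_index]
    rfl
  haveI : Finite β.range := Finite.of_surjective _ β.rangeRestrict_surjective
  have h10 : 0 < Nat.card β.range := Nat.card_pos
  refine ⟨β.range, inferInstance, fun c d => h1 c d, ?_⟩
  obtain ⟨b, -, hb⟩ := card_sub hp hF (stab T)
  generalize Module.finrank (stab T) F = d at h5
  generalize Nat.card (stab T) = k at *
  have h11 : d ≤ 2 := (Nat.pow_le_pow_iff_right h6).1 (h5 ▸ h4)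
  have h12 := Nat.mul_le_mul_right (Nat.card β.range) h8
  interval_cases d
  · rw [pow_zero] at h5
    omega
  · left
    rw [pow_one] at h5
    rw [h9, h5] at h12
    have := Nat.le_of_mul_le_mul_left (h12.trans (mul_one k).ge) (by omega)
    omega
  · right
    have h13 : a = b * 2 := by
      rw [hF, hb, ← pow_mul] at h5
      exact Nat.pow_right_injective hp.two_le h5
    rw [h9, h5, sq] at h12
    refine ⟨by omega, ?_⟩
    rw [show a / 2 = b by omega, ← hb]
    exact Nat.le_of_mul_le_mul_left h12 (by omega)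

theorem ord_pos (hp : p.Prime) (hq : q.Prime) (hpq : p ≠ q) : 0 < orderOf (p : ZMod q) := by
  haveI := Fact.mk hq
  refine (isOfFinOrder_iff_pow_eq_one.2 ⟨q - 1, by have := hq.two_le; omega,
    ZMod.pow_card_sub_one_eq_one ?_⟩).orderOf_pos
  rw [Ne, ZMod.natCast_eq_zero_iff, Nat.prime_dvd_prime_iff_eq hq hp]
  exact hpq.symm

theorem exists_root (hp : p.Prime) (hq : q.Prime) (hF : Nat.card F = p ^ a)
    (ha : a = orderOf (p : ZMod q)) : ∃ ζ : F, orderOf ζ = q := by
  haveI := Fact.mk hq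
  have h1 : q ∣ Nat.card Fˣ := by
    rw [Nat.card_units, hF, ← Nat.modEq_iff_dvd' (Nat.one_le_pow _ _ hp.pos),
      ← ZMod.natCast_eq_natCast_iff, Nat.cast_pow, Nat.cast_one, ha, pow_orderOf_eq_one]
  obtain ⟨x, hx⟩ := exists_prime_orderOf_dvd_card' q h1
  exact ⟨x, orderOf_units.trans hx⟩

theorem exists_b [hp : Fact p.Prime] [CharP F p] (hq : q.Prime) (hpq : p ≠ q) (hF : Nat.card F = p ^ a)
    (ha : a = orderOf (p : ZMod q)) (ho : orderOf ζ = q) : ∃ b : F →+ F →+ F,
      (∀ u v, b (ζ * u) (ζ * v) = b u v) ∧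
        (a % 2 = 0 → p ^ (a / 2) ≤ Nat.card (Set.range fun c => b c 1 - b 1 c)) := by
  classical
  by_cases h : a % 2 = 0
  swap
  · exact ⟨0, fun _ _ => rfl, fun h' => absurd h' h⟩
  haveI := Fact.mk hq
  have h0 := ord_pos hp.out hq hpq
  obtain ⟨m, hm⟩ : ∃ m, a = m + m := ⟨a / 2, by omega⟩
  have h1 : ζ * ζ ^ p ^ m = 1 := by
    have h2 : ((p : ZMod q) ^ m) * (p : ZMod q) ^ m = 1 := by
      rw [← pow_add, ← hm, ha, pow_orderOf_eq_one]
    rcases mul_self_eq_one_iff.1 h2 with h3 | h3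
    · have := Nat.le_of_dvd (by omega) (orderOf_dvd_of_pow_eq_one h3)
      omega
    · rw [← pow_succ', ← orderOf_dvd_iff_pow_eq_one, ho, ← ZMod.natCast_eq_zero_iff, Nat.cast_succ,
        Nat.cast_pow, h3, neg_add_cancel]
  let σ := (iterateFrobenius F p m).toAddMonoidHom
  have hσ : ∀ x, σ x = x ^ p ^ m := fun _ => rfl
  refine ⟨AddMonoidHom.mul.compl₂ σ, fun u v => ?_, fun _ => ?_⟩
  · show ζ * u * σ (ζ * v) = u * σ v
    rw [hσ, hσ, mul_pow]
    linear_combination u * v ^ p ^ m * h1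
  · let δ : F →+ F := AddMonoidHom.id F - σ
    have e : (Set.range fun c => (AddMonoidHom.mul.compl₂ σ) c 1 - (AddMonoidHom.mul.compl₂ σ) 1 c) =
        δ.range := by
      rw [AddMonoidHom.coe_range]
      congr 1
      funext c
      show c * σ 1 - 1 * σ c = c - σ c
      rw [hσ 1, one_pow, mul_one, one_mul]
    have h2 : Nat.card δ.ker * Nat.card δ.range = Nat.card F := by
      rw [← AddSubgroup.index_ker, AddSubgroup.card_mul_index]
    have h3 : 1 < p ^ m := Nat.one_lt_pow (by omega) hp.out.one_lt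
    have h4 : Nat.card δ.ker ≤ p ^ m := by
      haveI := Fintype.ofFinite F
      rw [← FiniteField.X_pow_card_sub_X_natDegree_eq F h3, Nat.card_eq_fintype_card,
        Fintype.card_subtype]
      refine Polynomial.card_le_degree_of_subset_roots fun x hx => ?_
      have h5 : x - x ^ p ^ m = 0 := (Finset.mem_filter.1 hx).2
      rw [Polynomial.mem_roots (FiniteField.X_pow_card_sub_X_ne_zero F h3)]
      simp only [Polynomial.IsRoot.def, Polynomial.eval_sub, Polynomial.eval_pow, Polynomial.eval_X]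
      linear_combination -h5
    rw [e, show a / 2 = m by omega]
    have h5 := Nat.mul_le_mul_right (Nat.card δ.range) h4
    rw [h2, hF, hm, pow_add] at h5
    exact Nat.le_of_mul_le_mul_left h5 (by omega)

end Cfsg.Agent.H3.Gol
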