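import Cfsg.Agent.H3.Gol1
import Cfsg.Agent.H4.Ito
import Cfsg.Agent.H28.Irr
import Cfsg.Agent.H28.Extra2

/-!
Minimal non-`p`-nilpotent groups: coordinates, the bound on the order, and the maximal ones (Gol'fand).
-/

set_option autoImplicit false
set_option linter.unusedSectionVars false

namespace Cfsg.Agent.H3.Gol

open Cfsg Subgroup Cfsg.Agent.FT
open scoped commutatorElement

universe u

variable {F : Type} [Field F] [Finite F] {p q r a t : ℕ} {ζ : F}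

/-- minimal non-`p`-nilpotent groups -/
def MN (p : ℕ) (X : Type*) [Group X] : Prop :=
  ¬ HasNormalPComplement p X ∧ ∀ K : Subgroup X, K ≠ ⊤ → HasNormalPComplement p K

/-- coordinates on a `p`-subgroup acted on by a `q`-element -/
structure St (p q r : ℕ) (ζ : F) {Γ : Type*} [Group Γ] (U : Subgroup Γ) (y : Γ) (π : Γ → F) : Prop where
  pU : PGrp p U
  ord : orderOf y = q ^ r
  nrm : y ∈ N(U)
  cen : y ^ q ∈ C(U)
  add : ∀ u ∈ U, ∀ v ∈ U, π (u * v) = π u + π v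
  surj : ∀ c, ∃ u ∈ U, π u = c
  conj : ∀ u ∈ U, π (y * u * y⁻¹) = ζ * π u
  ker : ∀ u ∈ U, π u = 0 → u ∈ C(U) ∧ u ∈ C[y]

section

variable {Γ : Type*} [Group Γ] [Finite Γ] {U : Subgroup Γ} {y : Γ} {π : Γ → F}

theorem St.one (h : St p q r ζ U y π) : π 1 = 0 := by
  have := h.add 1 U.one_mem 1 U.one_mem
  rw [mul_one] at this
  exact left_eq_add.1 this

theorem St.inv (h : St p q r ζ U y π) {u : Γ} (hu : u ∈ U) : π u⁻¹ = -π u := by
  rw [eq_neg_iff_add_eq_zero, ← h.add _ (U.inv_mem hu) _ hu, inv_mul_cancel, h.one]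

theorem St.conjU (h : St p q r ζ U y π) {u v : Γ} (hu : u ∈ U) (hv : v ∈ U) : π (u * v * u⁻¹) = π v := by
  rw [h.add _ (U.mul_mem hu hv) _ (U.inv_mem hu), h.add _ hu _ hv, h.inv hu]
  ring

theorem St.conj_pow (h : St p q r ζ U y π) (i : ℕ) {v : Γ} (hv : v ∈ U) :
    π (y ^ i * v * (y ^ i)⁻¹) = ζ ^ i * π v := by
  induction i with
  | zero => simp
  | succ i ih =>
    rw [pow_succ' ζ, mul_assoc ζ, ← ih, ← h.conj _ (conj_mem (pow_mem h.nrm i) hv)]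
    congr 1
    group

theorem St.py (h : St p q r ζ U y π) (hq : q.Prime) : PGrp q ⟪y⟫ :=
  pGrp_of_card hq ((card_zpowers' y).trans h.ord)

theorem St.sd (h : St p q r ζ U y π) (hq : q.Prime) (hpq : p ≠ q) : SD U ⟪y⟫ (U ⊔ ⟪y⟫) :=
  ⟨zpowers_le.2 h.nrm, rfl, (h.pU.cop_of_ne (h.py hq) hpq).inf⟩

theorem St.decomp (h : St p q r ζ U y π) {z : Γ} (hz : z ∈ U ⊔ ⟪y⟫) : ∃ u ∈ U, ∃ i : ℕ, z = u * y ^ i := by
  obtain ⟨u, hu, w, hw, e⟩ := (mulEq_sup (zpowers_le.2 h.nrm)).mul z hz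
  obtain ⟨i, rfl⟩ := mem_powers_iff_mem_zpowers.2 hw
  exact ⟨u, hu, i, e⟩

theorem St.bound (h : St p q r ζ U y π) (hp : p.Prime) (hq : q.Prime) (hF : Nat.card F = p ^ a)
    (ha : a = orderOf (p : ZMod q)) (ho : orderOf ζ = q) (hd : ∀ u ∈ U, π u = 0 → u ∈ ⁅U, U⁆)
    (ht : #U = p ^ t) : t ≤ if a % 2 = 1 then a else 3 * a / 2 := by
  choose s hs hs' using h.surj
  have cm : ∀ u ∈ U, ∀ v ∈ U, ⁅u, v⁆ ∈ U := fun u hu v hv => der_le U (commutator_mem_commutator hu hv)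
  have cc : ∀ u ∈ U, ∀ v ∈ U, ⁅u, v⁆ ∈ C(U) ∧ ⁅u, v⁆ ∈ C[y] := fun u hu v hv => h.ker _ (cm u hu v hv) (by
    rw [commutatorElement_def, h.add _ (conj_mem (le_nrm U hu) hv) _ (U.inv_mem hv), h.conjU hu hv,
      h.inv hv, add_neg_cancel])
  have c1 : ∀ u ∈ U, ∀ u' ∈ U, ∀ v ∈ U, π u = π u' → ⁅u, v⁆ = ⁅u', v⁆ := fun u hu u' hu' v hv e => by
    have h1 := mem_cen.1 (h.ker _ (U.mul_mem (U.inv_mem hu) hu') (by
      rw [h.add _ (U.inv_mem hu) _ hu', h.inv hu, e, neg_add_cancel])).1 v hv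
    calc ⁅u, v⁆ = u * (v * (u⁻¹ * u')) * u'⁻¹ * v⁻¹ := by group
      _ = ⁅u', v⁆ := by rw [h1]; group
  have c2 : ∀ u ∈ U, ∀ u' ∈ U, ∀ v ∈ U, ∀ v' ∈ U, π u = π u' → π v = π v' → ⁅u, v⁆ = ⁅u', v'⁆ :=
    fun u hu u' hu' v hv v' hv' e e' => by
      rw [c1 u hu u' hu' v hv e, ← commutatorElement_inv, c1 v hv v' hv' u' hu' e',
        commutatorElement_inv]
  obtain ⟨K, _, h1, h2⟩ := form hp hq hF ha ho (fun c d => ⁅s c, s d⁆) (fun c c' d => by
      rw [c1 _ (hs _) _ (U.mul_mem (hs c) (hs c')) _ (hs d) (by rw [h.add _ (hs c) _ (hs c'), hs', hs', hs']),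
        mem_cen.1 (cc _ (hs c') _ (hs d)).1 _ (cm _ (hs c) _ (hs d)),
        show ⁅s c * s c', s d⁆ = s c * ⁅s c', s d⁆ * (s c)⁻¹ * ⁅s c, s d⁆ by group,
        mem_cen.1 (cc _ (hs c') _ (hs d)).1 _ (hs c), mul_inv_cancel_right])
    (fun c d d' => by
      rw [c2 _ (hs c) _ (hs c) _ (hs _) _ (U.mul_mem (hs d) (hs d')) rfl
        (by rw [h.add _ (hs d) _ (hs d'), hs', hs', hs']),
        show ⁅s c, s d * s d'⁆ = ⁅s c, s d⁆ * (s d * ⁅s c, s d'⁆ * (s d)⁻¹) by group,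
        mem_cen.1 (cc _ (hs c) _ (hs d')).1 _ (hs d), mul_inv_cancel_right])
    (fun c => commutatorElement_self _) (fun c d => by
      rw [c2 _ (hs _) _ (conj_mem h.nrm (hs c)) _ (hs _) _ (conj_mem h.nrm (hs d))
        (by rw [h.conj _ (hs c), hs', hs']) (by rw [h.conj _ (hs d), hs', hs']),
        show ⁅y * s c * y⁻¹, y * s d * y⁻¹⁆ = y * ⁅s c, s d⁆ * y⁻¹ by group,
        ← mem_cen1.1 (cc _ (hs c) _ (hs d)).2, mul_inv_cancel_right])
  have h3 : ⁅U, U⁆ ≤ K := commutator_le.2 fun u hu v hv => by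
    rw [c2 u hu _ (hs _) v hv _ (hs _) (hs' _).symm (hs' _).symm]
    exact h1 _ _
  let f : U →* Multiplicative F := MonoidHom.mk' (fun u => Multiplicative.ofAdd (π u)) fun u v =>
    congrArg Multiplicative.ofAdd (h.add _ u.2 _ v.2)
  have h4 : Nat.card f.ker * p ^ a = p ^ t := by
    rw [← ht, ← f.ker.card_mul_index, index_ker, MonoidHom.range_eq_top.2 fun c =>
      ⟨⟨s c.toAdd, hs _⟩, congrArg Multiplicative.ofAdd (hs' _)⟩, card_top, ← hF]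
    rfl
  have h5 : Nat.card f.ker ≤ Nat.card K :=
    Nat.card_le_card_of_injective (fun x : f.ker => (⟨x.1.1, h3 (hd _ x.1.2 x.2)⟩ : K))
      fun x x' e => Subtype.ext (Subtype.ext (congrArg (fun w : K => w.1) e))
  have h6 := Nat.mul_le_mul_right (p ^ a) h5
  rw [h4] at h6
  rcases h2 with h2 | ⟨h2, h7⟩
  · rw [h2, one_mul, Nat.pow_le_pow_iff_right hp.one_lt] at h6
    split_ifs <;> omega
  · have h8 := h6.trans (Nat.mul_le_mul_right _ h7)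
    rw [← pow_add, Nat.pow_le_pow_iff_right hp.one_lt] at h8
    split_ifs <;> omega

theorem St.exists_min (h : St p q r ζ U y π) (hp : p.Prime) (hq : q.Prime) (hpq : p ≠ q)
    (hF : Nat.card F = p ^ a) (ha : a = orderOf (p : ZMod q)) (ho : orderOf ζ = q) :
    ∃ (D P : Subgroup Γ) (z : Γ) (t : ℕ), MN p D ∧ #D = p ^ t * q ^ r ∧ #P = p ^ t ∧ D ≤ U ⊔ ⟪y⟫ ∧
      P ≤ D ∧ P ≤ U ∧ z ∈ D ∧ z ∈ N(P) ∧ z ∈ N(U) ∧ (orderOf z).Coprime p ∧ (∀ c, ∃ v ∈ P, π v = c) ∧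
      ∃ ξ, ξ ≠ 1 ∧ ∀ v ∈ U, π (z * v * z⁻¹) = ξ * π v := by
  haveI := Fact.mk hp
  have hW : ¬ HasNormalPComplement p ↥(U ⊔ ⟪y⟫) := fun hW => by
    have h1 := H4.mem_centralizer_of_hasNPC_of_mem h.pU.isPGroup hW le_sup_left
      (mem_sup_right (mem_zpowers y)) h.nrm
      (h.ord ▸ ((Nat.coprime_primes hq hp).2 hpq.symm).pow_left r)
    obtain ⟨u, hu, e⟩ := h.surj 1
    have h2 := h.conj u hu
    rw [← mem_cen.1 h1 u hu, mul_inv_cancel_right, e, mul_one] at h2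
    rw [← h2, orderOf_one] at ho
    exact hq.one_lt.ne ho
  obtain ⟨D, ⟨hD, hD'⟩, hmin⟩ := exists_min_fun
    (fun D : Subgroup Γ => D ≤ U ⊔ ⟪y⟫ ∧ ¬ HasNormalPComplement p D) (fun D => #D) ⟨le_rfl, hW⟩
  have hMN : MN p D := ⟨hD', fun K hK => by
    by_contra h1
    have h2 := hmin (K.map D.subtype) ⟨(map_subtype_le K).trans hD,
      fun h3 => h1 ((H4.hasNPC_map_subtype_iff K).1 h3)⟩
    simp only [card_map_inj D.subtype_injective] at h2
    exact hK (eq_top_of_le_card K h2)⟩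
  obtain ⟨T⟩ : Nonempty (Sylow p D) := inferInstance
  obtain ⟨hTn, q', hq', hqp, g, ⟨k, hk⟩, htop, hg⟩ := H4.ito_structure hMN.1 hMN.2 T
  have pP : PGrp p ((T : Subgroup D).map D.subtype) := (syl_top hp T).pi.map _
  have zN : (g : Γ) ∈ N((T : Subgroup D).map D.subtype) := mem_nrm.2 (by
    rintro _ ⟨x, hx, rfl⟩
    exact ⟨g * x * g⁻¹, hTn.conj_mem x hx g, rfl⟩)
  have hsup := congrArg (map D.subtype) htop
  rw [Subgroup.map_sup, MonoidHom.map_zpowers, ← MonoidHom.range_eq_map, range_subtype] at hsup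
  have hz : (g : Γ) ∉ C((T : Subgroup D).map D.subtype) := fun h1 =>
    hg fun x hx => Subtype.ext (mem_cen.1 h1 x ⟨x, hx, rfl⟩)
  have hPD := map_subtype_le (T : Subgroup D)
  have oz : orderOf (g : Γ) = q' ^ k := (orderOf_coe g).trans hk
  have hzD := g.2
  simp only [coe_subtype] at hsup
  generalize (T : Subgroup D).map D.subtype = P at *
  generalize (g : Γ) = z at *
  have pz : PGrp q' ⟪z⟫ := pGrp_of_card hq' ((card_zpowers' z).trans oz)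
  have cz : (orderOf z).Coprime p := oz ▸ ((Nat.coprime_primes hq' hp).2 hqp).pow_left k
  have sdW := h.sd hq hpq
  have PU : P ≤ U := (sdW.hall_left h.pU ((h.py hq).p' hpq.symm)).le_of_nml sdW.nml.nrm pP (hPD.trans hD)
  have zU : z ∈ N(U) := sdW.nml.nrm (hD hzD)
  obtain ⟨u, hu, i, e⟩ := h.decomp (hD hzD)
  have hc : ∀ v ∈ U, π (z * v * z⁻¹) = ζ ^ i * π v := fun v hv => by
    rw [← h.conj_pow i hv, ← h.conjU hu (conj_mem (pow_mem h.nrm i) hv), e]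
    congr 1
    group
  have hi : q.Coprime i := hq.coprime_iff_not_dvd.2 fun ⟨j, hj⟩ => by
    have h1 : y ^ i ∈ C(U) := by
      rw [hj, pow_mul]
      exact pow_mem h.cen j
    obtain ⟨s, hs⟩ := h.pU.isPGroup ⟨u, hu⟩
    have h2 : u ^ p ^ s = 1 := congrArg Subtype.val hs
    have h3 : z ^ p ^ s ∈ C(U) := by
      rw [e, (show Commute u (y ^ i) from mem_cen.1 h1 u hu).mul_pow, h2, one_mul]
      exact pow_mem h1 _
    exact hz (cen_anti PU (zpowers_le.2 h3 (mem_zpowers_pow_iff.2 (cz.symm.pow_left s))))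
  have oξ : orderOf (ζ ^ i) = q := by rw [Nat.Coprime.orderOf_pow (ho ▸ hi), ho]
  have sdz : SD U ⟪z⟫ (U ⊔ ⟪y⟫) := by
    refine ⟨zpowers_le.2 zU, le_antisymm (sup_le le_sup_left (zpowers_le.2 (hD hzD)))
      (sup_le le_sup_left (zpowers_le.2 ?_)), (h.pU.cop_of_ne pz hqp.symm).inf⟩
    have h1 : y ^ i ∈ U ⊔ ⟪z⟫ := by
      rw [← inv_mul_eq_iff_eq_mul.2 e]
      exact mul_mem_sup (U.inv_mem hu) (mem_zpowers z)
    exact zpowers_le.2 h1 (mem_zpowers_pow_iff.2 (h.ord ▸ hi.symm.pow_right r))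
  have h1 : orderOf z = q ^ r := by
    have h2 := sdz.card.symm.trans sdW.card
    rw [card_zpowers', card_zpowers', h.ord] at h2
    exact Nat.eq_of_mul_eq_mul_left Nat.card_pos h2
  obtain ⟨t, ht⟩ := pP.card
  have sdD : SD P ⟪z⟫ D := ⟨zpowers_le.2 zN, hsup, (pP.cop_of_ne pz hqp.symm).inf⟩
  let W : AddSubgroup F :=
    { carrier := {c | ∃ v ∈ P, π v = c}
      add_mem' := by
        rintro _ _ ⟨v, hv, rfl⟩ ⟨w, hw, rfl⟩
        exact ⟨_, P.mul_mem hv hw, h.add _ (PU hv) _ (PU hw)⟩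
      zero_mem' := ⟨1, P.one_mem, h.one⟩
      neg_mem' := by
        rintro _ ⟨v, hv, rfl⟩
        exact ⟨_, P.inv_mem hv, h.inv (PU hv)⟩ }
  obtain ⟨v, hv, hv0⟩ : ∃ v ∈ P, π v ≠ 0 := by
    by_contra h2
    push Not at h2
    refine hz (mem_cen.2 fun v hv => ?_)
    obtain ⟨h3, h4⟩ := h.ker v (PU hv) (h2 v hv)
    rw [e]
    exact ((show Commute v u from (mem_cen.1 h3 u hu).symm).mul_right
      ((show Commute v y from mem_cen1.1 h4).pow_right i)).eq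
  refine ⟨D, P, z, t, hMN, by rw [sdD.card, ht, card_zpowers', h1], ht, hD, hPD, PU, hzD, zN, zU, cz,
    irr hp hq hF ha oξ W ?_ ⟨v, hv, rfl⟩ hv0, ζ ^ i, fun h2 => ?_, hc⟩
  · rintro _ ⟨w, hw, rfl⟩
    exact ⟨_, conj_mem zN hw, hc w (PU hw)⟩
  · rw [h2, orderOf_one] at oξ
    exact hq.one_lt.ne oξ

theorem MN.map_top {X : Type*} [Group X] [Finite X] (hp : p.Prime) (hX : MN p X) (f : Γ →* X)
    {D P : Subgroup Γ} {z v : Γ} (pP : PGrp p P) (h1 : P ≤ D) (h2 : z ∈ D) (h3 : z ∈ N(P))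
    (h4 : (orderOf z).Coprime p) (hv : v ∈ P) (h5 : f (z * v * z⁻¹) ≠ f v) : D.map f = ⊤ := by
  haveI := Fact.mk hp
  by_contra h6
  have h7 := H4.mem_centralizer_of_hasNPC_of_mem (pP.map f).isPGroup (hX.2 _ h6) (map_mono h1)
    (mem_map_of_mem f h2) (mem_nrm.2 (by
      rintro _ ⟨x, hx, rfl⟩
      exact ⟨_, conj_mem h3 hx, by simp only [map_mul, map_inv]⟩))
    (h4.coprime_dvd_left (orderOf_map_dvd f z))
  apply h5
  rw [map_mul, map_mul, map_inv, ← mem_cen.1 h7 _ (mem_map_of_mem f hv), mul_inv_cancel_right]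

end

theorem pow_eq (hp : p.Prime) (hq : q.Prime) (hpq : p ≠ q) {s k : ℕ} (h : p ^ t * q ^ r = p ^ s * q ^ k) :
    t = s ∧ r = k := by
  have key : ∀ {t s r k : ℕ}, p ^ t * q ^ r = p ^ s * q ^ k → t ≤ s := fun {t s r k} h =>
    (Nat.pow_dvd_pow_iff_le_right hp.one_lt).1
      ((((Nat.coprime_primes hp hq).2 hpq).pow t k).dvd_of_dvd_mul_right (Dvd.intro _ h))
  have h1 : t = s := le_antisymm (key h) (key h.symm)
  subst h1
  exact ⟨rfl, Nat.pow_right_injective hq.two_le (Nat.eq_of_mul_eq_mul_left (pow_pos hp.pos t) h)⟩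

theorem MN.str {X : Type*} [Group X] [Finite X] (hX : MN p X) (hp : p.Prime) (hq : q.Prime) (hpq : p ≠ q)
    (hF : Nat.card F = p ^ a) (ha : a = orderOf (p : ZMod q)) (ho : orderOf ζ = q)
    (hc : Nat.card X = p ^ t * q ^ r) : ∃ (U : Subgroup X) (y : X) (π : X → F), St p q r ζ U y π ∧
      U ⊔ ⟪y⟫ = ⊤ ∧ #U = p ^ t ∧ ∀ u ∈ U, π u = 0 → u ∈ ⁅U, U⁆ := by
  haveI := Fact.mk hp
  haveI := Fact.mk hq
  obtain ⟨T⟩ : Nonempty (Sylow p X) := inferInstance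
  obtain ⟨hUn, q', hq', hqp, g, ⟨k, hk⟩, htop, hg⟩ := H4.ito_structure hX.1 hX.2 T
  have pU : PGrp p (T : Subgroup X) := (syl_top hp T).pi
  generalize (T : Subgroup X) = U at *
  have nU : ∀ x, x ∈ N(U) := fun x => (nml_top_iff.2 hUn).nrm (mem_top x)
  have n1 : ⟪g⟫ ≤ N(U) := fun x _ => nU x
  have pg : PGrp q' ⟪g⟫ := pGrp_of_card hq' ((card_zpowers' g).trans hk)
  have cop := pU.cop_of_ne pg hqp.symm
  have sd : SD U ⟪g⟫ ⊤ := ⟨n1, htop, cop.inf⟩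
  obtain ⟨s, hs⟩ := pU.card
  have h1 := sd.card
  rw [card_top', hc, hs, card_zpowers', hk] at h1
  have hk0 : k ≠ 0 := by
    rintro rfl
    rw [pow_zero, orderOf_eq_one_iff] at hk
    exact hg (hk ▸ one_mem _)
  obtain rfl : q = q' := by
    rcases hq'.dvd_mul.1 (h1 ▸ (dvd_pow_self q' hk0).mul_left _ : q' ∣ p ^ t * q ^ r) with h | h
    · exact absurd ((Nat.prime_dvd_prime_iff_eq hq' hp).1 (hq'.dvd_of_dvd_pow h)) hqp
    · exact ((Nat.prime_dvd_prime_iff_eq hq' hq).1 (hq'.dvd_of_dvd_pow h)).symm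
  obtain ⟨rfl, rfl⟩ := pow_eq hp hq hpq h1
  have cg : (orderOf g).Coprime p := hk ▸ ((Nat.coprime_primes hq hp).2 hqp).pow_left r
  have hmin : ∀ Y < U, g ∈ N(Y) → Y ≤ C[g] := fun Y h2 h3 => by
    have pY := pU.mono h2.le
    have h4 : Y ⊔ ⟪g⟫ ≠ ⊤ := fun e => by
      have h5 := (SD.card ⟨zpowers_le.2 h3, e, (pY.cop_of_ne pg hpq).inf⟩).symm.trans sd.card
      exact (card_lt h2).ne (Nat.eq_of_mul_eq_mul_right Nat.card_pos h5)
    have h5 := H4.mem_centralizer_of_hasNPC_of_mem pY.isPGroup (hX.2 _ h4) le_sup_left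
      (mem_sup_right (mem_zpowers g)) h3 cg
    exact fun x hx => mem_cen1.2 (mem_cen.1 h5 x hx)
  have hgq : g ^ q ∈ C(U) := by
    have h3 : ⟪g ^ q⟫ ≤ ⟪g⟫ := zpowers_le.2 (pow_mem (mem_zpowers g) q)
    have h4 : U ⊔ ⟪g ^ q⟫ ≠ ⊤ := fun e => by
      have h5 := (SD.card ⟨h3.trans n1, e, (pU.cop_of_ne (pg.mono h3) hpq).inf⟩).symm.trans sd.card
      have h6 := Nat.eq_of_mul_eq_mul_left Nat.card_pos h5
      rw [card_zpowers', card_zpowers', orderOf_pow_of_dvd hq.ne_zero (hk ▸ dvd_pow_self q hk0)] at h6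
      exact (Nat.div_lt_self (orderOf_pos g) hq.one_lt).ne h6
    exact H4.mem_centralizer_of_hasNPC_of_mem pU.isPGroup (hX.2 _ h4) le_sup_left
      (mem_sup_right (mem_zpowers _)) (nU _) (cg.coprime_dvd_left (orderOf_pow_dvd q))
  obtain ⟨b1, -, b3, -⟩ := H28.minimal_action n1 (le_nrm _) le_rfl cop.symm pU.sol (mt zpowers_le.1 hg)
    fun Y h2 h3 => cen_zpowers g ▸ hmin Y h2 (zpowers_le.1 h3)
  have hz : ∀ x, x ∈ C(U) → x ∈ C[g] → x ∈ center X := fun x h2 h3 => mem_center_iff.2 fun w =>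
    mem_cen1.1 ((sup_le (fun u hu => mem_cen1.2 (mem_cen.1 h2 u hu)) (zpowers_le.2 (cen1_comm.1 h3)) :
      U ⊔ ⟪g⟫ ≤ C[x]) (htop.ge (mem_top w)))
  have hY : ∀ Y < U, g ∈ N(Y) → Y ≤ center X := fun Y h2 h3 x hx =>
    hz x (b3 ⟨h2.le hx, cen_zpowers g ▸ hmin Y h2 h3 hx⟩) (hmin Y h2 h3 hx)
  have hU : ¬ U ≤ center X := fun h2 => hg (mem_cen.2 fun x hx => (mem_center_iff.1 (h2 hx) g).symm)
  have hΦ := hY _ (Phi_lt fun e => hU (e ▸ bot_le)) (norms_Phi n1 (mem_zpowers g))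
  have hgq' : g ^ q ∈ center X := hz _ hgq (mem_cen1.2 ((Commute.refl g).pow_left q))
  let f := QuotientGroup.mk' (center X)
  have hf : ∀ x, f x = 1 ↔ x ∈ center X := fun x => QuotientGroup.eq_one_iff x
  have hA : Abelem p (U.map f) := ⟨ab_iff_der.2 (by
      rw [← map_commutator, Subgroup.map_eq_bot_iff, QuotientGroup.ker_mk']
      exact pU.der_le_Phi.trans hΦ), by
    rintro _ ⟨x, hx, rfl⟩
    rw [← map_pow, hf]
    exact hΦ (pU.pow_mem_Phi hx)⟩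
  have og : orderOf (f g) = q := orderOf_eq_prime (by rw [← map_pow, hf]; exact hgq')
    fun h2 => hg (mem_cen.2 fun x _ => mem_center_iff.1 ((hf g).1 h2) x)
  have hM : MinNml (U.map f) ⟪f g⟫ := by
    refine ⟨fun e => hU (by rwa [Subgroup.map_eq_bot_iff, QuotientGroup.ker_mk'] at e), zpowers_le.2 (mem_nrm.2 ?_),
      fun K h2 h3 h4 => le_antisymm h2 (map_le_iff_le_comap.2 (inf_eq_left.1 ?_))⟩
    · rintro _ ⟨x, hx, rfl⟩
      exact ⟨_, conj_mem (nU g) hx, by simp only [map_mul, map_inv]⟩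
    · by_contra h5
      have h6 := hY _ (lt_of_le_of_ne inf_le_left h5) (mem_nrm.2 fun x hx => ⟨conj_mem (nU g) hx.1, by
        show f (g * x * g⁻¹) ∈ K
        rw [map_mul, map_mul, map_inv]
        exact conj_mem (h4 (mem_zpowers _)) hx.2⟩)
      refine h3 (eq_bot_iff.2 fun w hw => ?_)
      obtain ⟨x, hx, rfl⟩ := h2 hw
      exact (hf x).2 (h6 ⟨hx, hw⟩)
  have hC : ¬ ⟪f g⟫ ≤ C(U.map f) := fun h2 => hU (by
    rw [← b1, ← QuotientGroup.ker_mk' (center X), ← Subgroup.map_eq_bot_iff, map_commutator, MonoidHom.map_zpowers,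
      commutator_comm, commutator_eq_bot_iff_le_centralizer]
    exact h2)
  have hcard := H28.card_of_irred hq hp hA ((card_zpowers' _).trans og) hM hC
  obtain ⟨K, _, _, e, χ, e1, e2, e3, e4, e5⟩ := H28.exists_field_coord hA.ab (ab_zpowers _) hM
  haveI := Fintype.ofFinite F
  have hK : Fintype.card K = Fintype.card F := by
    rw [← Nat.card_eq_fintype_card, ← Nat.card_eq_fintype_card, hF, ha, ← hcard]
    exact Nat.card_eq_of_bijective (fun a => (⟨e a, e2 a⟩ : U.map f))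
      ⟨fun a b h => e1 (congrArg Subtype.val h), fun a => (e3 a a.2).imp fun b hb => Subtype.ext hb⟩
  let φ := FiniteField.ringEquivOfCardEq hK
  have e0 : e 0 = 1 := by simpa using e4 0 0
  have e6 : ∀ u ∈ U, e (Function.invFun e (f u)) = f u := fun u hu =>
    Function.invFun_eq (e3 _ (mem_map_of_mem f hu))
  have e7 : ∀ (i : ℕ) c, f g ^ i * e c * (f g ^ i)⁻¹ = e (χ (f g) ^ i * c) := fun i c => by
    induction i with
    | zero => simp
    | succ i ih => rw [pow_succ' (f g), pow_succ', mul_assoc (χ (f g)), ← e5 _ (mem_zpowers _), ← ih]; group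
  have oχ : orderOf (φ (χ (f g))) = q := by
    refine orderOf_eq_prime ?_ fun h2 => hC (zpowers_le.2 (mem_cen.2 fun x hx => ?_))
    · rw [← map_pow, ← map_one φ]
      congr 1
      apply e1
      rw [← mul_one (χ (f g) ^ q), ← e7, ← og, pow_orderOf_eq_one]
      simp
    · obtain ⟨c, rfl⟩ := e3 x hx
      rw [mul_inv_eq_iff_eq_mul.1 (e5 _ (mem_zpowers _) c), (map_eq_one_iff φ φ.injective).1 h2, one_mul]
  haveI : NeZero q := ⟨hq.ne_zero⟩
  obtain ⟨i, hi, hi'⟩ := (oχ ▸ IsPrimitiveRoot.orderOf (φ (χ (f g)))).eq_pow_of_pow_eq_one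
    (ho ▸ pow_orderOf_eq_one ζ)
  have hiq : q.Coprime i := hq.coprime_iff_not_dvd.2 fun h2 => by
    rw [Nat.eq_zero_of_dvd_of_lt h2 hi, pow_zero] at hi'
    rw [← hi', orderOf_one] at ho
    exact hq.one_lt.ne ho
  have hgi : ⟪g ^ i⟫ = ⟪g⟫ := le_antisymm (zpowers_le.2 (pow_mem (mem_zpowers g) i))
    (zpowers_le.2 (mem_zpowers_pow_iff.2 (hk ▸ hiq.symm.pow_right r)))
  have hker : ∀ u ∈ U, φ (Function.invFun e (f u)) = 0 → u ∈ center X := fun u hu h2 => by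
    rw [← hf, ← e6 u hu, (map_eq_zero_iff φ φ.injective).1 h2, e0]
  refine ⟨U, g ^ i, fun u => φ (Function.invFun e (f u)), ⟨pU, ?_, nU _, ?_, fun u hu v hv => ?_,
    fun c => ?_, fun u hu => ?_, fun u hu h2 => ?_⟩, hgi ▸ htop, hs, fun u hu h2 => ?_⟩
  · rw [← card_zpowers', hgi, card_zpowers', hk]
  · rw [← pow_mul, mul_comm, pow_mul]
    exact pow_mem hgq i
  · rw [← map_add]
    congr 1
    apply e1
    rw [e4, e6 u hu, e6 v hv, e6 _ (U.mul_mem hu hv), map_mul]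
  · obtain ⟨u, hu, h2⟩ := e2 (φ.symm c)
    refine ⟨u, hu, ?_⟩
    rw [h2, Function.leftInverse_invFun e1, φ.apply_symm_apply]
  · rw [← hi', ← map_pow, ← map_mul]
    congr 1
    apply e1
    rw [← e7, e6 u hu, e6 _ (conj_mem (nU _) hu), map_mul, map_mul, map_inv, map_pow]
  · exact ⟨mem_cen.2 fun x _ => mem_center_iff.1 (hker u hu h2) x,
      mem_cen1.2 (mem_center_iff.1 (hker u hu h2) _).symm⟩
  · exact coprime_cent_comm_le_der n1 cop ⟨b1.ge hu, mem_cen.2 fun x _ => mem_center_iff.1 (hker u hu h2) x⟩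

theorem MN.bound {X : Type*} [Group X] [Finite X] (hX : MN p X) (hp : p.Prime) (hq : q.Prime)
    (hpq : p ≠ q) (hF : Nat.card F = p ^ a) (ha : a = orderOf (p : ZMod q)) (ho : orderOf ζ = q)
    (hc : Nat.card X = p ^ t * q ^ r) : t ≤ if a % 2 = 1 then a else 3 * a / 2 :=
  let ⟨_, _, _, h1, _, h2, h3⟩ := hX.str hp hq hpq hF ha ho hc
  h1.bound hp hq hF ha ho h3 h2

theorem MN.cover {Y X : Type*} [Group Y] [Finite Y] [Group X] [Finite X] (hY : MN p Y) (hX : MN p X)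
    (hp : p.Prime) (hq : q.Prime) (hpq : p ≠ q) (hF : Nat.card F = p ^ a)
    (ha : a = orderOf (p : ZMod q)) (ho : orderOf ζ = q)
    (hc0 : Nat.card Y = p ^ (if a % 2 = 1 then a else 3 * a / 2) * q ^ r)
    (hc : Nat.card X = p ^ t * q ^ r) : ∃ φ : Y →* X, Function.Surjective φ ∧ φ.ker ≤ center Y := by
  obtain ⟨U0, y0, π0, h0, g0, -, -⟩ := hY.str hp hq hpq hF ha ho hc0
  obtain ⟨U1, y1, π1, h1, -, -, -⟩ := hX.str hp hq hpq hF ha ho hc
  let U : Subgroup (Y × X) :=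
    { carrier := {x | x.1 ∈ U0 ∧ x.2 ∈ U1 ∧ π0 x.1 = π1 x.2}
      mul_mem' := fun {x x'} hx hx' => ⟨U0.mul_mem hx.1 hx'.1, U1.mul_mem hx.2.1 hx'.2.1, by
        rw [Prod.fst_mul, Prod.snd_mul, h0.add _ hx.1 _ hx'.1, h1.add _ hx.2.1 _ hx'.2.1, hx.2.2, hx'.2.2]⟩
      one_mem' := ⟨U0.one_mem, U1.one_mem, h0.one.trans h1.one.symm⟩
      inv_mem' := fun {x} hx => ⟨U0.inv_mem hx.1, U1.inv_mem hx.2.1, by
        rw [Prod.fst_inv, Prod.snd_inv, h0.inv hx.1, h1.inv hx.2.1, hx.2.2]⟩ }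
  have h : St p q r ζ U (y0, y1) fun x => π0 x.1 := by
    refine ⟨pGrp_of_isPGroup hp fun x => ?_, ?_, mem_nrm.2 fun x hx => ⟨conj_mem h0.nrm hx.1,
      conj_mem h1.nrm hx.2.1, (h0.conj _ hx.1).trans ((congrArg _ hx.2.2).trans (h1.conj _ hx.2.1).symm)⟩,
      mem_cen.2 fun x hx => Prod.ext (mem_cen.1 h0.cen _ hx.1) (mem_cen.1 h1.cen _ hx.2.1),
      fun u hu v hv => h0.add _ hu.1 _ hv.1, fun c => ?_, fun u hu => h0.conj _ hu.1, fun u hu e => ?_⟩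
    · obtain ⟨k, hk⟩ := h0.pU.isPGroup ⟨x.1.1, x.2.1⟩
      obtain ⟨l, hl⟩ := h1.pU.isPGroup ⟨x.1.2, x.2.2.1⟩
      have hk' : x.1.1 ^ p ^ k = 1 := congrArg Subtype.val hk
      have hl' : x.1.2 ^ p ^ l = 1 := congrArg Subtype.val hl
      refine ⟨k + l, Subtype.ext (Prod.ext ?_ ?_)⟩
      · show x.1.1 ^ p ^ (k + l) = 1
        rw [pow_add, pow_mul, hk', one_pow]
      · show x.1.2 ^ p ^ (k + l) = 1
        rw [pow_add, mul_comm, pow_mul, hl', one_pow]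
    · rw [Prod.orderOf_mk, h0.ord, h1.ord, Nat.lcm_self]
    · obtain ⟨u, hu, e⟩ := h0.surj c
      obtain ⟨v, hv, e'⟩ := h1.surj c
      exact ⟨(u, v), ⟨hu, hv, e.trans e'.symm⟩, e⟩
    · obtain ⟨a1, a2⟩ := h0.ker _ hu.1 e
      obtain ⟨a3, a4⟩ := h1.ker _ hu.2.1 (hu.2.2.symm.trans e)
      exact ⟨mem_cen.2 fun x hx => Prod.ext (mem_cen.1 a1 _ hx.1) (mem_cen.1 a3 _ hx.2.1),
        mem_cen1.2 (Prod.ext (mem_cen1.1 a2) (mem_cen1.1 a4))⟩
  obtain ⟨D, P, z, s, d1, d2, d3, d4, d5, d6, d7, d8, d9, d10, d11, ξ, d12, d13⟩ :=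
    h.exists_min hp hq hpq hF ha ho
  obtain ⟨v, hv, hv1⟩ := d11 1
  have pP := h.pU.mono d6
  have e1 : π0 (z * v * z⁻¹).1 ≠ π0 v.1 := by
    rw [d13 v (d6 hv), hv1, mul_one]
    exact d12
  have s0 := hY.map_top hp (MonoidHom.fst Y X) pP d5 d7 d8 d10 hv fun e => e1 (congrArg π0 e)
  have s1 := hX.map_top hp (MonoidHom.snd Y X) pP d5 d7 d8 d10 hv fun e => e1
    ((conj_mem d9 (d6 hv)).2.2.trans ((congrArg π1 e).trans (d6 hv).2.2.symm))
  have f0 : Function.Surjective ((MonoidHom.fst Y X).comp D.subtype) := fun w =>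
    let ⟨x, hx, e⟩ := s0.ge (mem_top w)
    ⟨⟨x, hx⟩, e⟩
  have f1 : Function.Surjective ((MonoidHom.snd Y X).comp D.subtype) := fun w =>
    let ⟨x, hx, e⟩ := s1.ge (mem_top w)
    ⟨⟨x, hx⟩, e⟩
  have hb : Function.Bijective ((MonoidHom.fst Y X).comp D.subtype) :=
    (Nat.bijective_iff_surjective_and_card _).2 ⟨f0, le_antisymm (by
      rw [d2, hc0]
      exact Nat.mul_le_mul_right _ (Nat.pow_le_pow_right hp.pos (d1.bound hp hq hpq hF ha ho d2)))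
      (Nat.card_le_card_of_surjective _ f0)⟩
  let e := MulEquiv.ofBijective _ hb
  refine ⟨((MonoidHom.snd Y X).comp D.subtype).comp e.symm.toMonoidHom, f1.comp e.symm.surjective,
    fun w hw => ?_⟩
  obtain ⟨d, rfl⟩ := e.surjective w
  have a1 : (e.symm (e d)).1.2 = 1 := hw
  rw [e.symm_apply_apply] at a1
  obtain ⟨u, hu, i, a2⟩ := h.decomp (d4 d.2)
  have a3 : u.2 * y1 ^ i = 1 := (congrArg Prod.snd a2).symm.trans a1
  have a4 : y1 ^ i = 1 := mem_bot.1 ((h1.sd hq hpq).inf.le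
    ⟨eq_inv_of_mul_eq_one_right a3 ▸ U1.inv_mem hu.2.1, pow_mem (mem_zpowers y1) i⟩)
  have a5 : y0 ^ i = 1 := by
    rwa [← orderOf_dvd_iff_pow_eq_one, h0.ord, ← h1.ord, orderOf_dvd_iff_pow_eq_one]
  rw [a4, mul_one] at a3
  have a6 : e d = u.1 := by
    have a7 : d.1.1 = u.1 * y0 ^ i := congrArg Prod.fst a2
    rw [a5, mul_one] at a7
    exact a7
  obtain ⟨a7, a8⟩ := h0.ker _ hu.1 (by rw [hu.2.2, a3, h1.one])
  rw [a6]
  exact mem_center_iff.2 fun w =>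
    mem_cen1.1 ((sup_le (fun x hx => mem_cen1.2 (mem_cen.1 a7 x hx)) (zpowers_le.2 (cen1_comm.1 a8)) :
      U0 ⊔ ⟪y0⟫ ≤ C[u.1]) (g0.ge (mem_top w)))

/-- data for the example -/
structure Dat (F : Type) [Field F] (n : ℕ) where
  /-- the character -/
  χ : AddChar (ZMod n) F
  /-- the form -/
  b : F →+ F →+ F
  inv : ∀ k u v, b (χ k * u) (χ k * v) = b u v

/-- the example -/
@[ext] structure Tr {n : ℕ} (d : Dat F n) : Type u where
  /-- top component -/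
  x : F
  /-- central component -/
  s : F
  /-- cyclic component -/
  k : ZMod n

namespace Tr

variable {n : ℕ} {d : Dat F n}

instance : Mul (Tr.{u} d) :=
  ⟨fun g h => ⟨g.x + d.χ g.k * h.x, g.s + h.s + d.b g.x (d.χ g.k * h.x), g.k + h.k⟩⟩
instance : One (Tr.{u} d) := ⟨⟨0, 0, 0⟩⟩
instance : Inv (Tr.{u} d) := ⟨fun g => ⟨-(d.χ (-g.k) * g.x), -g.s + d.b g.x g.x, -g.k⟩⟩

theorem mul_x (g h : Tr.{u} d) : (g * h).x = g.x + d.χ g.k * h.x := rfl
theorem mul_s (g h : Tr.{u} d) : (g * h).s = g.s + h.s + d.b g.x (d.χ g.k * h.x) := rfl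
theorem mul_k (g h : Tr.{u} d) : (g * h).k = g.k + h.k := rfl

instance : Group (Tr.{u} d) := Group.ofLeftAxioms
  (fun g h l => Tr.ext (by
      simp only [mul_x, mul_k, AddChar.map_add_eq_mul]
      ring) (by
      simp only [mul_x, mul_s, mul_k, AddChar.map_add_eq_mul, mul_add, map_add, AddMonoidHom.add_apply,
        mul_assoc, d.inv]
      ring) (add_assoc _ _ _))
  (fun g => Tr.ext (by
      show 0 + d.χ 0 * g.x = g.x
      rw [AddChar.map_zero_eq_one, zero_add, one_mul]) (by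
      show 0 + g.s + d.b 0 _ = g.s
      rw [map_zero, AddMonoidHom.zero_apply, zero_add, add_zero]) (zero_add _))
  (fun g => Tr.ext (neg_add_cancel _) (by
      show -g.s + d.b g.x g.x + g.s + d.b (-(d.χ (-g.k) * g.x)) (d.χ (-g.k) * g.x) = 0
      rw [map_neg, AddMonoidHom.neg_apply, d.inv]
      ring) (neg_add_cancel _))

instance [NeZero n] : Finite (Tr.{u} d) :=
  Finite.of_injective (fun g : Tr.{u} d => (g.x, g.s, g.k)) fun _ _ h =>
    Tr.ext (congrArg (·.1) h) (congrArg (·.2.1) h) (congrArg (·.2.2) h)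

/-- the cyclic complement -/
def cy (d : Dat F n) : Multiplicative (ZMod n) →* Tr.{u} d :=
  MonoidHom.mk' (fun k => ⟨0, 0, k.toAdd⟩) fun k l => Tr.ext (by simp [mul_x]) (by simp [mul_s]) rfl

/-- the normal subgroup -/
def UU (d : Dat F n) : Subgroup (Tr.{u} d) :=
  (MonoidHom.mk' (fun g : Tr.{u} d => Multiplicative.ofAdd g.k) fun _ _ => rfl).ker

theorem mem_UU {g : Tr.{u} d} : g ∈ UU d ↔ g.k = 0 := Iff.rfl

theorem cy_mul (k : Multiplicative (ZMod n)) {g : Tr.{u} d} (hg : g.k = 0) :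
    cy d k * g * (cy d k)⁻¹ = ⟨d.χ k.toAdd * g.x, g.s, 0⟩ := by
  rw [mul_inv_eq_iff_eq_mul]
  exact Tr.ext (by simp [mul_x, cy]) (by simp [mul_s, cy]) (by simp [mul_k, cy, hg])

end Tr

theorem exists_max [hp : Fact p.Prime] [CharP F p] (hq : q.Prime) (hpq : p ≠ q) (hr : 1 ≤ r)
    (hF : Nat.card F = p ^ a) (ha : a = orderOf (p : ZMod q)) (ho : orderOf ζ = q) :
    ∃ (Y : Type u) (_ : Group Y) (_ : Finite Y), MN p Y ∧
      Nat.card Y = p ^ (if a % 2 = 1 then a else 3 * a / 2) * q ^ r := by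
  obtain ⟨b, b1, b2⟩ := exists_b hq hpq hF ha ho
  haveI : NeZero (q ^ r) := ⟨pow_ne_zero r hq.ne_zero⟩
  have z1 : ζ ^ q = 1 := ho ▸ pow_orderOf_eq_one ζ
  have z2 : ζ ^ q ^ r = 1 := by
    obtain ⟨c, hc⟩ := dvd_pow_self q (show r ≠ 0 by omega)
    rw [hc, pow_mul, z1, one_pow]
  have b3 : ∀ (i : ℕ) u v, b (ζ ^ i * u) (ζ ^ i * v) = b u v := fun i u v => by
    induction i with
    | zero => rw [pow_zero, one_mul, one_mul]
    | succ i ih => rw [pow_succ', mul_assoc, mul_assoc, b1, ih]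
  let d : Dat F (q ^ r) := ⟨AddChar.zmodChar _ z2, b, fun k => b3 _⟩
  have hχ : ∀ i : ℕ, d.χ i = ζ ^ i := AddChar.zmodChar_apply' z2
  have hχ0 : d.χ 0 = 1 := AddChar.map_zero_eq_one _
  have h : St p q r ζ (Tr.UU.{u} d) (Tr.cy d (Multiplicative.ofAdd 1)) Tr.x := by
    refine ⟨pGrp_of_card (n := a + a) hp.out ?_, ?_, (nml_top_iff.2 (MonoidHom.normal_ker _)).nrm (mem_top _),
      mem_cen.2 fun g hg => ?_, fun u hu v _ => ?_, fun c => ⟨⟨c, 0, 0⟩, rfl, rfl⟩, fun u hu => ?_,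
      fun u hu e => ⟨mem_cen.2 fun g hg => ?_, mem_cen1.2 ?_⟩⟩
    · rw [pow_add, ← hF, ← Nat.card_prod]
      exact Nat.card_congr ⟨fun g => (g.1.x, g.1.s), fun x => ⟨⟨x.1, x.2, 0⟩, rfl⟩,
        fun g => Subtype.ext (Tr.ext rfl rfl (Tr.mem_UU.1 g.2).symm), fun _ => rfl⟩
    · rw [orderOf_injective _ (fun k l e => Multiplicative.toAdd.injective (congrArg Tr.k e)),
        orderOf_ofAdd_eq_addOrderOf, ZMod.addOrderOf_one]
    · rw [← map_pow, eq_comm, ← mul_inv_eq_iff_eq_mul, Tr.cy_mul _ hg, toAdd_pow, toAdd_ofAdd,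
        nsmul_eq_mul, mul_one, hχ, z1, one_mul]
      exact Tr.ext rfl rfl (Tr.mem_UU.1 hg).symm
    · rw [Tr.mul_x, Tr.mem_UU.1 hu, hχ0, one_mul]
    · rw [Tr.cy_mul _ hu, toAdd_ofAdd, ← Nat.cast_one, hχ, pow_one]
    · exact Tr.ext (by simp [Tr.mul_x, e, Tr.mem_UU.1 hu]) (by simp [Tr.mul_s, e, add_comm])
        (add_comm _ _)
    · rw [eq_comm, ← mul_inv_eq_iff_eq_mul, Tr.cy_mul _ hu, e, mul_zero]
      exact Tr.ext e.symm rfl (Tr.mem_UU.1 hu).symm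
  obtain ⟨D, P, z, s, d1, d2, d3, -, -, d6, -, -, -, -, d11, -⟩ := h.exists_min hp.out hq hpq hF ha ho
  refine ⟨D, inferInstance, inferInstance, d1, ?_⟩
  rw [d2, le_antisymm (d1.bound hp.out hq hpq hF ha ho d2) ?_]
  choose v hv hv' using d11
  have h1 : ∀ c, (⟨0, b c 1 - b 1 c, 0⟩ : Tr.{u} d) ∈ P := fun c => by
    convert P.mul_mem (P.mul_mem (hv c) (hv 1)) (P.inv_mem (P.mul_mem (hv 1) (hv c))) using 1
    rw [eq_mul_inv_iff_mul_eq]
    have k1 := Tr.mem_UU.1 (d6 (hv c))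
    have k2 := Tr.mem_UU.1 (d6 (hv 1))
    refine Tr.ext ?_ ?_ ?_
    · simp only [Tr.mul_x, k1, k2, hχ0]
      ring
    · simp only [Tr.mul_x, Tr.mul_s, k1, k2, hχ0, hv', one_mul, map_zero, AddMonoidHom.zero_apply]
      show b c 1 - b 1 c + ((v 1).s + (v c).s + b 1 c) + 0 = (v c).s + (v 1).s + b c 1
      ring
    · simp only [Tr.mul_k, k1, k2, add_zero]
  have h2 : Nat.card (F × Set.range fun c => b c 1 - b 1 c) ≤ #P := by
    refine Nat.card_le_card_of_injective (fun w => ⟨⟨0, w.2.1, 0⟩ * v w.1, P.mul_mem (by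
      obtain ⟨c, hc⟩ := w.2.2
      exact hc ▸ h1 c) (hv _)⟩) fun w w' e => ?_
    have e1 : (⟨0, w.2.1, 0⟩ : Tr.{u} d) * v w.1 = ⟨0, w'.2.1, 0⟩ * v w'.1 := congrArg Subtype.val e
    have e2 : w.1 = w'.1 := by simpa [Tr.mul_x, hv'] using congrArg Tr.x e1
    rw [e2, mul_left_inj] at e1
    exact Prod.ext e2 (Subtype.ext (congrArg Tr.s e1))
  rw [Nat.card_prod, hF, d3] at h2
  split_ifs with h3
  · have h4 : 0 < Nat.card (Set.range fun c => b c 1 - b 1 c) := Nat.card_pos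
    exact (Nat.pow_le_pow_iff_right hp.out.one_lt).1 ((Nat.le_mul_of_pos_right _ h4).trans h2)
  · have h4 := (Nat.mul_le_mul_left (p ^ a) (b2 (by omega))).trans h2
    rw [← pow_add, Nat.pow_le_pow_iff_right hp.out.one_lt] at h4
    omega

theorem golfand (p q r : ℕ) [hp : Fact p.Prime] [hq : Fact q.Prime] (hpq : p ≠ q) (hr : 1 ≤ r) (a a₀ : ℕ)
    (ha : a = orderOf (p : ZMod q)) (ha₀ : a₀ = if a % 2 = 1 then a else 3 * a / 2) :
    ∃ (G₀ : Type u) (_ : Group G₀) (_ : Finite G₀), MN p G₀ ∧ Nat.card G₀ = p ^ a₀ * q ^ r ∧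
      ∀ (X : Type u) [Group X] [Finite X], MN p X → (∃ t : ℕ, Nat.card X = p ^ t * q ^ r) →
        ∃ φ : G₀ →* X, Function.Surjective φ ∧ φ.ker ≤ center G₀ := by
  have hF : Nat.card (GaloisField p a) = p ^ a :=
    GaloisField.card p a (ha ▸ (ord_pos hp.out hq.out hpq).ne')
  obtain ⟨ζ, ho⟩ := exists_root hp.out hq.out hF ha
  obtain ⟨Y, _, _, h1, h2⟩ := exists_max.{u} hq.out hpq hr hF ha ho
  exact ⟨Y, inferInstance, inferInstance, h1, ha₀ ▸ h2, fun X _ _ hX ⟨t, ht⟩ =>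
    h1.cover hX hp.out hq.out hpq hF ha ho h2 ht⟩

end Cfsg.Agent.H3.Gol
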