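import Cfsg.Agent.S0051

/-! Central extensions by elementary abelian 2-groups: lifting `2^4 : L` subgroups. -/

set_option autoImplicit false
set_option linter.unusedSectionVars false

namespace Cfsg.Agent.H3.L34

open Subgroup

/-- an elementary abelian group of order 16 with transitive normalizer of quotient `L` -/
structure Good (L : Type*) [Group L] {Y : Type*} [Group Y] (A : Subgroup Y) : Prop where
  sq : ∀ a ∈ A, a * a = 1
  card : Nat.card A = 16
  tr : ∀ a ∈ A, ∀ b ∈ A, a ≠ 1 → b ≠ 1 → ∃ g : Y, g * a * g⁻¹ = b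
  hom : ∃ ρ : normalizer (A : Set Y) →* L, Function.Surjective ρ ∧ ∀ g, ρ g = 1 ↔ (g : Y) ∈ A

structure Pair (L : Type*) [Group L] {Y : Type*} [Group Y] (U A B : Subgroup Y) : Prop where
  gA : Good L A
  gB : Good L B
  le : U ≤ A ⊔ B
  nA : U ≤ normalizer (A : Set Y)
  nB : U ≤ normalizer (B : Set Y)
  cen : ∀ u ∈ U, (∀ a ∈ A, a * u = u * a) → (∀ b ∈ B, b * u = u * b) → u ∈ A ∧ u ∈ B

theorem Pair.symm {L : Type*} [Group L] {Y : Type*} [Group Y] {U A B : Subgroup Y}
    (h : Pair L U A B) : Pair L U B A :=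
  ⟨h.gB, h.gA, by rw [sup_comm]; exact h.le, h.nB, h.nA, fun u hu h1 h2 => (h.cen u hu h2 h1).symm⟩

theorem exists_notMem {Y : Type*} [Group Y] (A : Subgroup Y) (s : Finset Y)
    (h : s.card < Nat.card A) : ∃ a ∈ A, a ∉ s := by
  by_contra hc
  push Not at hc
  have h1 : (A : Set Y) ⊆ (s : Set Y) := fun a ha => hc a ha
  have h2 := Set.ncard_le_ncard h1 s.finite_toSet
  rw [Set.ncard_coe_finset] at h2
  have h3 : Nat.card A = (A : Set Y).ncard := rfl
  omega

theorem comm_of_sq {X : Type*} [Group X] {H : Subgroup X} (h : ∀ a ∈ H, a * a = 1) {a b : X}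
    (ha : a ∈ H) (hb : b ∈ H) : a * b = b * a := by
  have h1 := inv_eq_of_mul_eq_one_right (h _ (mul_mem ha hb))
  rw [mul_inv_rev, inv_eq_of_mul_eq_one_right (h a ha), inv_eq_of_mul_eq_one_right (h b hb)] at h1
  exact h1.symm

theorem exists_compl {X : Type*} [Group X] [Finite X] (H K : Subgroup X)
    (hK : ∀ a ∈ K, a * a = 1) : ∃ C : Subgroup X, C ≤ K ∧ C ⊓ H = ⊥ ∧ K ≤ H ⊔ C := by
  obtain ⟨C, ⟨hCK, hCH⟩, hmax⟩ := (Set.toFinite {C : Subgroup X | C ≤ K ∧ C ⊓ H = ⊥}).exists_maximal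
    ⟨⊥, bot_le, bot_inf_eq _⟩
  refine ⟨C, hCK, hCH, fun k hk => ?_⟩
  by_contra hn
  let D : Subgroup X :=
    { carrier := {x | x ∈ C ∨ x * k ∈ C}
      one_mem' := Or.inl (one_mem _)
      mul_mem' := by
        have hKm : ∀ x, x * k ∈ C → x ∈ K := fun x hx => by
          have := mul_mem (hCK hx) (inv_mem hk)
          rwa [mul_inv_cancel_right] at this
        rintro x y (hx | hx) (hy | hy)
        · exact Or.inl (mul_mem hx hy)
        · right; rw [mul_assoc]; exact mul_mem hx hy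
        · right
          have : x * y * k = x * k * y := by
            rw [mul_assoc, comm_of_sq hK (hCK hy) hk, mul_assoc]
          rw [this]; exact mul_mem hx hy
        · left
          have : x * y = x * k * (y * k) := by
            rw [comm_of_sq hK (hKm y hy) hk, mul_assoc, ← mul_assoc k k, hK k hk, one_mul]
          rw [this]; exact mul_mem hx hy
      inv_mem' := by
        have hKm : ∀ x, x * k ∈ C → x ∈ K := fun x hx => by
          have := mul_mem (hCK hx) (inv_mem hk)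
          rwa [mul_inv_cancel_right] at this
        rintro x (hx | hx)
        · exact Or.inl (inv_mem hx)
        · right; rwa [inv_eq_of_mul_eq_one_right (hK x (hKm x hx))] }
  have hDK : D ≤ K := by
    rintro x (hx | hx)
    · exact hCK hx
    · have := mul_mem (hCK hx) (inv_mem hk)
      rwa [mul_inv_cancel_right] at this
  have hDH : D ⊓ H = ⊥ := by
    rw [eq_bot_iff]
    rintro x ⟨hx | hx, hxH⟩
    · rw [← hCH]; exact ⟨hx, hxH⟩
    · exfalso
      apply hn
      have := mul_mem (mem_sup_left (T := C) (inv_mem hxH)) (mem_sup_right (S := H) hx)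
      rwa [inv_mul_cancel_left] at this
  have hDC : D ≤ C := hmax ⟨hDK, hDH⟩ fun x hx => Or.inl hx
  have : k ∈ C := hDC (Or.inr (by rw [hK k hk]; exact one_mem _))
  exact hn (mem_sup_right this)

section

variable {X Y L : Type*} [Group X] [Finite X] [Group Y] [Group L] {ψ : X →* Y}
  (hs : Function.Surjective ψ) (hker : ∀ x, ψ x = 1 ↔ x ∈ center X)
  (hZ : ∀ z ∈ center X, z * z = 1)
include hs hker hZ

theorem elem {H : Subgroup X} (hG : Good L (H.map ψ)) : ∀ h ∈ H, h * h = 1 := by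
  classical
  have hc : ∀ h ∈ H, h * h ∈ center X := fun h hh => by
    rw [← hker, map_mul]; exact hG.sq _ (mem_map_of_mem ψ hh)
  have key : ∀ h ∈ H, ∀ h' ∈ H, ψ h ≠ 1 → ψ h' ≠ 1 → h * h = h' * h' := by
    intro h hh h' hh' n n'
    obtain ⟨g, hg⟩ := hG.tr _ (mem_map_of_mem ψ hh) _ (mem_map_of_mem ψ hh') n n'
    obtain ⟨g, rfl⟩ := hs g
    have hz : h'⁻¹ * (g * h * g⁻¹) ∈ center X := by
      rw [← hker, map_mul, map_mul, map_mul, map_inv, map_inv, hg, inv_mul_cancel]
    set z := h'⁻¹ * (g * h * g⁻¹) with hzdef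
    have e : g * h * g⁻¹ = h' * z := by rw [hzdef]; group
    have c1 := mem_center_iff.1 (hc h hh) g
    have c2 := mem_center_iff.1 hz h'
    calc h * h = g * (h * h) * g⁻¹ := by rw [c1]; group
      _ = (g * h * g⁻¹) * (g * h * g⁻¹) := by group
      _ = h' * (z * h') * z := by rw [e]; group
      _ = h' * h' * (z * z) := by rw [← c2]; group
      _ = _ := by rw [hZ z hz, mul_one]
  obtain ⟨_, ⟨x, hx, rfl⟩, n1⟩ := exists_notMem (H.map ψ) {1} (by rw [hG.card]; simp)
  obtain ⟨_, ⟨y, hy, rfl⟩, n2⟩ := exists_notMem (H.map ψ) {1, ψ x}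
    (by rw [hG.card]; exact lt_of_le_of_lt Finset.card_le_two (by norm_num))
  obtain ⟨_, ⟨w, hw, rfl⟩, n3⟩ := exists_notMem (H.map ψ) {1, ψ x, ψ y, ψ x * ψ y}
    (by rw [hG.card]; exact lt_of_le_of_lt Finset.card_le_four (by norm_num))
  simp only [Finset.mem_insert, Finset.mem_singleton, not_or] at n1 n2 n3
  have iv : ∀ a ∈ H.map ψ, ∀ b, a * b = 1 → b = a := fun a ha b hab => by
    rw [← inv_eq_of_mul_eq_one_right hab, inv_eq_of_mul_eq_one_right (hG.sq a ha)]
  have mx := mem_map_of_mem ψ hx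
  have my := mem_map_of_mem ψ hy
  set c := x * x with hcdef
  have hcc : c ∈ center X := hc x hx
  have anti : ∀ v ∈ H, ψ v ≠ 1 → ψ (x * v) ≠ 1 → v * x = c * (x * v) := by
    intro v hv m1 m2
    have e1 : v * v = c := key v hv x hx m1 n1
    have e2 : x * v * (x * v) = c := key _ (mul_mem hx hv) x hx m2 n1
    have e3 := hZ c hcc
    have c1 := mem_center_iff.1 hcc
    have i1 : x⁻¹ = c * x := by
      apply inv_eq_of_mul_eq_one_right
      rw [← mul_assoc, c1 x, mul_assoc, ← hcdef, e3]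
    have i2 : v⁻¹ = c * v := by
      apply inv_eq_of_mul_eq_one_right
      rw [← mul_assoc, c1 v, mul_assoc, e1, e3]
    calc v * x = x⁻¹ * (x * v * (x * v)) * v⁻¹ := by group
      _ = c * x * (c * c) * v := by rw [e2, i1, i2]; group
      _ = _ := by rw [e3]; group
  have a1 := anti y hy n2.1 (by rw [map_mul]; exact fun e => n2.2 (iv _ mx _ e))
  have a2 := anti w hw n3.1 (by rw [map_mul]; exact fun e => n3.2.1 (iv _ mx _ e))
  have a3 := anti (y * w) (mul_mem hy hw)
    (by rw [map_mul]; exact fun e => n3.2.2.1 (iv _ my _ e))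
    (by rw [map_mul, map_mul, ← mul_assoc]; exact fun e => n3.2.2.2 (iv _ (mul_mem mx my) _ e))
  have hc1 : c = 1 := by
    have c1 := mem_center_iff.1 hcc
    have : y * w * x = x * (y * w) := by
      calc y * w * x = y * (w * x) := by group
        _ = (y * c) * x * w := by rw [a2]; group
        _ = c * (y * x) * w := by rw [c1 y]; group
        _ = (c * c) * (x * (y * w)) := by rw [a1]; group
        _ = _ := by rw [hZ c hcc, one_mul]
    rw [this] at a3
    exact (mul_eq_right.1 a3.symm)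
  intro h hh
  by_cases e : ψ h = 1
  · exact hZ h ((hker h).1 e)
  · rw [key h hh x hx e n1, ← hcdef, hc1]

theorem mem_of_map {H : Subgroup X} (hZH : center X ≤ H) {x : X} (h : ψ x ∈ H.map ψ) : x ∈ H := by
  obtain ⟨y, hy, e⟩ := h
  have : y⁻¹ * x ∈ center X := by rw [← hker, map_mul, map_inv, e, inv_mul_cancel]
  have := mul_mem hy (hZH this)
  rwa [mul_inv_cancel_left] at this

theorem norm_iff {H : Subgroup X} (hZH : center X ≤ H) (g : X) :
    g ∈ normalizer (H : Set X) ↔ ψ g ∈ normalizer ((H.map ψ : Subgroup Y) : Set Y) := by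
  have h1 : (H.map ψ).comap ψ = H := le_antisymm (fun x hx => mem_of_map hs hker hZ hZH hx)
    (le_comap_map _ _)
  have h2 := comap_normalizer_eq_of_surjective (H.map ψ) hs
  rw [h1] at h2
  rw [← h2]; rfl

theorem split (T : Sylow 2 X) {H K : Subgroup X} (hZH : center X ≤ H) (hG : Good L (H.map ψ))
    (hK : ∀ a ∈ K, a * a = 1) (hHT : H ≤ T) (hKT : K ≤ T) (hT : (T : Subgroup X) ≤ H ⊔ K)
    (hN : (T : Subgroup X) ≤ normalizer (H : Set X)) :
    ∃ C : Subgroup X, C ≤ normalizer (H : Set X) ∧ C ⊓ H = ⊥ ∧ H ⊔ C = normalizer (H : Set X) ∧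
      Nonempty (C ≃* L) := by
  haveI : Fact (Nat.Prime 2) := ⟨Nat.prime_two⟩
  have hH := elem hs hker hZ hG
  obtain ⟨D, hDK, hDH, hKD⟩ := exists_compl H K hK
  set N := normalizer (H : Set X) with hNdef
  have hHN : H ≤ N := le_normalizer
  haveI : IsMulCommutative (H.subgroupOf N) :=
    ⟨⟨fun a b => Subtype.ext (Subtype.ext (comm_of_sq hH a.2 b.2))⟩⟩
  have hcop : (Nat.card (H.subgroupOf N)).Coprime ((T : Subgroup X).subgroupOf N).index := by
    obtain ⟨k, hk⟩ := (T.2.to_le hHT).exists_card_eq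
    rw [Nat.card_congr (subgroupOfEquivOfLe hHN).toEquiv, hk]
    apply Nat.Coprime.pow_left
    rw [Nat.Prime.coprime_iff_not_dvd Nat.prime_two]
    intro h2
    exact T.not_dvd_index (h2.trans (relIndex_dvd_index_of_le hN))
  have hsup : H ⊔ D = T := le_antisymm (sup_le hHT (hDK.trans hKT))
    (hT.trans (sup_le le_sup_left hKD))
  obtain ⟨C, hC⟩ := Cfsg.Agent.S0051.result (H.subgroupOf N) ((T : Subgroup X).subgroupOf N)
    (fun x hx => hHT hx) hcop (D.subgroupOf N) (fun x hx => hKT (hDK hx))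
    (by rw [subgroupOf, subgroupOf, ← comap_inf, hDH]; exact bot_subgroupOf _)
    (by rw [← subgroupOf_sup hHN ((hDK.trans hKT).trans hN), hsup])
  obtain ⟨ρ, hρ, hρk⟩ := hG.hom
  let f : N →* normalizer ((H.map ψ : Subgroup Y) : Set Y) :=
    (ψ.comp N.subtype).codRestrict _ fun g => (norm_iff hs hker hZ hZH g).1 g.2
  have hf : Function.Surjective f := by
    rintro ⟨y, hy⟩
    obtain ⟨g, rfl⟩ := hs y
    exact ⟨⟨g, (norm_iff hs hker hZ hZH g).2 hy⟩, rfl⟩
  have hk : ∀ g : N, ρ (f g) = 1 ↔ g ∈ H.subgroupOf N := fun g => by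
    rw [hρk]
    exact ⟨fun h => mem_of_map hs hker hZ hZH h, fun h => mem_map_of_mem ψ h⟩
  refine ⟨C.map N.subtype, map_subtype_le _, ?_, ?_, ?_⟩
  · rw [eq_bot_iff]
    rintro _ ⟨⟨c, hc, rfl⟩, hcH⟩
    have := hC.disjoint.le_bot (⟨hcH, hc⟩ : c ∈ H.subgroupOf N ⊓ C)
    rw [mem_bot] at this ⊢
    rw [this]; rfl
  · have h1 := congrArg (map N.subtype) hC.sup_eq_top
    rwa [Subgroup.map_sup, subgroupOf_map_subtype, inf_eq_left.2 hHN, ← MonoidHom.range_eq_map,
      range_subtype] at h1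
  · refine ⟨(C.equivMapOfInjective N.subtype N.subtype_injective).symm.trans
      (MulEquiv.ofBijective ((ρ.comp f).comp C.subtype) ⟨?_, ?_⟩)⟩
    · rw [injective_iff_map_eq_one]
      intro c hc
      have := hC.disjoint.le_bot (⟨(hk c).1 hc, c.2⟩ : (c : N) ∈ H.subgroupOf N ⊓ C)
      exact Subtype.ext (mem_bot.1 this)
    · intro l
      obtain ⟨y, rfl⟩ := hρ l
      obtain ⟨n, rfl⟩ := hf y
      obtain ⟨⟨h, c⟩, rfl⟩ := hC.2 n
      refine ⟨c, ?_⟩
      have := (hk h).2 h.2
      change ρ (f c) = ρ (f (h * c))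
      rw [map_mul, map_mul, this, one_mul]

theorem core (T : Sylow 2 X) {H K : Subgroup X} {U : Subgroup Y}
    (hP : Pair L U (H.map ψ) (K.map ψ)) (hTU : (T : Subgroup X).map ψ ≤ U) (hHT : H ≤ T)
    (hKT : K ≤ T) (hZH : center X ≤ H) (hZK : center X ≤ K) :
    Cfsg.IsElementaryAbelian 2 H ∧ Cfsg.IsElementaryAbelian 2 K ∧
      H ⊓ K = (center ↥(H ⊔ K)).map (H ⊔ K).subtype ∧
      (∃ C : Subgroup X, C ≤ normalizer (H : Set X) ∧ C ⊓ H = ⊥ ∧ H ⊔ C = normalizer (H : Set X) ∧
        Nonempty (C ≃* L)) ∧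
      (∃ C : Subgroup X, C ≤ normalizer (K : Set X) ∧ C ⊓ K = ⊥ ∧ K ⊔ C = normalizer (K : Set X) ∧
        Nonempty (C ≃* L)) := by
  have hH := elem hs hker hZ hP.gA
  have hK := elem hs hker hZ hP.gB
  have hT : (T : Subgroup X) ≤ H ⊔ K := fun t ht =>
    mem_of_map hs hker hZ (hZH.trans le_sup_left)
      (by rw [Subgroup.map_sup]; exact hP.le (hTU (mem_map_of_mem ψ ht)))
  refine ⟨⟨⟨⟨fun a b => Subtype.ext (comm_of_sq hH a.2 b.2)⟩⟩, fun a ha => by rw [sq, hH a ha]⟩,
    ⟨⟨⟨fun a b => Subtype.ext (comm_of_sq hK a.2 b.2)⟩⟩, fun a ha => by rw [sq, hK a ha]⟩, ?_,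
    split hs hker hZ T hZH hP.gA hK hHT hKT hT fun t ht =>
      (norm_iff hs hker hZ hZH t).2 (hP.nA (hTU (mem_map_of_mem ψ ht))),
    split hs hker hZ T hZK hP.gB hH hKT hHT (by rw [sup_comm]; exact hT) fun t ht =>
      (norm_iff hs hker hZ hZK t).2 (hP.nB (hTU (mem_map_of_mem ψ ht)))⟩
  ext x
  constructor
  · rintro ⟨h1, h2⟩
    refine ⟨⟨x, mem_sup_left h1⟩, mem_center_iff.2 fun g => Subtype.ext ?_, rfl⟩
    have : H ⊔ K ≤ centralizer {x} := sup_le
      (fun a ha => mem_centralizer_singleton_iff.2 (comm_of_sq hH ha h1))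
      (fun a ha => mem_centralizer_singleton_iff.2 (comm_of_sq hK ha h2))
    exact mem_centralizer_singleton_iff.1 (this g.2)
  · rintro ⟨y, hy, rfl⟩
    have hc : ∀ g ∈ H ⊔ K, ψ g * ψ y = ψ y * ψ g := fun g hg => by
      rw [← map_mul, ← map_mul]
      exact congrArg (fun t : ↥(H ⊔ K) => ψ t) (mem_center_iff.1 hy ⟨g, hg⟩)
    have := hP.cen (ψ y) (hTU (mem_map_of_mem ψ (sup_le hHT hKT y.2)))
      (by rintro _ ⟨a, ha, rfl⟩; exact hc a (mem_sup_left ha))
      (by rintro _ ⟨a, ha, rfl⟩; exact hc a (mem_sup_right ha))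
    exact ⟨mem_of_map hs hker hZ hZH this.1, mem_of_map hs hker hZ hZK this.2⟩

end

/-- the same data upstairs, modulo a centre of exponent three -/
structure GoodG (L : Type*) [Group L] {G : Type*} [Group G] (A : Subgroup G) : Prop where
  sq : ∀ a ∈ A, a * a = 1
  card : Nat.card A = 16
  tr : ∀ a ∈ A, ∀ b ∈ A, a ≠ 1 → b ≠ 1 → ∃ g : G, g * a * g⁻¹ = b
  hom : ∃ ρ : normalizer (A : Set G) →* L, Function.Surjective ρ ∧
    ∀ g, ρ g = 1 ↔ ∃ a ∈ A, a⁻¹ * g ∈ center G

theorem GoodG.map {L : Type*} [Group L] {G : Type*} [Group G] {A : Subgroup G} (h : GoodG L A)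
    (τ : G ≃* G) : GoodG L (A.map τ.toMonoidHom) where
  sq := by
    rintro _ ⟨a, ha, rfl⟩
    rw [← map_mul, h.sq a ha, map_one]
  card := by rw [← h.card]; exact (Nat.card_congr (τ.subgroupMap A).toEquiv).symm
  tr := by
    rintro _ ⟨a, ha, rfl⟩ _ ⟨b, hb, rfl⟩ n1 n2
    obtain ⟨g, hg⟩ := h.tr a ha b hb (by rintro rfl; exact n1 (map_one _))
      (by rintro rfl; exact n2 (map_one _))
    exact ⟨τ g, by rw [← hg]; simp⟩
  hom := by
    obtain ⟨ρ, hρ, hk⟩ := h.hom
    have e := map_equiv_normalizer_eq A τ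
    have hm : ∀ g, g ∈ normalizer ((A.map τ.toMonoidHom : Subgroup G) : Set G) ↔
        τ.symm g ∈ normalizer (A : Set G) := fun g => by rw [← e, mem_map_equiv]
    let f : normalizer ((A.map τ.toMonoidHom : Subgroup G) : Set G) →* normalizer (A : Set G) :=
      (τ.symm.toMonoidHom.comp (Subgroup.subtype _)).codRestrict _ fun g => (hm g).1 g.2
    have hc : ∀ x, τ.symm x ∈ center G ↔ x ∈ center G := fun x => by
      simp only [mem_center_iff]
      constructor
      · intro hx g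
        apply τ.symm.injective
        rw [map_mul, map_mul, hx]
      · intro hx g
        apply τ.injective
        rw [map_mul, map_mul, τ.apply_symm_apply, hx]
    refine ⟨ρ.comp f, hρ.comp ?_, fun g => ?_⟩
    · rintro ⟨y, hy⟩
      exact ⟨⟨τ y, (hm _).2 (by simpa using hy)⟩, Subtype.ext (τ.symm_apply_apply y)⟩
    · rw [MonoidHom.comp_apply, hk]
      constructor
      · rintro ⟨a, ha, h1⟩
        refine ⟨τ a, mem_map_of_mem _ ha, (hc _).1 ?_⟩
        rw [map_mul, map_inv, τ.symm_apply_apply]; exact h1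
      · rintro ⟨_, ⟨a, ha, rfl⟩, h1⟩
        refine ⟨a, ha, ?_⟩
        have := (hc _).2 h1
        rw [map_mul, map_inv, MulEquiv.coe_toMonoidHom, τ.symm_apply_apply] at this
        exact this

theorem card_map_inj {G Y : Type*} [Group G] [Group Y] (K : Subgroup G) (f : G →* Y)
    (h : ∀ k ∈ K, f k = 1 → k = 1) : Nat.card (K.map f) = Nat.card K := by
  have hi : Function.Injective (f.comp K.subtype) := by
    rw [injective_iff_map_eq_one]
    intro k hk
    exact Subtype.ext (h k k.2 hk)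
  rw [Nat.card_congr (MonoidHom.ofInjective hi).toEquiv, MonoidHom.range_comp, range_subtype]

theorem GoodG.good {L : Type*} [Group L] {G : Type*} [Group G] [Finite G] {A : Subgroup G}
    (h : GoodG L A) (h3 : ∀ z ∈ center G, z * z * z = 1) :
    Good L (A.map (QuotientGroup.mk' (center G))) := by
  set π := QuotientGroup.mk' (center G) with hπ
  have hker : ∀ x, π x = 1 ↔ x ∈ center G := fun x => QuotientGroup.eq_one_iff x
  have hs : Function.Surjective π := QuotientGroup.mk'_surjective _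
  have h1 : ∀ z ∈ center G, z * z = 1 → z = 1 := fun z hz e => by
    have := h3 z hz
    rwa [e, one_mul] at this
  have hn : ∀ g, π g ∈ normalizer ((A.map π : Subgroup _) : Set (G ⧸ center G)) →
      g ∈ normalizer (A : Set G) := by
    intro g hg
    apply mem_normalizer_fintype
    intro a ha
    obtain ⟨b, hb, e⟩ := (mem_normalizer_iff.1 hg _).1 (mem_map_of_mem π ha)
    have hz : b⁻¹ * (g * a * g⁻¹) ∈ center G := by
      rw [← hker, map_mul, map_mul, map_mul, map_inv, map_inv, e, inv_mul_cancel]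
    set z := b⁻¹ * (g * a * g⁻¹) with hzdef
    have e' : g * a * g⁻¹ = b * z := by rw [hzdef]; group
    have c2 := mem_center_iff.1 hz b
    have : z * z = 1 := by
      calc z * z = (b * b) * (z * z) := by rw [h.sq b hb, one_mul]
        _ = b * (b * z) * z := by group
        _ = b * (z * b) * z := by rw [c2]
        _ = (b * z) * (b * z) := by group
        _ = g * (a * a) * g⁻¹ := by rw [← e']; group
        _ = 1 := by rw [h.sq a ha]; group
    rw [e', h1 z hz this, mul_one]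
    exact hb
  refine ⟨?_, ?_, ?_, ?_⟩
  · rintro _ ⟨a, ha, rfl⟩
    rw [← map_mul, h.sq a ha, map_one]
  · rw [card_map_inj A π fun k hk e => h1 k ((hker k).1 e) (h.sq k hk), h.card]
  · rintro _ ⟨a, ha, rfl⟩ _ ⟨b, hb, rfl⟩ n1 n2
    obtain ⟨g, hg⟩ := h.tr a ha b hb (by rintro rfl; exact n1 (map_one _))
      (by rintro rfl; exact n2 (map_one _))
    exact ⟨π g, by rw [← hg]; simp⟩
  · obtain ⟨ρ, hρ, hk⟩ := h.hom
    let f : normalizer (A : Set G) →*
        normalizer ((A.map π : Subgroup _) : Set (G ⧸ center G)) :=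
      (π.comp (Subgroup.subtype _)).codRestrict _ fun g =>
        le_normalizer_map π (mem_map_of_mem π g.2)
    have hf : Function.Surjective f := by
      rintro ⟨y, hy⟩
      obtain ⟨g, rfl⟩ := hs y
      exact ⟨⟨g, hn g hy⟩, rfl⟩
    have hle : f.ker ≤ ρ.ker := fun g hg => by
      rw [MonoidHom.mem_ker, hk]
      refine ⟨1, one_mem _, ?_⟩
      rw [inv_one, one_mul, ← hker]
      exact congrArg Subtype.val hg
    have hap : ∀ g, f.liftOfSurjective hf ⟨ρ, hle⟩ (f g) = ρ g := fun g =>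
      MonoidHom.liftOfRightInverse_comp_apply _ _ _ _ _
    refine ⟨f.liftOfSurjective hf ⟨ρ, hle⟩, fun l => ?_, fun y => ?_⟩
    · obtain ⟨g, rfl⟩ := hρ l
      exact ⟨f g, hap g⟩
    · obtain ⟨g, rfl⟩ := hf y
      rw [hap, hk]
      constructor
      · rintro ⟨a, ha, h2⟩
        refine ⟨a, ha, ?_⟩
        rw [← hker, map_mul, map_inv, inv_mul_eq_one] at h2
        exact h2
      · rintro ⟨a, ha, h2⟩
        refine ⟨a, ha, ?_⟩
        rw [← hker, map_mul, map_inv, inv_mul_eq_one]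
        exact h2

end Cfsg.Agent.H3.L34
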