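import Cfsg.Agent.H3.L34a
import Cfsg.Agent.H10.SL

/-! The two `2^4 : L₂(4)` subgroups of `L₃(4)`. -/

set_option autoImplicit false
set_option linter.unusedSectionVars false

namespace Cfsg.Agent.H3.L34

open Subgroup Matrix
open scoped MatrixGroups

variable {F : Type*} [Field F]

/-- unitriangular matrices -/
def u (a b c : F) : SL(3, F) := ⟨!![1, a, c; 0, 1, b; 0, 0, 1], by simp [det_fin_three]⟩

theorem u_coe (a b c : F) : (u a b c).1 = !![1, a, c; 0, 1, b; 0, 0, 1] := rfl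

theorem u_mul (a b c a' b' c' : F) :
    u a b c * u a' b' c' = u (a + a') (b + b') (c + c' + a * b') := by
  apply Subtype.ext
  rw [Matrix.SpecialLinearGroup.coe_mul, u_coe, u_coe, u_coe]
  ext i j
  fin_cases i <;> fin_cases j <;> simp [Matrix.mul_apply, Fin.sum_univ_three] <;> ring

theorem u_zero : u (0 : F) 0 0 = 1 := by
  apply Subtype.ext
  rw [u_coe]
  ext i j
  fin_cases i <;> fin_cases j <;> simp

theorem u_inj {a b c a' b' c' : F} (h : u a b c = u a' b' c') : a = a' ∧ b = b' ∧ c = c' := by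
  have h1 := congrArg (fun g : SL(3, F) => g.1 0 1) h
  have h2 := congrArg (fun g : SL(3, F) => g.1 1 2) h
  have h3 := congrArg (fun g : SL(3, F) => g.1 0 2) h
  simp only [u_coe] at h1 h2 h3
  exact ⟨by simpa using h1, by simpa using h2, by simpa using h3⟩

theorem u_inv (a b c : F) : (u a b c)⁻¹ = u (-a) (-b) (a * b - c) := by
  apply inv_eq_of_mul_eq_one_right
  rw [u_mul, ← u_zero]
  congr 1 <;> ring

def UU (F : Type*) [Field F] : Subgroup SL(3, F) where
  carrier := {g | ∃ a b c, g = u a b c}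
  one_mem' := ⟨0, 0, 0, u_zero.symm⟩
  mul_mem' := by
    rintro _ _ ⟨a, b, c, rfl⟩ ⟨a', b', c', rfl⟩
    exact ⟨_, _, _, u_mul ..⟩
  inv_mem' := by
    rintro _ ⟨a, b, c, rfl⟩
    exact ⟨_, _, _, u_inv ..⟩

def AA (F : Type*) [Field F] : Subgroup SL(3, F) where
  carrier := {g | ∃ a c, g = u a 0 c}
  one_mem' := ⟨0, 0, u_zero.symm⟩
  mul_mem' := by
    rintro _ _ ⟨a, c, rfl⟩ ⟨a', c', rfl⟩
    exact ⟨_, _, by rw [u_mul, add_zero]⟩
  inv_mem' := by
    rintro _ ⟨a, c, rfl⟩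
    exact ⟨_, _, by rw [u_inv, neg_zero]⟩

def BB (F : Type*) [Field F] : Subgroup SL(3, F) where
  carrier := {g | ∃ b c, g = u 0 b c}
  one_mem' := ⟨0, 0, u_zero.symm⟩
  mul_mem' := by
    rintro _ _ ⟨a, c, rfl⟩ ⟨a', c', rfl⟩
    exact ⟨_, _, by rw [u_mul, add_zero]⟩
  inv_mem' := by
    rintro _ ⟨a, c, rfl⟩
    exact ⟨_, _, by rw [u_inv, neg_zero]⟩

theorem card_UU : Nat.card (UU F) = Nat.card F ^ 3 := by
  have : Nat.card (F × F × F) = Nat.card (UU F) :=
    Nat.card_congr (Equiv.ofBijective (fun p => ⟨u p.1 p.2.1 p.2.2, _, _, _, rfl⟩) ⟨by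
      rintro ⟨a, b, c⟩ ⟨a', b', c'⟩ h
      obtain ⟨h1, h2, h3⟩ := u_inj (congrArg Subtype.val h)
      simp only at h1 h2 h3
      rw [h1, h2, h3], by
      rintro ⟨_, a, b, c, rfl⟩
      exact ⟨(a, b, c), rfl⟩⟩)
  rw [← this, Nat.card_prod, Nat.card_prod]; ring

theorem card_AA : Nat.card (AA F) = Nat.card F ^ 2 := by
  have : Nat.card (F × F) = Nat.card (AA F) :=
    Nat.card_congr (Equiv.ofBijective (fun p => ⟨u p.1 0 p.2, _, _, rfl⟩) ⟨by
      rintro ⟨a, c⟩ ⟨a', c'⟩ h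
      obtain ⟨h1, -, h3⟩ := u_inj (congrArg Subtype.val h)
      simp only at h1 h3
      rw [h1, h3], by
      rintro ⟨_, a, c, rfl⟩
      exact ⟨(a, c), rfl⟩⟩)
  rw [← this, Nat.card_prod]; ring

theorem u_center {a b c : F} (h : u a b c ∈ center SL(3, F)) : u a b c = 1 := by
  obtain ⟨r, -, hr⟩ := Matrix.SpecialLinearGroup.mem_center_iff.1 h
  have h1 := congrFun (congrFun hr 0) 1
  have h2 := congrFun (congrFun hr 1) 2
  have h3 := congrFun (congrFun hr 0) 2
  simp [u_coe] at h1 h2 h3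
  rw [← h1, ← h2, ← h3, u_zero]

theorem center_cube {z : SL(3, F)} (h : z ∈ center SL(3, F)) : z * z * z = 1 := by
  obtain ⟨r, h3, hr⟩ := Matrix.SpecialLinearGroup.mem_center_iff.1 h
  apply Subtype.ext
  rw [Matrix.SpecialLinearGroup.coe_mul, Matrix.SpecialLinearGroup.coe_mul, ← hr, ← map_mul, ← map_mul]
  rw [Fintype.card_fin] at h3
  have : r * r * r = 1 := by rw [← h3]; ring
  rw [this, map_one]; rfl

theorem det_P {g : SL(3, F)} (h1 : g.1 1 0 = 0) (h2 : g.1 2 0 = 0) :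
    g.1 0 0 * (g.1 1 1 * g.1 2 2 - g.1 1 2 * g.1 2 1) = 1 := by
  have := g.2
  rw [det_fin_three, h1, h2] at this
  linear_combination this

theorem conj_P {g : SL(3, F)} (h1 : g.1 1 0 = 0) (h2 : g.1 2 0 = 0) (a c : F) :
    g * u a 0 c * g⁻¹ = u (g.1 0 0 ^ 2 * (a * g.1 2 2 - c * g.1 2 1)) 0
      (g.1 0 0 ^ 2 * (c * g.1 1 1 - a * g.1 1 2)) := by
  rw [mul_inv_eq_iff_eq_mul]
  have hd := det_P h1 h2
  apply Subtype.ext
  rw [Matrix.SpecialLinearGroup.coe_mul, Matrix.SpecialLinearGroup.coe_mul, u_coe, u_coe]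
  ext i j
  fin_cases i <;> fin_cases j <;> simp [Matrix.mul_apply, Fin.sum_univ_three, h1, h2]
  · linear_combination (-(g.1 0 0 * a)) * hd
  · linear_combination (-(g.1 0 0 * c)) * hd

theorem mem_norm_AA [Finite F] (g : SL(3, F)) :
    g ∈ normalizer (AA F : Set SL(3, F)) ↔ g.1 1 0 = 0 ∧ g.1 2 0 = 0 := by
  constructor
  · intro h
    obtain ⟨a, c, e⟩ := (mem_normalizer_iff.1 h (u 1 0 0)).1 ⟨1, 0, rfl⟩
    rw [mul_inv_eq_iff_eq_mul] at e
    have e' := congrArg Subtype.val e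
    rw [Matrix.SpecialLinearGroup.coe_mul, Matrix.SpecialLinearGroup.coe_mul, u_coe, u_coe] at e'
    have h1 := congrFun (congrFun e' 1) 1
    have h2 := congrFun (congrFun e' 2) 1
    simp [Matrix.mul_apply, Fin.sum_univ_three] at h1 h2
    exact ⟨h1, h2⟩
  · rintro ⟨h1, h2⟩
    apply mem_normalizer_fintype
    rintro _ ⟨a, c, rfl⟩
    exact ⟨_, _, conj_P h1 h2 a c⟩

/-- the Levi embedding -/
def emb (p q r t : F) (h : p * t - q * r = 1) : SL(3, F) :=
  ⟨!![1, 0, 0; 0, p, q; 0, r, t], by simp [det_fin_three]; linear_combination h⟩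

theorem conj_one {a c : F} (h : u a 0 c ≠ 1) : ∃ g : SL(3, F), g * u a 0 c * g⁻¹ = u 1 0 0 := by
  obtain ⟨x, y, hxy⟩ : ∃ x y, a * y - c * x = 1 := by
    by_cases ha : a = 0
    · have hc : c ≠ 0 := by
        rintro rfl; exact h (by rw [ha, u_zero])
      exact ⟨-c⁻¹, 0, by field_simp; ring⟩
    · exact ⟨0, a⁻¹, by field_simp; ring⟩
  refine ⟨emb a c x y hxy, ?_⟩
  rw [conj_P (by simp [emb]) (by simp [emb])]
  congr 1
  · simp [emb]; linear_combination hxy
  · simp [emb]; ring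

section four

variable [Fintype F] (hF : Fintype.card F = 4)
include hF

theorem two_eq : (2 : F) = 0 := by
  have := FiniteField.cast_card_eq_zero F
  rw [hF] at this
  have h : (2 : F) * 2 = 0 := by rw [← this]; norm_num
  exact mul_self_eq_zero.1 h

theorem pow_four (x : F) : x ^ 4 = x := by rw [← hF]; exact FiniteField.pow_card x

omit [Fintype F] hF in
/-- the scaled lower block -/
def blk (g : SL(3, F)) : Matrix (Fin 2) (Fin 2) F :=
  !![g.1 0 0 ^ 2 * g.1 1 1, g.1 0 0 ^ 2 * g.1 1 2; g.1 0 0 ^ 2 * g.1 2 1, g.1 0 0 ^ 2 * g.1 2 2]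

theorem blk_det {g : SL(3, F)} (hg : g ∈ normalizer (AA F : Set SL(3, F))) : (blk g).det = 1 := by
  obtain ⟨h1, h2⟩ := (mem_norm_AA g).1 hg
  have hd := det_P h1 h2
  have h4 := pow_four hF (g.1 0 0)
  rw [blk, det_fin_two_of]
  linear_combination hd + (g.1 1 1 * g.1 2 2 - g.1 1 2 * g.1 2 1) * h4

theorem blk_mul {g h : SL(3, F)} (hg : g ∈ normalizer (AA F : Set SL(3, F)))
    (hh : h ∈ normalizer (AA F : Set SL(3, F))) : blk (g * h) = blk g * blk h := by
  obtain ⟨g1, g2⟩ := (mem_norm_AA g).1 hg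
  obtain ⟨h1, h2⟩ := (mem_norm_AA h).1 hh
  rw [blk, blk, blk, Matrix.SpecialLinearGroup.coe_mul]
  ext i j
  fin_cases i <;> fin_cases j <;>
    simp [Matrix.mul_apply, Fin.sum_univ_three, Fin.sum_univ_two, g1, g2, h1, h2] <;> ring

/-- the projection to the Levi factor -/
def rho : normalizer (AA F : Set SL(3, F)) →* SL(2, F) :=
  MonoidHom.mk' (fun g => (⟨blk g.1, blk_det hF g.2⟩ : SL(2, F)))
    (fun g h => Subtype.ext (blk_mul hF g.2 h.2))

theorem rho_coe (g : normalizer (AA F : Set SL(3, F))) :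
    (rho hF g).1 = !![g.1.1 0 0 ^ 2 * g.1.1 1 1, g.1.1 0 0 ^ 2 * g.1.1 1 2;
      g.1.1 0 0 ^ 2 * g.1.1 2 1, g.1.1 0 0 ^ 2 * g.1.1 2 2] := rfl

theorem rho_surj : Function.Surjective (rho hF) := by
  intro s
  have hd := s.2
  rw [det_fin_two] at hd
  refine ⟨⟨emb (s.1 0 0) (s.1 0 1) (s.1 1 0) (s.1 1 1) hd,
    (mem_norm_AA _).2 ⟨by simp [emb], by simp [emb]⟩⟩, Subtype.ext ?_⟩
  rw [rho_coe]
  ext i j
  fin_cases i <;> fin_cases j <;> simp [emb]

theorem rho_ker (g : normalizer (AA F : Set SL(3, F))) :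
    rho hF g = 1 ↔ ∃ a ∈ AA F, a⁻¹ * g ∈ center SL(3, F) := by
  obtain ⟨h1, h2⟩ := (mem_norm_AA g.1).1 g.2
  have hd := det_P h1 h2
  have h0 : g.1.1 0 0 ≠ 0 := by
    intro e; rw [e, zero_mul] at hd; exact zero_ne_one hd
  have h3 : g.1.1 0 0 ^ 3 = 1 := by
    apply mul_left_cancel₀ h0
    linear_combination pow_four hF (g.1.1 0 0)
  constructor
  · intro h
    have e := congrArg Subtype.val h
    rw [rho_coe] at e
    have e1 := congrFun (congrFun e 0) 0
    have e2 := congrFun (congrFun e 0) 1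
    have e3 := congrFun (congrFun e 1) 0
    have e4 := congrFun (congrFun e 1) 1
    simp [h0] at e1 e2 e3 e4
    have f1 : g.1.1 1 1 = g.1.1 0 0 := by
      linear_combination g.1.1 0 0 * e1 - g.1.1 1 1 * h3
    have f4 : g.1.1 2 2 = g.1.1 0 0 := by
      linear_combination g.1.1 0 0 * e4 - g.1.1 2 2 * h3
    refine ⟨u (g.1.1 0 0 ^ 2 * g.1.1 0 1) 0 (g.1.1 0 0 ^ 2 * g.1.1 0 2), ⟨_, _, rfl⟩, ?_⟩
    refine Matrix.SpecialLinearGroup.mem_center_iff.2 ⟨g.1.1 0 0, by rw [Fintype.card_fin, h3], ?_⟩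
    rw [u_inv, Matrix.SpecialLinearGroup.coe_mul, u_coe]
    ext i j
    fin_cases i <;> fin_cases j <;>
      simp [Matrix.mul_apply, Fin.sum_univ_three, h1, h2, e2, e3, f1, f4]
    · linear_combination g.1.1 0 1 * h3
    · linear_combination g.1.1 0 2 * h3
  · rintro ⟨_, ⟨a, c, rfl⟩, hz⟩
    obtain ⟨r, -, hr⟩ := Matrix.SpecialLinearGroup.mem_center_iff.1 hz
    rw [u_inv, Matrix.SpecialLinearGroup.coe_mul, u_coe] at hr
    have e0 := congrFun (congrFun hr 0) 0
    have e1 := congrFun (congrFun hr 1) 1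
    have e2 := congrFun (congrFun hr 1) 2
    have e3 := congrFun (congrFun hr 2) 1
    have e4 := congrFun (congrFun hr 2) 2
    simp [Matrix.mul_apply, Fin.sum_univ_three, h1, h2] at e0 e1 e2 e3 e4
    apply Subtype.ext
    rw [rho_coe, ← e1, ← e2, ← e3, ← e4]
    rw [← e0] at h3 ⊢
    ext i j
    fin_cases i <;> fin_cases j <;> simp
    · linear_combination h3
    · linear_combination h3

theorem center_two {z : SL(2, F)} (h : z ∈ center SL(2, F)) : z = 1 := by
  obtain ⟨r, h2, hr⟩ := Matrix.SpecialLinearGroup.mem_center_iff.1 h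
  rw [Fintype.card_fin] at h2
  have : (r - 1) ^ 2 = 0 := by linear_combination h2 + (1 - r) * two_eq hF
  have h1 : r = 1 := sub_eq_zero.1 (pow_eq_zero_iff (by norm_num) |>.1 this)
  apply Subtype.ext
  rw [← hr, h1, map_one]; rfl

theorem goodA : GoodG (ProjectiveSpecialLinearGroup (Fin 2) F) (AA F) where
  sq := by
    rintro _ ⟨a, c, rfl⟩
    rw [u_mul, ← u_zero]
    congr 1
    · linear_combination a * two_eq hF
    · ring
    · linear_combination c * two_eq hF
  card := by rw [card_AA, Nat.card_eq_fintype_card, hF]; norm_num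
  tr := by
    rintro _ ⟨a, c, rfl⟩ _ ⟨a', c', rfl⟩ n1 n2
    obtain ⟨g, hg⟩ := conj_one n1
    obtain ⟨g', hg'⟩ := conj_one n2
    refine ⟨g'⁻¹ * g, ?_⟩
    calc _ = g'⁻¹ * (g * u a 0 c * g⁻¹) * g' := by group
      _ = _ := by rw [hg, ← hg']; group
  hom := by
    refine ⟨(QuotientGroup.mk' (center SL(2, F))).comp (rho hF),
      (QuotientGroup.mk'_surjective _).comp (rho_surj hF), fun g => ?_⟩
    rw [← rho_ker hF]
    constructor
    · intro h
      exact center_two hF ((QuotientGroup.eq_one_iff _).1 h)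
    · intro h
      rw [MonoidHom.comp_apply, h, map_one]

end four

theorem tr_mul (g h : SL(3, F)) : (g * h).transpose = h.transpose * g.transpose :=
  Subtype.ext (by simp [Matrix.SpecialLinearGroup.coe_transpose])

theorem tr_tr (g : SL(3, F)) : g.transpose.transpose = g := rfl

theorem tr_inv (g : SL(3, F)) : (g⁻¹).transpose = g.transpose⁻¹ := by
  symm
  apply inv_eq_of_mul_eq_one_right
  rw [← tr_mul, inv_mul_cancel]
  exact Subtype.ext (by simp [Matrix.SpecialLinearGroup.coe_transpose])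

/-- inverse transpose -/
def invT : SL(3, F) ≃* SL(3, F) where
  toFun g := (g⁻¹).transpose
  invFun g := (g⁻¹).transpose
  left_inv g := by simp only [tr_inv, inv_inv, tr_tr]
  right_inv g := by simp only [tr_inv, inv_inv, tr_tr]
  map_mul' g h := by rw [_root_.mul_inv_rev, tr_mul]

def ww : SL(3, F) := ⟨!![0, 0, 1; 0, -1, 0; 1, 0, 0], by simp [det_fin_three]⟩

theorem tau_u (a c : F) : (invT.trans (MulAut.conj ww)) (u a 0 c) = u 0 a (-c) := by
  change ww * ((u a 0 c)⁻¹).transpose * ww⁻¹ = _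
  rw [mul_inv_eq_iff_eq_mul, u_inv]
  apply Subtype.ext
  rw [Matrix.SpecialLinearGroup.coe_mul, Matrix.SpecialLinearGroup.coe_mul, Matrix.SpecialLinearGroup.coe_transpose,
    u_coe, u_coe]
  ext i j
  fin_cases i <;> fin_cases j <;> simp [ww, Matrix.mul_apply, Fin.sum_univ_three]

theorem map_AA : (AA F).map (invT.trans (MulAut.conj ww)).toMonoidHom = BB F := by
  ext g
  constructor
  · rintro ⟨_, ⟨a, c, rfl⟩, rfl⟩
    exact ⟨a, -c, tau_u a c⟩
  · rintro ⟨b, c, rfl⟩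
    exact ⟨u b 0 (-c), ⟨_, _, rfl⟩, by rw [MulEquiv.coe_toMonoidHom, tau_u, neg_neg]⟩

section four

variable [Fintype F] (hF : Fintype.card F = 4)
include hF

theorem pi_inj {x y : SL(3, F)} (hx : x ∈ UU F) (hy : y ∈ UU F)
    (h : QuotientGroup.mk' (center SL(3, F)) x = QuotientGroup.mk' (center SL(3, F)) y) : x = y := by
  obtain ⟨a, b, c, e⟩ := mul_mem (inv_mem hx) hy
  have h1 : x⁻¹ * y ∈ center SL(3, F) := QuotientGroup.eq.1 h
  rw [e] at h1
  rw [u_center h1, inv_mul_eq_one] at e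
  exact e

theorem pair : Pair (ProjectiveSpecialLinearGroup (Fin 2) F)
    ((UU F).map (QuotientGroup.mk' (center SL(3, F))))
    ((AA F).map (QuotientGroup.mk' (center SL(3, F))))
    ((BB F).map (QuotientGroup.mk' (center SL(3, F)))) where
  gA := (goodA hF).good fun _ => center_cube
  gB := (map_AA (F := F) ▸ (goodA hF).map _).good fun _ => center_cube
  le := by
    rw [← Subgroup.map_sup]
    apply map_mono
    rintro _ ⟨a, b, c, rfl⟩
    have : u a b c = u 0 b c * u a 0 0 := by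
      rw [u_mul]; congr 1 <;> ring
    rw [this]
    exact mul_mem (mem_sup_right ⟨_, _, rfl⟩) (mem_sup_left ⟨_, _, rfl⟩)
  nA := by
    refine (map_mono ?_).trans (le_normalizer_map _)
    rw [le_normalizer_iff]
    rintro _ ⟨a, b, c, rfl⟩ _ ⟨a', c', rfl⟩
    rw [u_inv, u_mul, u_mul]
    exact ⟨_, _, by congr 1; ring⟩
  nB := by
    refine (map_mono ?_).trans (le_normalizer_map _)
    rw [le_normalizer_iff]
    rintro _ ⟨a, b, c, rfl⟩ _ ⟨a', c', rfl⟩
    rw [u_inv, u_mul, u_mul]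
    exact ⟨_, _, by congr 1; ring⟩
  cen := by
    rintro _ ⟨_, ⟨a, b, c, rfl⟩, rfl⟩ h1 h2
    have e1 := h1 _ (mem_map_of_mem _ ⟨1, 0, rfl⟩)
    have e2 := h2 _ (mem_map_of_mem _ ⟨1, 0, rfl⟩)
    rw [← map_mul, ← map_mul, u_mul, u_mul] at e1 e2
    have f1 := (u_inj (pi_inj hF ⟨_, _, _, rfl⟩ ⟨_, _, _, rfl⟩ e1)).2.2
    have f2 := (u_inj (pi_inj hF ⟨_, _, _, rfl⟩ ⟨_, _, _, rfl⟩ e2)).2.2
    have hb : b = 0 := by linear_combination f1
    have ha : a = 0 := by linear_combination -f2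
    subst ha hb
    exact ⟨mem_map_of_mem _ ⟨_, _, rfl⟩, mem_map_of_mem _ ⟨_, _, rfl⟩⟩

theorem classify {E : Subgroup (ProjectiveSpecialLinearGroup (Fin 3) F)}
    (hE : E ≤ (UU F).map (QuotientGroup.mk' (center SL(3, F)))) (h2 : ∀ e ∈ E, e ^ 2 = 1)
    (hc : Nat.card E = 16) : E = (AA F).map (QuotientGroup.mk' (center SL(3, F))) ∨
      E = (BB F).map (QuotientGroup.mk' (center SL(3, F))) := by
  have hab : ∀ a b c : F, QuotientGroup.mk' (center SL(3, F)) (u a b c) ∈ E → a * b = 0 := by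
    intro a b c h
    have e := h2 _ h
    rw [sq, ← map_mul, u_mul, ← map_one (QuotientGroup.mk' (center SL(3, F))), ← u_zero] at e
    have f1 := (u_inj (pi_inj hF ⟨_, _, _, rfl⟩ ⟨_, _, _, rfl⟩ e)).2.2
    linear_combination f1 - c * two_eq hF
  have : E ≤ (AA F).map (QuotientGroup.mk' (center SL(3, F))) ∨
      E ≤ (BB F).map (QuotientGroup.mk' (center SL(3, F))) := by
    by_contra hcon
    rw [not_or, SetLike.not_le_iff_exists, SetLike.not_le_iff_exists] at hcon
    obtain ⟨⟨x, hx, hxA⟩, ⟨y, hy, hyB⟩⟩ := hcon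
    obtain ⟨_, ⟨a, b, c, rfl⟩, rfl⟩ := hE hx
    obtain ⟨_, ⟨a', b', c', rfl⟩, rfl⟩ := hE hy
    have hb : b ≠ 0 := by rintro rfl; exact hxA (mem_map_of_mem _ ⟨_, _, rfl⟩)
    have ha' : a' ≠ 0 := by rintro rfl; exact hyB (mem_map_of_mem _ ⟨_, _, rfl⟩)
    have ha : a = 0 := (mul_eq_zero.1 (hab _ _ _ hx)).resolve_right hb
    have hb' : b' = 0 := (mul_eq_zero.1 (hab _ _ _ hy)).resolve_left ha'
    have hxy := mul_mem hx hy
    rw [← map_mul, u_mul] at hxy
    have := hab _ _ _ hxy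
    rw [ha, hb', zero_add, add_zero] at this
    exact mul_ne_zero ha' hb this
  rcases this with h | h
  · exact Or.inl (eq_of_le_of_card_ge h (by rw [hc, (pair hF).gA.card]))
  · exact Or.inr (eq_of_le_of_card_ge h (by rw [hc, (pair hF).gB.card]))

theorem card_PSL3 : Nat.card (ProjectiveSpecialLinearGroup (Fin 3) F) = 20160 := by
  have h1 := H10.card_SL_fin (F := F) 3 (by norm_num)
  have h2 := H10.card_PSL_fin (F := F) 3 (by norm_num)
  rw [hF, Fin.prod_univ_three] at h1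
  rw [hF] at h2
  norm_num at h1 h2
  omega

theorem exists_conj {Q : Subgroup (ProjectiveSpecialLinearGroup (Fin 3) F)} (hQ : IsPGroup 2 Q) :
    ∃ g : ProjectiveSpecialLinearGroup (Fin 3) F,
      Q.map (MulAut.conj g).toMonoidHom ≤ (UU F).map (QuotientGroup.mk' (center SL(3, F))) := by
  haveI : Fact (Nat.Prime 2) := ⟨Nat.prime_two⟩
  have hU : Nat.card ((UU F).map (QuotientGroup.mk' (center SL(3, F)))) =
      2 ^ (Nat.card (ProjectiveSpecialLinearGroup (Fin 3) F)).factorization 2 := by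
    rw [card_map_inj _ _ fun k hk e => pi_inj hF hk (one_mem _) (by rw [e, map_one]), card_UU,
      Nat.card_eq_fintype_card, hF, card_PSL3 hF]
    have : (20160 : ℕ) = 2 ^ 6 * 315 := by norm_num
    rw [this, Nat.factorization_mul (by norm_num) (by norm_num), Nat.Prime.factorization_pow Nat.prime_two]
    simp [Nat.factorization_eq_zero_of_not_dvd (show ¬ 2 ∣ 315 by norm_num)]
  obtain ⟨P, hP⟩ := hQ.exists_le_sylow
  obtain ⟨g, hg⟩ := MulAction.exists_smul_eq (ProjectiveSpecialLinearGroup (Fin 3) F) P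
    (Sylow.ofCard _ hU)
  refine ⟨g, (map_mono hP).trans ?_⟩
  have := congrArg (fun S : Sylow 2 _ => (S : Subgroup (ProjectiveSpecialLinearGroup (Fin 3) F))) hg
  simp only [Sylow.coe_ofCard] at this
  rw [← this]
  exact le_rfl

theorem main {X : Type*} [Group X] [Finite X] (hZ : Cfsg.IsElementaryAbelian 2 (center X))
    (hXL : Nonempty ((X ⧸ center X) ≃* ProjectiveSpecialLinearGroup (Fin 3) F))
    (T : Sylow 2 X) (H K : Subgroup X) (hHK : H ≠ K) (hHT : H ≤ T) (hKT : K ≤ T)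
    (hZH : center X ≤ H) (hZK : center X ≤ K)
    (hH : Cfsg.IsElementaryAbelian 2 (H.map (QuotientGroup.mk' (center X))) ∧
      Nat.card ↥(H.map (QuotientGroup.mk' (center X))) = 16)
    (hK : Cfsg.IsElementaryAbelian 2 (K.map (QuotientGroup.mk' (center X))) ∧
      Nat.card ↥(K.map (QuotientGroup.mk' (center X))) = 16) :
    Cfsg.IsElementaryAbelian 2 H ∧ Cfsg.IsElementaryAbelian 2 K ∧
      H ⊓ K = (center ↥(H ⊔ K)).map (H ⊔ K).subtype ∧
      (∃ C : Subgroup X, C ≤ normalizer (H : Set X) ∧ C ⊓ H = ⊥ ∧ H ⊔ C = normalizer (H : Set X) ∧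
        Nonempty (C ≃* ProjectiveSpecialLinearGroup (Fin 2) F)) ∧
      (∃ C : Subgroup X, C ≤ normalizer (K : Set X) ∧ C ⊓ K = ⊥ ∧ K ⊔ C = normalizer (K : Set X) ∧
        Nonempty (C ≃* ProjectiveSpecialLinearGroup (Fin 2) F)) := by
  obtain ⟨e0⟩ := hXL
  obtain ⟨g, hg⟩ := exists_conj hF
    (T.2.map (e0.toMonoidHom.comp (QuotientGroup.mk' (center X))))
  rw [Subgroup.map_map] at hg
  let e := e0.trans (MulAut.conj g)
  let ψ := e.toMonoidHom.comp (QuotientGroup.mk' (center X))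
  have hTU : (T : Subgroup X).map ψ ≤ (UU F).map (QuotientGroup.mk' (center SL(3, F))) := hg
  have hs : Function.Surjective ψ := e.surjective.comp (QuotientGroup.mk'_surjective _)
  have hker : ∀ x, ψ x = 1 ↔ x ∈ center X := fun x => by
    rw [← QuotientGroup.eq_one_iff x]
    exact e.map_eq_one_iff
  have hZ' : ∀ z ∈ center X, z * z = 1 := fun z hz => by rw [← sq]; exact hZ.2 z hz
  have cl : ∀ J : Subgroup X, J ≤ T →
      Cfsg.IsElementaryAbelian 2 (J.map (QuotientGroup.mk' (center X))) ∧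
      Nat.card ↥(J.map (QuotientGroup.mk' (center X))) = 16 →
      J.map ψ = (AA F).map (QuotientGroup.mk' (center SL(3, F))) ∨
      J.map ψ = (BB F).map (QuotientGroup.mk' (center SL(3, F))) := by
    intro J hJ h
    refine classify hF ((map_mono hJ).trans hTU) ?_ ?_
    · rintro _ ⟨x, hx, rfl⟩
      change e (QuotientGroup.mk' (center X) x) ^ 2 = 1
      rw [← map_pow, h.1.2 _ (mem_map_of_mem _ hx), map_one]
    · rw [← Subgroup.map_map, ← h.2]
      exact (Nat.card_congr (e.subgroupMap _).toEquiv).symm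
  have hne : H.map ψ ≠ K.map ψ := fun h => hHK (le_antisymm
    (fun x hx => mem_of_map hs hker hZ' hZK (h ▸ mem_map_of_mem ψ hx))
    (fun x hx => mem_of_map hs hker hZ' hZH (h ▸ mem_map_of_mem ψ hx)))
  have hP : Pair (ProjectiveSpecialLinearGroup (Fin 2) F)
      ((UU F).map (QuotientGroup.mk' (center SL(3, F)))) (H.map ψ) (K.map ψ) := by
    rcases cl H hHT hH with h1 | h1 <;> rcases cl K hKT hK with h2 | h2
    · exact absurd (h1.trans h2.symm) hne
    · rw [h1, h2]; exact pair hF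
    · rw [h1, h2]; exact (pair hF).symm
    · exact absurd (h1.trans h2.symm) hne
  exact core hs hker hZ' T hP hTU hHT hKT hZH hZK

end four

end Cfsg.Agent.H3.L34
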