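import Cfsg.Agent.H3.Meta
import Cfsg.Agent.H3.Soft

/-! `p`-central groups, `p` odd; chief factors of groups of `p`-rank two. -/

set_option autoImplicit false
set_option linter.unusedSectionVars false
set_option linter.style.haveILetI false

namespace Cfsg.Agent.H3
open Cfsg Subgroup Cfsg.Agent.FT
open scoped commutatorElement
universe u

variable {G : Type u} [Group G] [Finite G] {p n : ℕ} [hp : Fact p.Prime] {H K M P T V : Subgroup G} {x y : G}

/-- the elements of order `p` are central -/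
def PCen (p : ℕ) (H : Subgroup G) : Prop := ∀ v ∈ H, v ^ p = 1 → v ∈ C(H)

theorem cmem (hx : x ∈ H) (hy : y ∈ H) : ⁅x, y⁆ ∈ H := der_le H (commutator_mem_commutator hx hy)

theorem choose_pow (h2 : p ≠ 2) (h : x ^ p = 1) : x ^ p.choose 2 = 1 := by
  obtain ⟨k, e⟩ := odd_prime_dvd_choose_two hp.out h2
  rw [e, pow_mul, h, one_pow]

theorem PCen.commute (h : PCen p H) (hx : x ∈ H) (hy : y ∈ H) (e : y ^ p = 1) : Commute x y :=
  FT.mem_cen.1 (h y hy e) x hx

theorem PCen.comm (h : PCen p H) (h2 : p ≠ 2) (hH : PGrp p H) (hx : x ∈ H) (hy : y ∈ H) (e : (x ^ p) ^ p = 1) :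
    ⁅x, y⁆ ^ p = 1 := by
  suffices ∀ K : Subgroup G, K ≤ H → ∀ x ∈ K, ∀ y ∈ K, (x ^ p) ^ p = 1 → ⁅x, y⁆ ^ p = 1 from this H le_rfl x hx y hy e
  intro K
  induction K using WellFoundedLT.induction with | ind K ih => ?_
  intro hK x hx y hy e
  by_cases k : y ∈ ⟪x⟫
  · obtain ⟨i, rfl⟩ := k
    rw [commutatorElement_eq_one_iff_commute.2 (Commute.self_zpow x i), one_pow]
  have l : ⟪x⟫ ⊔ ⟪y⟫ ≤ K := sup_le (zpowers_le.2 hx) (zpowers_le.2 hy)
  obtain ⟨M, m1, m2, m3⟩ := (hH.mono (l.trans hK)).exists_relIndex_p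
    (left_lt_sup.2 fun e => k (e (mem_zpowers y)))
  have lt : M < K := (lt_of_le_of_ne m2.le fun e => hp.out.one_lt.ne' (by rw [← m3, e, relIndex_self])).trans_le l
  have xM := m1 (mem_zpowers x)
  have x' := M.inv_mem ((mem_normalizer_iff.1 (m2.nrm (mem_sup_right (mem_zpowers y))) x).1 xM)
  have c := ih M lt (lt.le.trans hK) _ x' x xM (by rw [inv_pow, inv_pow, conj_pow, conj_pow, e]; simp)
  have cH : ⁅(y * x * y⁻¹)⁻¹, x⁆ ∈ H := hK (lt.le (cmem x' xM))
  rw [show ⁅x, y⁆ = x * (y * x * y⁻¹)⁻¹ by rw [commutatorElement_def]; group,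
    mul_pow_of_class_two (h.commute (hK hx) cH c) (h.commute (hK (lt.le x')) cH c), choose_pow h2 c, inv_pow, conj_pow,
    (h.commute (hK hy) (pow_mem (hK hx) p) e).eq]
  simp

theorem PCen.mul_pow (h : PCen p H) (h2 : p ≠ 2) (hH : PGrp p H) (hx : x ∈ H) (hy : y ∈ H) (e : (y ^ p) ^ p = 1) :
    (x * y) ^ p = x ^ p * y ^ p := by
  have c := h.comm h2 hH hy hx e
  have cH : ⁅y, x⁆ ∈ H := cmem hy hx
  rw [mul_pow_of_class_two (h.commute hx cH c) (h.commute hy cH c), choose_pow h2 c, mul_one]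

theorem PCen.le (h : PCen p H) : Ω[p](H) ≤ C(H) := Ohm_le_iff.2 h

theorem PCen.abelem (h : PCen p H) : Abelem p Ω[p](H) := abelem_Ohm_of_ab (ab_iff.2 (h.le.trans (cen_anti (Ohm_le p H))))

theorem PCen.quo (h : PCen p H) (h2 : p ≠ 2) (hH : PGrp p H) : PCen p (H /ₛ Ω[p](H)) := by
  intro u hu e
  have n := (Ohm_nml p H).nrm
  replace hu := mem_quo.1 hu
  obtain ⟨u, hu, -, rfl⟩ := hu
  rw [← coset_pow (n hu), coset_eq_one_iff (n (pow_mem hu p))] at e
  refine FT.mem_cen.2 fun y hy => ?_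
  replace hy := mem_quo.1 hy
  obtain ⟨y, hy, -, rfl⟩ := hy
  refine (commutatorElement_eq_one_iff_commute.1 ?_).symm
  rw [← coset_comm (n hu) (n hy), coset_eq_one_iff (n (cmem hu hy))]
  exact mem_Ohm (cmem hu hy) (h.comm h2 hH hu hy (h.abelem.pow e))

theorem pcen_index (h2 : p ≠ 2) (n : ℕ) : ∀ {G : Type u} [Group G] [Finite G] {H : Subgroup G}, #H = n → PGrp p H →
    PCen p H → ℧[p](H).relIndex H ≤ #Ω[p](H) := by
  induction n using Nat.strong_induction_on with | _ n ih => ?_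
  intro G _ _ H hn hH h
  by_cases h1 : H = ⊥
  · rw [h1, relIndex_bot_right]; exact card_pos _
  have nV := Ohm_nml p H
  have hq := h.quo h2 hH
  have i1 := ih _ (hn ▸ card_quo_lt nV (hH.Ohm_ne_bot h1)) rfl (hH.quo _) hq
  have l1 : ℧[p](H /ₛ Ω[p](H)) ≤ ℧[p](H) /ₛ Ω[p](H) := Mho_le_iff.2 fun u hu => by
    obtain ⟨u, k, hu', rfl⟩ := mem_quo.1 hu
    rw [← coset_pow hu']; exact mem_quo_of_mem (pow_mem hu' p) (pow_mem_Mho p k)
  have i2 := (Nat.le_of_dvd (relIndex_pos _ _) (relIndex_dvd_of_le l1 _)).trans i1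
  rw [relIndex_quo ((Mho_le p H).trans nV.nrm) nV.nrm] at i2
  obtain ⟨W, hW⟩ : ∃ W, W = qpre(Ω[p](H), Ω[p](H /ₛ Ω[p](H))) := ⟨_, rfl⟩
  have WH : W ≤ H := hW ▸ qpre_le_of_le_quo nV.le (Ohm_le _ _)
  have Wp : ∀ u ∈ W, u ^ p ∈ Ω[p](H) := fun u hu => by
    have n := nV.nrm (WH hu)
    rw [← coset_eq_one_iff (pow_mem n p), coset_pow n]; exact hq.abelem.pow (mem_qpre.1 (hW ▸ hu)).2
  let f : W →* G := MonoidHom.mk' (fun u => (u : G) ^ p) fun a b =>
    h.mul_pow h2 hH (WH a.2) (WH b.2) (h.abelem.pow (Wp _ b.2))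
  have i3 : #Ω[p](H /ₛ Ω[p](H)) ≤ #(℧[p](H) ⊓ Ω[p](H)) := by
    rw [← relIndex_qpre_self, ← hW, relIndex, show Ω[p](H).subgroupOf W = f.ker from ?_, index_ker]
    · exact card_le (by rintro _ ⟨u, rfl⟩; exact ⟨pow_mem_Mho p (WH u.2), Wp _ u.2⟩)
    · exact Subgroup.ext fun u => ⟨fun k => h.abelem.pow k, fun k => mem_Ohm (WH u.2) k⟩
  rw [← FT.relIndex_mul (le_sup_right : ℧[p](H) ≤ Ω[p](H) ⊔ ℧[p](H)) (sup_le nV.le (Mho_le p H)), sup_comm,
    relIndex_sup_norm (nV.le.trans (Mho_nml p H).nrm), ← FT.card_mul_relIndex (inf_le_right (a := ℧[p](H))),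
    inf_relIndex_right, mul_comm, sup_comm]
  exact Nat.mul_le_mul_right _ (i2.trans i3)

theorem PCen.index (h : PCen p H) (h2 : p ≠ 2) (hH : PGrp p H) : ℧[p](H).relIndex H ≤ #Ω[p](H) :=
  pcen_index h2 _ rfl hH h

theorem isMetacyclic_of_mho (h2 : p ≠ 2) (hG : IsPGroup p G) (h : ℧[p]((⊤ : Subgroup G)).index ≤ p ^ 2) :
    IsMetacyclic G := by
  haveI := powerClosure_normal p 1 (⊤ : Subgroup G)
  obtain ⟨k, hk⟩ := hG.index ℧[p]((⊤ : Subgroup G))
  have h5 := commutator_le_of_index_dvd_sq (p := p) ℧[p]((⊤ : Subgroup G)) (by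
    rw [hk]; exact pow_dvd_pow p ((Nat.pow_le_pow_iff_right hp.out.one_lt).mp (hk ▸ h)))
  exact isMetacyclic_of_powerful h2 _ rfl hG (by rwa [frattini_eq_sup_powerClosure hG, sup_eq_right.mpr h5]) h5

theorem PCen.metacyc (h : PCen p H) (h2 : p ≠ 2) (hH : PGrp p H) (c : #Ω[p](H) ≤ p ^ 2) : Metacyc H := by
  refine isMetacyclic_of_mho h2 hH.isPGroup (le_trans ?_ ((h.index h2 hH).trans c))
  rw [relIndex, ← map_subtype_top H, ← map_Mho, map_subtype_top, so_map]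

/-- a chief factor of a group acting on a `p`-group of rank two -/
theorem chief_rank2 (h2 : p ≠ 2) {P : Subgroup G} : ∀ K : Subgroup G, PGrp p P → PRankLE p 2 P → P ≤ M → M ≤ N(P) →
    K < P → M ≤ N(K) → (∀ L, M ≤ N(L) → K ≤ L → L ≤ P → L = K ∨ L = P) → K.relIndex P ≤ p ^ 2 := by
  induction P using WellFoundedLT.induction with | ind P ih => ?_
  intro K hP hr PM MP hK MK h
  by_contra k
  have a : ∀ L, M ≤ N(L) → L ≤ P → L.relIndex P ≤ p ^ 2 → L = P := fun L n l i => by_contra fun ne => by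
    by_cases e : L ≤ K
    · exact k ((Nat.le_of_dvd (relIndex_pos _ _) (relIndex_dvd_of_le e _)).trans i)
    have s := (h (K ⊔ L) (normsY MK n) le_sup_left (sup_le hK.le l)).resolve_left fun s => e (le_sup_right.trans s.le)
    have LK := (l.trans PM).trans MK
    refine k ?_
    rw [← s, relIndex_sup_norm LK, ← inf_relIndex_right]
    refine ih L (lt_of_le_of_ne l ne) _ (hP.mono l) (pRankLE_subgroup_iff.2 fun A a => pRankLE_subgroup_iff.1 hr A
      (a.trans l)) (l.trans PM) n (inf_lt_right.2 e) (normsI MK n) fun X x1 x2 x3 => ?_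
    refine (h (K ⊔ X) (normsY MK x1) le_sup_left (sup_le hK.le (x3.trans l))).imp
      (fun e => (le_inf (le_sup_right.trans e.le) x3).antisymm x2) fun e => x3.antisymm ?_
    rw [← sup_eq_right.2 x2, inf_comm, ← inf_sup_right ((x3.trans LK)) x3, e]; exact le_inf le_rfl l
  have h1 : P ≠ ⊥ := ne_bot_of_gt hK
  have mho : ¬ ℧[p](P).relIndex P ≤ p ^ 2 := fun i =>
    (hP.Mho_le_Phi.trans_lt (Phi_lt h1)).ne (a _ (norms_Mho p MP) (Mho_le p P) i)
  have nc : ¬ Cyc P := fun c => mho (by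
    rw [c.ab.relIndex_Mho, c.card_Ohm_pGrp hP h1]; exact p_lt_sq.le)
  obtain ⟨w1, w2⟩ := Ohm1_odd_ucn2 hp.out hP (odd_of_pGrp h2 hP) nc
  have wc : ⁅Ω[p](ucn 2 P), P⁆ ≤ Z(P) := (commSS (Ohm_le _ _) le_rfl).trans (ucn_two_comm P)
  have wn := (ucn_nml 2 P).Ohm p
  have wM := norms_Ohm p (norms_ucn 2 MP)
  generalize Ω[p](ucn 2 P) = W at w1 w2 wc wn wM
  have b := a _ (normsI MP (norms_cent wM)) inf_le_left
  rw [inf_relIndex_left, inf_eq_left] at b
  have hW := hP.mono wn.le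
  by_cases ab : Ab W
  · have c := pRankLE_subgroup_iff.1 hr W wn.le ⟨ab, w2⟩
    have b := b ((relIndex_cen_le_sq hp.out hP wn c).trans p_lt_sq.le)
    have v : ∀ v ∈ P, v ^ p = 1 → v ∈ W := fun v hv e => eq_of_card_le le_sup_left ((pRankLE_subgroup_iff.1 hr _
      (sup_le wn.le (zpowers_le.2 hv)) (Abelem.sup_zpowers ⟨ab, w2⟩ (b hv) e)).trans
      (Nat.le_of_dvd (card_pos _) (Abelem.sq_dvd_card ⟨ab, w2⟩ hp.out w1))) ▸ mem_sup_right (mem_zpowers v)
    exact mho ((PCen.index (fun u hu e => centsC b (v u hu e)) h2 hP).trans ((card_le (Ohm_le_iff.2 v)).trans c))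
  · have c := card_le_cube_of_exponent' hW.isPGroup (pRankLE_subgroup_iff.2 fun A a => pRankLE_subgroup_iff.1 hr A
      (a.trans wn.le)) w2
    obtain ⟨j, hj⟩ := hW.card
    have j3 : #W = p ^ 3 := c.antisymm (by
      rw [hj]; exact Nat.pow_le_pow_right hp.out.pos (by_contra fun l => ab (hW.ab_of_card_le hp.out
        (hj ▸ Nat.pow_le_pow_right hp.out.pos (by omega)))))
    have z := (bg4_p3_center hp.out j3 ab).1
    have cp := bg4_cprod_of_center_prime hP wn.le (z.symm ▸ hp.out)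
      (le_inf (comm_le_left wn.nrm) (wc.trans (center_le_cen wn.le)))
    refine ab (ab_iff.2 (wn.le.trans (b ?_)))
    rw [← inf_relIndex_left]
    conv_lhs => arg 2; rw [← cp.sup, sup_comm]
    rw [relIndex_sup_norm (wn.le.trans (normsI (le_nrm P) (norms_cent wn.nrm))), ← inf_relIndex_left, ← inf_assoc,
      inf_eq_left.2 wn.le, (relIndex_eq_pow hp.out inf_le_left j3 (z.trans (pow_one p).symm)).2]

theorem chief_rank2_top (h2 : p ≠ 2) (hr : PRankLE p 2 G) [H.Normal] [K.Normal] (hK : K < H)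
    (hi : K.relIndex H = p ^ n) (h : ∀ L : Subgroup G, L.Normal → K ≤ L → L ≤ H → L = K ∨ L = H) :
    K.relIndex H = p ∨ K.relIndex H = p ^ 2 := by
  obtain ⟨P, hP⟩ := exists_syl p H
  have nK : ∀ X : Subgroup G, X ≤ N(K) := fun X => by rw [normalizer_eq_top]; exact le_top
  have s := hP.sup_eq_of_relIndex hK.le (hi ▸ piNat_self_pow hp.out n)
  have fr : K ⊔ N(P) = ⊤ := by
    have := (hP.frattini (nml_top_iff.2 ‹H.Normal›)).sup
    rw [top_inf_eq] at this
    rw [← this, ← s, sup_assoc, sup_eq_right.2 (le_nrm P)]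
  have := chief_rank2 (M := N(P)) h2 (K ⊓ P) hP.pi (pRankLE_subgroup hr P) (le_nrm P) le_rfl
    (inf_lt_right.2 fun e => hK.ne (by rw [← s, sup_eq_left.2 e])) (normsI (nK _) le_rfl) fun X x1 x2 x3 => by
      refine (h (K ⊔ X) (normalizer_eq_top_iff.1 (top_le_iff.1 (fr ▸ sup_le (norms_of_le le_sup_left)
        (normsY (nK _) x1)))) le_sup_left (sup_le hK.le (x3.trans hP.le))).imp
        (fun e => (le_inf (le_sup_right.trans e.le) x3).antisymm x2) fun e => x3.antisymm ?_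
      rw [← sup_eq_right.2 x2, inf_comm, ← inf_sup_right (nK _) x3, e]; exact le_inf le_rfl hP.le
  rw [inf_relIndex_right, ← relIndex_sup_norm (nK _), s, hi, Nat.pow_le_pow_iff_right hp.out.one_lt] at this
  rw [hi]
  interval_cases n
  · exact absurd (relIndex_eq_one.1 hi) hK.not_ge
  · exact Or.inl (pow_one p)
  · exact Or.inr rfl

end Cfsg.Agent.H3
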