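import Cfsg.Agent.H3.PnB
import Cfsg.Agent.H29.Pn0
import Cfsg.Agent.S2431

/-! The norm one quaternions over a finite field of odd order: Sylow `2`-subgroups and pronormality pattern. -/

set_option autoImplicit false
set_option linter.unusedSectionVars false

namespace Cfsg.Agent.H3.Pn

open Cfsg Cfsg.Agent.H17 Quaternion Subgroup
open scoped MatrixGroups

section gen
variable {G G' : Type*} [Group G] [Group G']

theorem pron_comap (f : G →* G') {H : Subgroup G} (hk : f.ker ≤ H) (h : IsPronormal (H.map f)) :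
    IsPronormal H := fun g => by
  have k : ∀ x, (cjs H x).map f = cjs (H.map f) (f x) := fun x => by
    simp only [cjs, Subgroup.map_map]; congr 1; ext; simp
  obtain ⟨x, hx, e⟩ := h (f g)
  have hx' : x ∈ (H ⊔ cjs H g).map f := by rw [Subgroup.map_sup, k]; exact hx
  clear hx
  obtain ⟨x, hx, rfl⟩ := hx'
  have kk : ∀ x, f.ker ≤ cjs H x := fun x y hy => H10.mem_map_conj.2 (hk (by
    rw [MonoidHom.mem_ker] at hy ⊢; simp [hy]))
  exact ⟨x, hx, Subgroup.map_injective_of_ker_le f (kk g) (kk x) (by rw [k, k]; exact e)⟩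

theorem z3 : ∀ a b : Multiplicative (ZMod 3), a ≠ 1 → b = 1 ∨ b = a ∨ b = a * a := by decide

theorem pat_of [Finite G] {S L : Subgroup G} (hS : H18.SylIn 2 S ⊤)
    (u : normalizer (S : Set G) →* Multiplicative (ZMod 3)) (hu : ∀ n, u n = 1 ↔ n.1 ∈ S) (hL : S ≤ L)
    (hp : IsPronormal L) {g : G} (hg : g ∈ normalizer (S : Set G)) : g ∈ L ⊔ cjs L g ∨ cjs L g = L := by
  obtain ⟨w, hw, e⟩ := hp g
  have e1 : cjs L (w⁻¹ * g) = L := by
    rw [cjs_mul, show cjs L g = cjs L w from e, ← cjs_mul, inv_mul_cancel, cjs_eq_of_mem L.one_mem]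
  have hn : w⁻¹ * g ∈ normalizer (L : Set G) :=
    H18.mem_normalizer_of_conj_mem fun x hx => e1.le ⟨x, hx, rfl⟩
  obtain ⟨h, hh, hm⟩ := (hS.mono hL le_top).frattini hn
  have hmL : h * (w⁻¹ * g) ∈ normalizer (L : Set G) := mul_mem (le_normalizer hh) hn
  by_cases z : u ⟨_, hm⟩ = 1
  · left
    have : g = w * (h⁻¹ * (h * (w⁻¹ * g))) := by group
    have k := mul_mem hw (mem_sup_left (T := cjs L g) (mul_mem (inv_mem hh) (hL ((hu _).1 z))))
    rwa [← this] at k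
  right
  have key : ∀ m : normalizer (S : Set G), m.1 ∈ normalizer (L : Set G) → u ⟨g, hg⟩ = u m → cjs L g = L := by
    intro m h1 h2
    have : (⟨g, hg⟩ * m⁻¹ : normalizer (S : Set G)).1 ∈ S := (hu _).1 (by rw [map_mul, map_inv, h2, mul_inv_cancel])
    have k := mul_mem (le_normalizer (hL this)) h1
    simp only [Subgroup.coe_mul, Subgroup.coe_inv, inv_mul_cancel_right] at k
    exact cjs_eq_of_conj_mem fun x hx => (mem_normalizer_iff.1 k x).1 hx
  rcases z3 _ (u ⟨g, hg⟩) z with y | y | y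
  · exact key 1 (one_mem _) (by rw [y, map_one])
  · exact key _ hmL y
  · exact key (⟨_, hm⟩ * ⟨_, hm⟩) (mul_mem hmL hmL) (by rw [y, map_mul])

theorem comm_of {S : Subgroup G} (u : normalizer (S : Set G) →* Multiplicative (ZMod 3))
    (hu : ∀ n, u n = 1 ↔ n.1 ∈ S) {a b : G} (ha : a ∈ normalizer (S : Set G)) (hb : b ∈ normalizer (S : Set G)) :
    a * b * a⁻¹ * b⁻¹ ∈ S :=
  (hu (⟨a, ha⟩ * ⟨b, hb⟩ * ⟨a, ha⟩⁻¹ * ⟨b, hb⟩⁻¹)).1 (by
    simp only [map_mul, map_inv]; rw [mul_comm (u ⟨a, ha⟩)]; group)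

theorem exists_u3 [Finite G] {S : Subgroup G} (h : Nat.card (normalizer (S : Set G)) = 3 * Nat.card S) :
    ∃ u : normalizer (S : Set G) →* Multiplicative (ZMod 3), ∀ n, u n = 1 ↔ n.1 ∈ S := by
  haveI : Fact (Nat.Prime 3) := ⟨Nat.prime_three⟩
  have c : Nat.card (normalizer (S : Set G) ⧸ S.subgroupOf (normalizer (S : Set G))) = 3 := by
    have := (S.subgroupOf (normalizer (S : Set G))).index_mul_card
    rw [h, Nat.card_congr (subgroupOfEquivOfLe (le_normalizer (H := S))).toEquiv] at this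
    exact Nat.eq_of_mul_eq_mul_right Nat.card_pos this
  let i := mulEquivOfPrimeCardEq (G' := Multiplicative (ZMod 3)) c (by simp)
  exact ⟨i.toMonoidHom.comp (QuotientGroup.mk' _), fun n => by
    simp [QuotientGroup.eq_one_iff, mem_subgroupOf]⟩

end gen

variable {F : Type*} [Field F] [Fintype F]

theorem odd_card (h2 : (2 : F) ≠ 0) : Odd (Fintype.card F) :=
  Nat.odd_iff.2 (FiniteField.odd_card_of_char_ne_two fun h => h2 (by
    have := ringChar.Nat.cast_ringChar (R := F)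
    rwa [h, Nat.cast_ofNat] at this))

theorem finU (e : SL(2, F) ≃* unitary ℍ[F]) : Finite (unitary ℍ[F]) := Finite.of_equiv _ e.toEquiv

section

variable {U : Type*} [Group U] [Finite U] (h2 : (2 : F) ≠ 0) (e : SL(2, F) ≃* U) {S : Subgroup U}
  (hS : H18.SylIn 2 S ⊤)
include h2 e hS

theorem norm_U : ((Fintype.card F % 8 = 1 ∨ Fintype.card F % 8 = 7) → normalizer (S : Set U) = S) ∧
    ((Fintype.card F % 8 = 3 ∨ Fintype.card F % 8 = 5) → Nat.card (normalizer (S : Set U)) = 3 * Nat.card S) := by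
  have h1 := hS.map e.symm.toMonoidHom
  rw [map_top_of_surjective _ e.symm.surjective] at h1
  obtain ⟨T, hT⟩ := H18.sylIn_top_iff.1 h1
  obtain ⟨-, h3, h4⟩ := S2431.result (odd_card h2) T
  rw [show Nat.card T = Nat.card (T : Subgroup SL(2, F)) from rfl] at h4
  rw [hT, ← map_equiv_normalizer_eq] at h3 h4
  rw [card_map_of_injective e.symm.injective, card_map_of_injective e.symm.injective] at h4
  exact ⟨fun h => map_injective e.symm.injective (h3 h), h4⟩

theorem exists_u : ∃ u : normalizer (S : Set U) →* Multiplicative (ZMod 3), (∀ n, u n = 1 ↔ n.1 ∈ S) ∧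
    ((Fintype.card F % 8 = 1 ∨ Fintype.card F % 8 = 7) → ∀ n, u n = 1) := by
  obtain ⟨h3, h4⟩ := norm_U h2 e hS
  by_cases z : Fintype.card F % 8 = 1 ∨ Fintype.card F % 8 = 7
  · exact ⟨1, fun n => iff_of_true rfl ((h3 z).le n.2), fun _ _ => rfl⟩
  · have := Nat.odd_iff.1 (odd_card h2)
    obtain ⟨u, hu⟩ := exists_u3 (h4 (by omega))
    exact ⟨u, hu, fun y => absurd y z⟩

theorem pron_U {L : Subgroup U} (hL : S ≤ L) : IsPronormal L := by
  let f : U →* PSL(2, F) := (QuotientGroup.mk' _).comp e.symm.toMonoidHom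
  have hf : Function.Surjective f := (QuotientGroup.mk'_surjective _).comp e.symm.surjective
  have hk : f.ker ≤ L := fun y hy => hL (by
    have h1 : e.symm y ∈ center SL(2, F) := (QuotientGroup.eq_one_iff _).1 hy
    have h3 : e.symm y ^ 2 = 1 := by
      obtain ⟨r, hr, k⟩ := Matrix.SpecialLinearGroup.mem_center_iff.1 h1
      refine Subtype.ext ?_
      rw [Matrix.SpecialLinearGroup.coe_pow, ← k, ← map_pow]
      simp only [Fintype.card_fin] at hr
      rw [hr, map_one]; rfl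
    refine mem_of_pEl_normalizer hS trivial ⟨1, e.symm.injective (by rw [map_pow, pow_one, h3, map_one])⟩
      (center_le_normalizer _ (mem_center_iff.2 fun g => e.symm.injective ?_))
    rw [map_mul, map_mul, mem_center_iff.1 h1])
  refine pron_comap f hk (allPron_psl2 h2 _ ?_)
  rw [index_map_eq _ hf hk, ← Nat.not_even_iff_odd, even_iff_two_dvd]
  exact fun z => hS.not_dvd_relIndex (by rw [relIndex_top_right]; exact z.trans (index_dvd_of_le hL))

/-- the pattern -/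
theorem pat_U : ∀ L, S ≤ L → ∀ n ∈ normalizer (S : Set U), n ∈ L ⊔ cjs L n ∨ cjs L n = L := fun _ hL _ hn =>
  have ⟨u, hu, _⟩ := exists_u h2 e hS
  pat_of hS u hu hL (pron_U h2 e hS hL) hn

/-- commutators of the normalizer -/
theorem comm_U : ∀ a ∈ normalizer (S : Set U), ∀ b ∈ normalizer (S : Set U), a * b * a⁻¹ * b⁻¹ ∈ S := fun _ ha _ hb =>
  have ⟨u, hu, _⟩ := exists_u h2 e hS
  comm_of u hu ha hb

theorem card_le_eight (h : Fintype.card F % 8 = 3 ∨ Fintype.card F % 8 = 5) : Nat.card S ≤ 8 := by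
  obtain ⟨n, hn⟩ := IsPGroup.iff_card.1 hS.isP
  have d := S.card_subgroup_dvd_card
  rw [← Nat.card_congr e.toEquiv, H10.card_SL_two, hn] at d
  by_contra z
  have : 4 ≤ n := by
    by_contra y
    have : 2 ^ n ≤ 2 ^ 3 := Nat.pow_le_pow_right two_pos (by omega)
    omega
  have d' : 16 ∣ _ := (pow_dvd_pow 2 this).trans d
  generalize Fintype.card F = q at h d'
  obtain ⟨k, rfl⟩ : ∃ k, q = k + 1 := ⟨q - 1, by omega⟩
  rw [Nat.add_sub_cancel, Nat.dvd_iff_mod_eq_zero, Nat.mul_mod, Nat.mul_mod (k + 1), Nat.add_mod k,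
    Nat.add_mod (k + 1), Nat.add_mod k] at d'
  have : k % 16 = 2 ∨ k % 16 = 4 ∨ k % 16 = 10 ∨ k % 16 = 12 := by omega
  rcases this with y | y | y | y <;> rw [y] at d' <;> norm_num at d'

end

/-- `i` -/
def qi (F : Type*) [Field F] : ℍ[F] := ⟨0, 1, 0, 0⟩
/-- `j` -/
def qj (F : Type*) [Field F] : ℍ[F] := ⟨0, 0, 1, 0⟩
/-- `k` -/
def qk (F : Type*) [Field F] : ℍ[F] := ⟨0, 0, 0, 1⟩

@[simp] theorem qi_re : (qi F).re = 0 := rfl
@[simp] theorem qi_i : (qi F).imI = 1 := rfl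
@[simp] theorem qi_j : (qi F).imJ = 0 := rfl
@[simp] theorem qi_k : (qi F).imK = 0 := rfl
@[simp] theorem qj_re : (qj F).re = 0 := rfl
@[simp] theorem qj_i : (qj F).imI = 0 := rfl
@[simp] theorem qj_j : (qj F).imJ = 1 := rfl
@[simp] theorem qj_k : (qj F).imK = 0 := rfl
@[simp] theorem qk_re : (qk F).re = 0 := rfl
@[simp] theorem qk_i : (qk F).imI = 0 := rfl
@[simp] theorem qk_j : (qk F).imJ = 0 := rfl
@[simp] theorem qk_k : (qk F).imK = 1 := rfl

theorem qii : qi F * qi F = -1 := by ext <;> simp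
theorem qij : qi F * qj F = qk F := by ext <;> simp
theorem qik : qi F * qk F = -qj F := by ext <;> simp
theorem qji : qj F * qi F = -qk F := by ext <;> simp
theorem qjj : qj F * qj F = -1 := by ext <;> simp
theorem qjk : qj F * qk F = qi F := by ext <;> simp
theorem qki : qk F * qi F = qj F := by ext <;> simp
theorem qkj : qk F * qj F = -qi F := by ext <;> simp
theorem qkk : qk F * qk F = -1 := by ext <;> simp
theorem qsi : star (qi F) = -qi F := by ext <;> simp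
theorem qsj : star (qj F) = -qj F := by ext <;> simp
theorem qsk : star (qk F) = -qk F := by ext <;> simp

/-- the eight Lipschitz units -/
def T8 (F : Type*) [Field F] : Set ℍ[F] := {1, -1, qi F, -qi F, qj F, -qj F, qk F, -qk F}

theorem T8_mul {x y : ℍ[F]} (hx : x ∈ T8 F) (hy : y ∈ T8 F) : x * y ∈ T8 F := by
  simp only [T8, Set.mem_insert_iff, Set.mem_singleton_iff] at hx hy ⊢
  rcases hx with rfl | rfl | rfl | rfl | rfl | rfl | rfl | rfl <;>
    rcases hy with rfl | rfl | rfl | rfl | rfl | rfl | rfl | rfl <;>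
      simp only [one_mul, mul_one, mul_neg, neg_mul, neg_neg, qii, qij, qik, qji, qjj, qjk, qki, qkj, qkk, true_or,
        or_true]

theorem T8_star {x : ℍ[F]} (hx : x ∈ T8 F) : star x ∈ T8 F := by
  simp only [T8, Set.mem_insert_iff, Set.mem_singleton_iff] at hx ⊢
  rcases hx with rfl | rfl | rfl | rfl | rfl | rfl | rfl | rfl <;>
    simp only [star_one, star_neg, neg_neg, qsi, qsj, qsk, true_or, or_true]

theorem T8_unit {x : ℍ[F]} (hx : x ∈ T8 F) : x ∈ unitary ℍ[F] := by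
  simp only [T8, Set.mem_insert_iff, Set.mem_singleton_iff] at hx
  rw [Unitary.mem_iff]
  rcases hx with rfl | rfl | rfl | rfl | rfl | rfl | rfl | rfl <;>
    simp only [star_one, star_neg, neg_neg, qsi, qsj, qsk, mul_one, mul_neg, neg_mul, qii, qjj, qkk, and_self]

theorem T8_pow {x : ℍ[F]} (hx : x ∈ T8 F) : x ^ 4 = 1 := by
  simp only [T8, Set.mem_insert_iff, Set.mem_singleton_iff] at hx
  rw [show 4 = 2 * 2 from rfl, pow_mul, sq, sq]
  rcases hx with rfl | rfl | rfl | rfl | rfl | rfl | rfl | rfl <;>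
    simp only [neg_neg, mul_one, mul_neg, neg_mul, qii, qjj, qkk]

/-- the quaternion group -/
def Q8 (F : Type*) [Field F] [Fintype F] : Subgroup (unitary ℍ[F]) where
  carrier := {y | (y : ℍ[F]) ∈ T8 F}
  mul_mem' hx hy := T8_mul hx hy
  one_mem' := Or.inl rfl
  inv_mem' hx := T8_star hx

theorem Q8_p : IsPGroup 2 (Q8 F) := fun y => ⟨2, Subtype.ext (Subtype.ext (T8_pow y.2))⟩

/-- enumeration -/
def v8 (F : Type*) [Field F] : Fin 8 → ℍ[F] :=
  ![1, -1, qi F, -qi F, qj F, -qj F, qk F, -qk F]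

theorem v8_mem (n : Fin 8) : v8 F n ∈ T8 F := by
  fin_cases n <;> simp [v8, T8]

theorem v8_inj (h2 : (2 : F) ≠ 0) : Function.Injective (v8 F) := by
  have h : (1 : F) ≠ -1 := fun h => h2 (by linear_combination h)
  have h' := h.symm
  intro m n k
  fin_cases m <;> fin_cases n <;> first | rfl | (exfalso; simp [v8, Quaternion.ext_iff, h, h'] at k)

theorem eight_le (h2 : (2 : F) ≠ 0) : 8 ≤ Nat.card (Q8 F) := by
  obtain ⟨e⟩ := B2 h2
  haveI := finU e
  have := Nat.card_le_card_of_injective (fun n : Fin 8 => (⟨⟨v8 F n, T8_unit (v8_mem n)⟩, v8_mem n⟩ : Q8 F))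
    fun m n k => v8_inj h2 (congrArg (fun y : Q8 F => (y.1 : ℍ[F])) k)
  simpa using this

/-- part (C) without the packaging of the pattern -/
theorem partC (h2 : (2 : F) ≠ 0) :
    ∃ (Q : Subgroup (unitary ℍ[F])) (u : normalizer (Q : Set (unitary ℍ[F])) →* Multiplicative (ZMod 3)),
      H18.SylIn 2 Q ⊤ ∧ (∀ n, u n = 1 ↔ n.1 ∈ Q) ∧ (∃ x ∈ Q, (x : ℍ[F]) * x = -1) ∧
      ((∀ n, u n = 1) ∨ (¬ IsSquare (2 : F) ∧ ∀ y : unitary ℍ[F], y ∈ Q ↔ (y : ℍ[F]) ∈
        ({1, -1, ⟨0, 1, 0, 0⟩, -⟨0, 1, 0, 0⟩, ⟨0, 0, 1, 0⟩, -⟨0, 0, 1, 0⟩, ⟨0, 0, 0, 1⟩, -⟨0, 0, 0, 1⟩} :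
          Set ℍ[F]))) := by
  obtain ⟨e⟩ := B2 h2
  haveI := finU e
  obtain ⟨Q, hQ, hle⟩ := H18.exists_sylIn_ge (Q8_p (F := F)) le_top
  obtain ⟨u, hu, h1⟩ := exists_u h2 e hQ
  refine ⟨Q, u, hQ, hu, ⟨⟨v8 F 2, T8_unit (v8_mem 2)⟩, hle (v8_mem 2), qii⟩, ?_⟩
  by_cases z : Fintype.card F % 8 = 1 ∨ Fintype.card F % 8 = 7
  · exact .inl (h1 z)
  have := Nat.odd_iff.1 (odd_card h2)
  have z' : Fintype.card F % 8 = 3 ∨ Fintype.card F % 8 = 5 := by omega
  refine .inr ⟨fun y => by have := FiniteField.isSquare_two_iff.1 y; omega, fun y => ?_⟩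
  rw [← eq_of_le_of_card_ge hle ((card_le_eight h2 e hQ z').trans (eight_le h2))]
  rfl

theorem pp_U {U : Type*} [Group U] [Finite U] (h2 : (2 : F) ≠ 0) (e : SL(2, F) ≃* U) : H29.Pn.PP U :=
  fun _ hS => ⟨comm_U h2 e hS, fun L hL n hn _ => pat_U h2 e hS L hL n hn⟩

/-- part (C), verbatim -/
theorem C {F : Type*} [Field F] [Finite F] (h2 : (2 : F) ≠ 0) :
    ∃ (Q : Subgroup (unitary ℍ[F])) (u : normalizer (Q : Set (unitary ℍ[F])) →* Multiplicative (ZMod 3)),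
      H18.SylIn 2 Q ⊤ ∧ (∀ n, u n = 1 ↔ n.1 ∈ Q) ∧ H29.Pn.PP (unitary ℍ[F]) ∧ (∃ x ∈ Q, (x : ℍ[F]) * x = -1) ∧
      ((∀ n, u n = 1) ∨ (¬ IsSquare (2 : F) ∧ ∀ y : unitary ℍ[F], y ∈ Q ↔ (y : ℍ[F]) ∈
        ({1, -1, ⟨0, 1, 0, 0⟩, -⟨0, 1, 0, 0⟩, ⟨0, 0, 1, 0⟩, -⟨0, 0, 1, 0⟩, ⟨0, 0, 0, 1⟩, -⟨0, 0, 0, 1⟩} :
          Set ℍ[F]))) := by
  letI := Fintype.ofFinite F
  obtain ⟨e⟩ := B2 h2
  haveI := finU e
  obtain ⟨Q, u, h1, h3, h4, h5⟩ := partC h2
  exact ⟨Q, u, h1, h3, pp_U h2 e, h4, h5⟩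

end Cfsg.Agent.H3.Pn
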