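import Mathlib
import Cfsg.Agent.H19.Conj

/-! Unipotent subgroups of the unit group of a finite dimensional algebra; Baer's theorem. -/

set_option autoImplicit false
set_option linter.unusedSectionVars false
set_option linter.style.haveILetI false

namespace Cfsg.Agent.H3.Qd

open Cfsg.Agent.H19
open scoped Pointwise commutatorElement

section Alg

variable {A : Type*} [Ring A]

/-- `1 + x` lies in `H` -/
def In (H : Subgroup Aˣ) (x : A) : Prop := ∃ g ∈ H, (g : A) = 1 + x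

variable {H K : Subgroup Aˣ} {x y : A}

theorem In.of_mem {g : Aˣ} (h : g ∈ H) : In H ((g : A) - 1) := ⟨g, h, by abel⟩
theorem In.zero : In H 0 := ⟨1, one_mem _, by simp⟩
theorem In.mono (h : In H x) (hle : H ≤ K) : In K x := let ⟨g, hg, e⟩ := h; ⟨g, hle hg, e⟩
theorem In.mul (h : In H x) (h' : In H y) : In H (x + y + x * y) := by
  obtain ⟨g, hg, e⟩ := h
  obtain ⟨g', hg', e'⟩ := h'
  exact ⟨g * g', mul_mem hg hg', by rw [Units.val_mul, e, e']; noncomm_ring⟩
theorem In.add (h : In H x) (h' : In H y) (e : x * y = 0) : In H (x + y) := by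
  simpa [e] using h.mul h'
theorem In.inv (h : In H x) (e : x + y + x * y = 0) : In H y := by
  obtain ⟨g, hg, e'⟩ := h
  refine ⟨g⁻¹, inv_mem hg, Units.inv_eq_of_mul_eq_one_right ?_⟩
  rw [e']; linear_combination (norm := noncomm_ring) e
theorem In.conj (h : In H x) {g : Aˣ} (hg : g ∈ H) : In H (g * x * ↑g⁻¹) := by
  obtain ⟨a, ha, e⟩ := h
  exact ⟨g * a * g⁻¹, mul_mem (mul_mem hg ha) (inv_mem hg), by simp [e, mul_add, add_mul]⟩
theorem In.tocj (h : In H x) (g : Aˣ) : In (cj g H) (g * x * ↑g⁻¹) := by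
  obtain ⟨a, ha, e⟩ := h
  exact ⟨g * a * g⁻¹, conj_mem_cj g ha, by simp [e, mul_add, add_mul]⟩
theorem In.congr (h : In H x) (e : x = y) : In H y := e ▸ h

variable (k : Type*) [Field k] [Algebra k A]

/-- the span of the elements `g - 1` -/
def sp (H : Subgroup Aˣ) : Submodule k A := Submodule.span k {x | In H x}

/-- `H` is unipotent -/
def Un (H : Subgroup Aˣ) : Prop := ∃ n : ℕ, sp k H ^ n = ⊥

variable {k}

theorem In.mem_sp (h : In H x) : x ∈ sp k H := Submodule.subset_span h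

theorem sp_le_iff {N : Submodule k A} : sp k H ≤ N ↔ ∀ g ∈ H, (g : A) - 1 ∈ N := by
  rw [sp, Submodule.span_le]
  exact ⟨fun h g hg => h (In.of_mem hg), fun h x ⟨g, hg, e⟩ => by simpa [e] using h g hg⟩

theorem sp_mono (h : H ≤ K) : sp k H ≤ sp k K := sp_le_iff.2 fun _ hg => (In.of_mem (h hg)).mem_sp

theorem sp_mul_le (H : Subgroup Aˣ) : sp k H * sp k H ≤ sp k H := by
  rw [sp, Submodule.span_mul_span, Submodule.span_le]
  rintro _ ⟨x, hx, y, hy, rfl⟩
  have := sub_mem (sub_mem (In.mem_sp (k := k) (In.mul hx hy)) (In.mem_sp hx)) (In.mem_sp hy)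
  rwa [show x + y + x * y - x - y = x * y by abel] at this

theorem sp_iSup_le {ι : Sort*} {B : ι → Subgroup Aˣ} {N : Submodule k A} (hN : N * N ≤ N)
    (h : ∀ i, sp k (B i) ≤ N) : sp k (⨆ i, B i) ≤ N := by
  refine sp_le_iff.2 fun g hg => ?_
  refine Subgroup.iSup_induction B (C := fun g => (g : A) - 1 ∈ N) hg
    (fun i x hx => sp_le_iff.1 (h i) x hx) (by simp) fun x y hx hy => ?_
  have := add_mem (add_mem hx hy) (hN (Submodule.mul_mem_mul hx hy))
  rwa [show (x : A) - 1 + (y - 1) + (x - 1) * (y - 1) = (x * y : Aˣ) - 1 by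
    rw [Units.val_mul]; noncomm_ring] at this

theorem sp_biSup_le {W : Set (Subgroup Aˣ)} {N : Submodule k A} (hN : N * N ≤ N)
    (h : ∀ B ∈ W, sp k B ≤ N) : sp k (⨆ B ∈ W, B) ≤ N :=
  sp_iSup_le hN fun B => sp_iSup_le hN (h B)

theorem sp_sup_le {N : Submodule k A} (hN : N * N ≤ N) (h1 : sp k H ≤ N) (h2 : sp k K ≤ N) :
    sp k (H ⊔ K) ≤ N := by
  rw [sup_eq_iSup]
  exact sp_iSup_le hN fun b => by cases b <;> assumption

theorem Un.of_le (h : Un k H) (hle : sp k K ≤ sp k H) : Un k K :=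
  let ⟨n, e⟩ := h; ⟨n, eq_bot_iff.2 (e ▸ pow_le_pow_left' hle n)⟩

theorem Un.mono (h : Un k H) (hle : K ≤ H) : Un k K := h.of_le (sp_mono hle)

theorem Un.bot : Un k (⊥ : Subgroup Aˣ) := ⟨1, by
  rw [pow_one, eq_bot_iff, sp_le_iff]; intro g hg; simp [Subgroup.mem_bot.1 hg]⟩

theorem conj_mem_sp (g : Aˣ) (h : x ∈ sp k H) : g * x * ↑g⁻¹ ∈ sp k (cj g H) := by
  induction h using Submodule.span_induction with
  | mem x hx => exact (In.tocj hx g).mem_sp
  | zero => simp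
  | add x y _ _ h1 h2 => rw [mul_add, add_mul]; exact add_mem h1 h2
  | smul c x _ h1 => rw [mul_smul_comm, smul_mul_assoc]; exact Submodule.smul_mem _ c h1

theorem Un.tocj (h : Un k H) (g : Aˣ) : Un k (cj g H) := by
  obtain ⟨n, e⟩ := h
  have : ∀ m : ℕ, ∀ x ∈ sp k (cj g H) ^ m, (↑g⁻¹ * x * g : A) ∈ sp k H ^ m := by
    intro m x hx
    induction hx using Submodule.pow_induction_on_left' with
    | algebraMap r =>
      rw [Algebra.algebraMap_eq_smul_one, mul_smul_comm, smul_mul_assoc, mul_one, Units.inv_mul]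
      exact Submodule.smul_mem _ r (Submodule.one_le.1 (pow_zero (sp k H)).ge)
    | add x y i _ _ h1 h2 => rw [mul_add, add_mul]; exact add_mem h1 h2
    | mem_mul a ha i x _ h1 =>
      have h2 := conj_mem_sp g⁻¹ ha
      rw [cj_cj, inv_mul_cancel, cj_one, inv_inv] at h2
      rw [pow_succ']
      simpa [mul_assoc] using Submodule.mul_mem_mul h2 h1
  refine ⟨n, eq_bot_iff.2 fun x hx => ?_⟩
  have h1 := this n x hx
  rw [e, Submodule.mem_bot] at h1
  simpa using h1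

theorem Un.sup_norm {D V : Subgroup Aˣ} (hD : Un k D) (hV : Un k V) (h : ∀ v ∈ V, cj v D = D) :
    Un k (D ⊔ V) := by
  obtain ⟨n, hn⟩ := hD
  obtain ⟨m, hm⟩ := hV
  let R : Submodule k A := Submodule.span k {x | ∃ v ∈ V, (v : A) = x}
  have r1 : (1 : Submodule k A) ≤ R := Submodule.one_le.2 (Submodule.subset_span ⟨1, one_mem _, rfl⟩)
  have r2 : R * R ≤ R := by
    rw [Submodule.span_mul_span, Submodule.span_le]
    rintro _ ⟨_, ⟨v, hv, rfl⟩, _, ⟨w, hw, rfl⟩, rfl⟩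
    exact Submodule.subset_span ⟨v * w, mul_mem hv hw, rfl⟩
  have r3 : sp k V ≤ R := sp_le_iff.2 fun v hv =>
    sub_mem (Submodule.subset_span ⟨v, hv, rfl⟩) (Submodule.one_le.1 r1)
  have r4 : R * sp k D ≤ sp k D * R := by
    refine Submodule.mul_le.2 fun a ha b hb => ?_
    induction ha using Submodule.span_induction with
    | mem x hx =>
      obtain ⟨v, hv, rfl⟩ := hx
      have h1 := conj_mem_sp v hb
      rw [h v hv] at h1
      have h2 := Submodule.mul_mem_mul h1 (Submodule.subset_span ⟨v, hv, rfl⟩ : (v : A) ∈ R)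
      rwa [Units.inv_mul_cancel_right] at h2
    | zero => simp
    | add x y _ _ h1 h2 => rw [add_mul]; exact add_mem h1 h2
    | smul c x _ h1 => rw [smul_mul_assoc]; exact Submodule.smul_mem _ c h1
  obtain ⟨J, hJ⟩ : ∃ J, J = sp k D * R := ⟨_, rfl⟩
  have j1 : J * R ≤ J := by rw [hJ, mul_assoc]; exact mul_le_mul_right r2 _
  have j2 : R * J ≤ J := by
    rw [hJ, ← mul_assoc]; exact (mul_le_mul_left r4 _).trans (hJ ▸ j1)
  have j3 : ∀ i : ℕ, J ^ i ≤ sp k D ^ i * R := fun i => by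
    induction i with
    | zero => simpa using r1
    | succ i ih =>
      rw [pow_succ, pow_succ, mul_assoc, ← hJ]
      exact (mul_le_mul_left ih _).trans (by rw [mul_assoc]; exact mul_le_mul_right j2 _)
  have j4 : J * J ≤ J := by
    nth_rw 1 [hJ]
    rw [mul_assoc]
    refine (mul_le_mul_right j2 _).trans ?_
    rw [hJ, ← mul_assoc]
    exact mul_le_mul_left (sp_mul_le D) _
  have s1 : sp k (D ⊔ V) ≤ J ⊔ sp k V := sp_le_iff.2 fun g hg => by
    obtain ⟨d, hd, v, hv, rfl⟩ := mem_sup_of_norm h hg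
    rw [show ((d * v : Aˣ) : A) - 1 = (d - 1) * v + (v - 1) by rw [Units.val_mul]; noncomm_ring]
    exact Submodule.add_mem_sup (hJ ▸ Submodule.mul_mem_mul (In.of_mem hd).mem_sp
      (Submodule.subset_span ⟨v, hv, rfl⟩)) (In.of_mem hv).mem_sp
  have s2 : ∀ i : ℕ, (J ⊔ sp k V) ^ i ≤ J ⊔ sp k V ^ i := fun i => by
    induction i with
    | zero => simp
    | succ i ih =>
      have : sp k V ^ i ≤ R := by
        clear ih
        induction i with
        | zero => simpa using r1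
        | succ i ih => rw [pow_succ]; exact (mul_le_mul' ih r3).trans r2
      rw [pow_succ, pow_succ]
      refine (mul_le_mul_left ih _).trans ?_
      rw [Submodule.sup_mul, Submodule.mul_sup, Submodule.mul_sup]
      exact sup_le (sup_le (j4.trans le_sup_left) (((mul_le_mul_right r3 _).trans j1).trans le_sup_left))
        (sup_le (((mul_le_mul_left this _).trans j2).trans le_sup_left) le_sup_right)
  refine ⟨m * n, eq_bot_iff.2 ?_⟩
  have s3 : sp k (D ⊔ V) ^ m ≤ J := (pow_le_pow_left' s1 m).trans (by simpa [hm] using s2 m)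
  rw [pow_mul]
  exact (pow_le_pow_left' s3 n).trans (by simpa [hn] using j3 n)

section Baer

variable {G : Subgroup Aˣ} {W : Set (Subgroup Aˣ)} (hWG : ∀ B ∈ W, B ≤ G)
  (hW : ∀ B ∈ W, ∀ g ∈ G, cj g B ∈ W)

variable (k) in
/-- the join of the members of `W` inside `1 + N` -/
def LL (W : Set (Subgroup Aˣ)) (N : Submodule k A) : Subgroup Aˣ := ⨆ B ∈ {B ∈ W | sp k B ≤ N}, B

theorem le_LL {N : Submodule k A} {B : Subgroup Aˣ} (h : B ∈ W) (h' : sp k B ≤ N) : B ≤ LL k W N :=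
  le_iSup₂_of_le (f := fun (B : Subgroup Aˣ) (_ : B ∈ {B ∈ W | sp k B ≤ N}) => B) B ⟨h, h'⟩ le_rfl

theorem sp_LL {N : Submodule k A} (hN : N * N ≤ N) : sp k (LL k W N) ≤ N :=
  sp_biSup_le hN fun _ h => h.2

include hWG hW

theorem chain {D N : Submodule k A} (hD : D * D ≤ D) (hDN : D ≤ N) (n : ℕ) (hn : N ^ n = ⊥)
    (hN : N * N ≤ N) {B : Subgroup Aˣ} (hB : B ∈ W) (h1 : sp k B ≤ N) (h2 : ¬ sp k B ≤ D) :
    ∃ B' ∈ W, sp k B' ≤ N ∧ ¬ sp k B' ≤ D ∧ ∀ g ∈ B', cj g (LL k W D) = LL k W D := by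
  classical
  have hex : ∃ m : ℕ, ∀ C ∈ W, sp k C ≤ D ⊔ N ^ (m + 1) → sp k C ≤ D :=
    ⟨n, fun C _ h => by simpa [pow_succ, hn] using h⟩
  have hm := Nat.find_spec hex
  obtain ⟨m, e⟩ : ∃ m, Nat.find hex = m + 1 := Nat.exists_eq_succ_of_ne_zero fun e =>
    h2 (hm B hB (by rw [e, zero_add, pow_one]; exact h1.trans le_sup_right))
  have hm' := Nat.find_min hex (m := m) (by omega)
  push Not at hm'
  obtain ⟨C, hC, h3, h4⟩ := hm'
  rw [e] at hm
  have hp : ∀ i : ℕ, N ^ (i + 1) ≤ N := fun i => by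
    induction i with
    | zero => simp
    | succ i ih => rw [pow_succ]; exact (mul_le_mul_left ih _).trans hN
  have key : ∀ g ∈ C, cj g (LL k W D) ≤ LL k W D := fun g hg => by
    rw [LL, cj_iSup]
    refine iSup_le fun E => ?_
    rw [cj_iSup]
    refine iSup_le fun hE => le_LL (hW E hE.1 g (hWG C hC hg)) (hm _ (hW E hE.1 g (hWG C hC hg)) ?_)
    have a1 : (D ⊔ N ^ (m + 1)) * D ≤ D ⊔ N ^ (m + 1 + 1) := by
      rw [Submodule.sup_mul, pow_succ N (m + 1)]
      exact sup_le_sup hD (mul_le_mul_right hDN _)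
    have a2 : (D ⊔ N ^ (m + 1 + 1)) * (D ⊔ N ^ (m + 1)) ≤ D ⊔ N ^ (m + 1 + 1) := by
      rw [Submodule.sup_mul, Submodule.mul_sup]
      refine sup_le (sup_le_sup hD ?_) (le_sup_of_le_right ?_)
      · rw [pow_succ' N (m + 1)]; exact mul_le_mul_left hDN _
      · refine (mul_le_mul_right (sup_le hDN (hp m)) _).trans ?_
        rw [pow_succ N (m + 1), mul_assoc]
        exact mul_le_mul_right hN _
    refine sp_le_iff.2 fun x hx => ?_
    obtain ⟨a, ha, rfl⟩ := exists_of_mem_cj hx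
    have b1 := sp_le_iff.1 hE.2 a ha
    have b2 : (g : A) * (a - 1) ∈ D ⊔ N ^ (m + 1 + 1) := by
      rw [show (g : A) * (a - 1) = (a - 1) + (g - 1) * (a - 1) by noncomm_ring]
      exact add_mem (Submodule.mem_sup_left b1) (a1 (Submodule.mul_mem_mul (sp_le_iff.1 h3 g hg) b1))
    have b3 := add_mem b2 (a2 (Submodule.mul_mem_mul b2 (sp_le_iff.1 h3 g⁻¹ (inv_mem hg))))
    rwa [show (g : A) * (a - 1) + g * (a - 1) * ((g⁻¹ : Aˣ) - 1) = (g * a * g⁻¹ : Aˣ) - 1 by
      simp [mul_sub, sub_mul]] at b3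
  refine ⟨C, hC, h3.trans (sup_le hDN (hp m)), h4, fun g hg => le_antisymm (key g hg) ?_⟩
  have := cj_mono g (key g⁻¹ (inv_mem hg))
  rwa [cj_cj, mul_inv_cancel, cj_one] at this

theorem baer_aux [FiniteDimensional k A] (hWW : ∀ B ∈ W, ∀ C ∈ W, Un k (B ⊔ C)) (n : ℕ) :
    ∀ D : Subgroup Aˣ, Module.finrank k A - Module.finrank k (sp k D) = n → Un k D →
      D ≤ LL k W (sp k D) → Un k (⨆ B ∈ {B ∈ W | Un k (D ⊔ B)}, B) := by
  induction n using Nat.strong_induction_on with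
  | _ n ih =>
  intro D hn hD hDL
  set D' := LL k W (sp k D) with hD'
  have h1 : sp k D' ≤ sp k D := sp_LL (sp_mul_le D)
  have uD' : Un k D' := hD.of_le h1
  let P : Subgroup Aˣ → Prop := fun B => B ∈ W ∧ ¬ sp k B ≤ sp k D ∧ ∀ g ∈ B, cj g D' = D'
  let T : Subgroup Aˣ → Subgroup Aˣ := fun D => ⨆ B ∈ {B ∈ W | Un k (D ⊔ B)}, B
  have leT : ∀ {D B}, B ∈ W → Un k (D ⊔ B) → B ≤ T D := fun {D B} h h' =>
    le_iSup₂_of_le (f := fun (B : Subgroup Aˣ) (_ : B ∈ {B ∈ W | Un k (D ⊔ B)}) => B) B ⟨h, h'⟩ le_rfl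
  have p1 : ∀ B C, P B → P C → Un k (D' ⊔ B ⊔ C) := fun B C hB hC => by
    rw [sup_assoc]
    exact uD'.sup_norm (hWW B hB.1 C hC.1) fun v hv => cj_eq_self_of_mem_sup hB.2.2 hC.2.2 hv
  have p2 : ∀ B, P B → Un k (T (D' ⊔ B)) := fun B hB => by
    refine ih _ ?_ _ rfl ((p1 B B hB hB).mono le_sup_left) (sup_le ?_ (le_LL hB.1 (sp_mono le_sup_right)))
    · have : sp k D < sp k (D' ⊔ B) := lt_of_le_of_ne (sp_mono (hDL.trans le_sup_left))
        fun e => hB.2.1 (e ▸ sp_mono le_sup_right)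
      have := Submodule.finrank_lt_finrank_of_lt this
      have := Submodule.finrank_le (sp k (D' ⊔ B))
      omega
    · exact iSup₂_le fun E hE => le_LL hE.1 (hE.2.trans (sp_mono (hDL.trans le_sup_left)))
  have p3 : ∀ B, P B → D' ≤ T (D' ⊔ B) := fun B hB => iSup₂_le fun E hE => leT hE.1
    ((p1 B B hB hB).mono (sup_le le_sup_left ((le_LL hE.1 hE.2).trans (le_sup_left.trans le_sup_left))))
  have p4 : ∀ E ∈ W, Un k (D ⊔ E) → E ≤ D' ∨ ∃ B, P B ∧ E ≤ T (D' ⊔ B) := fun E hE hu => by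
    by_cases h2 : sp k E ≤ sp k D
    · exact Or.inl (le_LL hE h2)
    obtain ⟨m, hm⟩ := hu
    obtain ⟨B, hB, h3, h4, h5⟩ := chain hWG hW (sp_mul_le D) (sp_mono (le_sup_left : D ≤ D ⊔ E)) m hm
      (sp_mul_le _) hE (sp_mono le_sup_right) h2
    exact Or.inr ⟨B, ⟨hB, h4, h5⟩, leT hE (Un.of_le ⟨m, hm⟩ (sp_sup_le (sp_mul_le _) (sp_sup_le
      (sp_mul_le _) (h1.trans (sp_mono le_sup_left)) h3) (sp_mono le_sup_right)))⟩
  by_cases hex : ∃ B, P B
  · obtain ⟨B₀, hB₀⟩ := hex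
    refine (p2 B₀ hB₀).mono (iSup₂_le fun E hE => ?_)
    rcases p4 E hE.1 hE.2 with h | ⟨B, hB, h⟩
    · exact h.trans (p3 B₀ hB₀)
    · exact leT hE.1 ((p2 B hB).mono (sup_le (sup_le (p3 B hB) (leT hB₀.1 (p1 B B₀ hB hB₀))) h))
  · exact uD'.mono (iSup₂_le fun E hE => (p4 E hE.1 hE.2).resolve_right fun ⟨B, hB, _⟩ => hex ⟨B, hB⟩)

theorem baer [FiniteDimensional k A] (hWW : ∀ B ∈ W, ∀ C ∈ W, Un k (B ⊔ C)) : Un k (⨆ B ∈ W, B) :=
  (baer_aux hWG hW hWW _ ⊥ rfl Un.bot bot_le).mono (iSup₂_le fun B hB =>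
    le_iSup₂_of_le (f := fun (B : Subgroup Aˣ) (_ : B ∈ {B ∈ W | Un k (⊥ ⊔ B)}) => B) B
      ⟨hB, by simpa using hWW B hB B hB⟩ le_rfl)

omit hWG in
theorem cj_biSup {g : Aˣ} (hg : g ∈ G) : cj g (⨆ B ∈ W, B) = ⨆ B ∈ W, B := by
  have key : ∀ g ∈ G, cj g (⨆ B ∈ W, B) ≤ ⨆ B ∈ W, B := fun g hg => by
    simp only [cj_iSup]
    exact iSup₂_le fun B hB => le_iSup₂_of_le (f := fun (B : Subgroup Aˣ) (_ : B ∈ W) => B) _
      (hW B hB g hg) le_rfl
  refine le_antisymm (key g hg) ?_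
  have := cj_mono g (key g⁻¹ (inv_mem hg))
  rwa [cj_cj, mul_inv_cancel, cj_one] at this

end Baer

variable (k) in
/-- no nontrivial unipotent normal subgroup -/
def NoUn (G : Subgroup Aˣ) : Prop := ∀ N ≤ G, (∀ g ∈ G, cj g N = N) → Un k N → N = ⊥

theorem NoUn.normal [FiniteDimensional k A] {G N : Subgroup Aˣ} (h : NoUn k G) (hle : N ≤ G)
    (hN : ∀ g ∈ G, cj g N = N) : NoUn k N := fun U hU hn hu => by
  let W : Set (Subgroup Aˣ) := {B | B ≤ N ∧ (∀ g ∈ N, cj g B = B) ∧ Un k B}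
  have hW : ∀ B ∈ W, ∀ g ∈ G, cj g B ∈ W := fun B hB g hg => by
    refine ⟨hN g hg ▸ cj_mono g hB.1, fun x hx => ?_, hB.2.2.tocj g⟩
    have := hB.2.1 _ (mem_cj.1 ((hN g hg).symm ▸ hx))
    rw [cj_cj, show x * g = g * (g⁻¹ * x * g) by group, cj_mul, this]
  have := h _ (iSup₂_le fun B hB => hB.1.trans hle) (fun g hg => cj_biSup hW hg)
    (baer (fun B hB => hB.1.trans hle) hW fun B hB C hC =>
      hB.2.2.sup_norm hC.2.2 fun v hv => hB.2.1 v (hC.1 hv))
  exact eq_bot_iff.2 (this ▸ le_iSup₂_of_le (f := fun (B : Subgroup Aˣ) (_ : B ∈ W) => B) U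
    ⟨hU, hn, hu⟩ le_rfl)

section Cube

variable (h : sp k H ^ 3 = ⊥)
include h

theorem cube_zero {x y z : A} (hx : x ∈ sp k H) (hy : y ∈ sp k H) (hz : z ∈ sp k H) : x * y * z = 0 := by
  have := Submodule.mul_mem_mul (Submodule.mul_mem_mul hx hy) hz
  rwa [← sq, ← pow_succ, h, Submodule.mem_bot] at this

theorem cube_comm {a b : Aˣ} (ha : a ∈ H) (hb : b ∈ H) :
    ((⁅a, b⁆ : Aˣ) : A) = 1 + (((a : A) - 1) * (b - 1) - (b - 1) * (a - 1)) := by
  have hx := (In.of_mem ha).mem_sp (k := k)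
  have hy := (In.of_mem hb).mem_sp (k := k)
  have hz := (In.of_mem (mul_mem hb ha)).mem_sp (k := k)
  rw [commutatorElement_def, mul_assoc, ← mul_inv_rev, Units.val_mul, Units.mul_inv_eq_iff_eq_mul]
  have e1 := cube_zero h hx hy hz
  have e2 := cube_zero h hy hx hz
  rw [Units.val_mul] at e1 e2 ⊢
  rw [Units.val_mul]
  linear_combination (norm := noncomm_ring) e2 - e1

theorem cube_class : ⁅⁅H, H⁆, H⁆ = ⊥ := by
  refine comm_iff.1 (comm_iff_le.2 (Subgroup.commutator_le.2 fun a ha b hb c hc => Units.ext ?_))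
  have hx := (In.of_mem ha).mem_sp (k := k)
  have hy := (In.of_mem hb).mem_sp (k := k)
  have hz := (In.of_mem hc).mem_sp (k := k)
  rw [Units.val_mul, Units.val_mul, cube_comm h ha hb]
  linear_combination (norm := noncomm_ring) cube_zero h hz hx hy - cube_zero h hz hy hx -
    cube_zero h hx hy hz + cube_zero h hy hx hz

end Cube

end Alg

section End

variable {k : Type*} [Field k] {M : Type*} [AddCommGroup M] [Module k M]
  {H : Subgroup (Module.End k M)ˣ}

theorem un_iff : IsUnipotentOn H ↔ Un k H := by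
  refine exists_congr fun n => ?_
  simp only [bind_pure_comp, List.map_eq_map, List.map_map]
  refine ⟨fun h => ?_, fun h l hl e => ?_⟩
  · rw [sp, Submodule.span_pow, Submodule.span_eq_bot]
    intro x hx
    obtain ⟨f, rfl⟩ := Set.mem_pow.1 hx
    choose g hg e using fun i => (f i).2
    have := h (List.ofFn g) (by simpa [List.forall_mem_ofFn_iff] using hg) (by simp)
    rw [List.map_ofFn] at this
    rwa [show ((fun g => g - 1) ∘ Units.val) ∘ g = fun i => (f i : Module.End k M) from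
      funext fun i => by simp [e]] at this
  · have : ∀ l : List (Module.End k M)ˣ, (∀ g ∈ l, g ∈ H) →
        (l.map fun g : (Module.End k M)ˣ => g.1 - 1).prod ∈ sp k H ^ l.length := fun l hl => by
      induction l with
      | nil => exact Submodule.one_le.1 (pow_zero (sp k H)).ge
      | cons a l ih =>
        rw [List.map_cons, List.prod_cons, List.length_cons, pow_succ']
        exact Submodule.mul_mem_mul (In.of_mem (hl a (by simp))).mem_sp
          (ih fun g hg => hl g (by simp [hg]))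
    have h1 := this l hl
    rwa [e, h, Submodule.mem_bot] at h1

theorem Un.exists_fixed (h : Un k H) (hM : ∃ m : M, m ≠ 0) :
    ∃ m : M, m ≠ 0 ∧ ∀ g ∈ H, (g : Module.End k M) m = m := by
  classical
  have hm := Nat.find_spec h
  obtain ⟨n, e⟩ : ∃ n, Nat.find h = n + 1 := Nat.exists_eq_succ_of_ne_zero fun e => by
    obtain ⟨m, h0⟩ := hM
    rw [e, pow_zero] at hm
    have : (1 : Module.End k M) = 0 := (Submodule.mem_bot k).1 (hm ▸ Submodule.one_le.1 le_rfl)
    exact h0 (by simpa using congrArg (fun f : Module.End k M => f m) this)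
  obtain ⟨x, hx, h0⟩ := Submodule.exists_mem_ne_zero_of_ne_bot (Nat.find_min h (m := n) (by omega))
  obtain ⟨m, hm0⟩ : ∃ m, x m ≠ 0 := by
    by_contra hc
    push Not at hc
    exact h0 (LinearMap.ext hc)
  refine ⟨x m, hm0, fun g hg => ?_⟩
  have := Submodule.mul_mem_mul (In.of_mem hg).mem_sp hx
  rw [← pow_succ', ← e, hm, Submodule.mem_bot] at this
  simpa [sub_eq_zero] using congrArg (fun f : Module.End k M => f m) this

/-- nontrivial normal subgroups fix no nonzero vector -/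
def NoFix (G : Subgroup (Module.End k M)ˣ) : Prop :=
  ∀ N ≤ G, (∀ g ∈ G, cj g N = N) → N ≠ ⊥ → ∀ m : M, (∀ g ∈ N, (g : Module.End k M) m = m) → m = 0

theorem NoFix.noUn {G : Subgroup (Module.End k M)ˣ} (h : NoFix G) : NoUn k G := fun N hN hn hu => by
  by_contra hc
  by_cases hM : ∃ m : M, m ≠ 0
  · obtain ⟨m, h0, hm⟩ := hu.exists_fixed hM
    exact h0 (h N hN hn hc m hm)
  · push Not at hM
    exact hc (eq_bot_iff.2 fun g _ => Subgroup.mem_bot.2 (Units.ext (LinearMap.ext fun m => by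
      rw [hM (g.1 m), hM ((1 : (Module.End k M)ˣ).1 m)])))

theorem noFix_of_irr {G : Subgroup (Module.End k M)ˣ} (h : IsIrreducibleFor G) : NoFix G := by
  intro N _ hn h0 m hm
  let W : Submodule k M :=
    { carrier := {m | ∀ g ∈ N, (g : Module.End k M) m = m}
      add_mem' := fun ha hb g hg => by rw [map_add, ha g hg, hb g hg]
      zero_mem' := fun g _ => map_zero _
      smul_mem' := fun c a ha g hg => by rw [map_smul, ha g hg] }
  rcases h.2 W (fun g hg w hw x hx => by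
    have := congrArg (g : Module.End k M) (hw _ (mem_cj.1 ((hn g hg).symm ▸ hx)))
    simpa [← Module.End.mul_apply, ← mul_assoc] using this) with e | e
  · exact (Submodule.mem_bot k).1 (e ▸ (hm : m ∈ W))
  · exact absurd (eq_bot_iff.2 fun g hg => Subgroup.mem_bot.2 (Units.ext (LinearMap.ext fun m =>
      (e ▸ Submodule.mem_top : m ∈ W) g hg))) h0

end End

end Cfsg.Agent.H3.Qd
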