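import Cfsg.Agent.H3.Dick3
import Cfsg.Agent.H3.Unip

/-! Pairs of quadratic elements in the unit group of an algebra. -/

set_option autoImplicit false
set_option linter.unusedSectionVars false
set_option linter.style.haveILetI false
set_option linter.unusedSimpArgs false

namespace Cfsg.Agent.H3.Qd

open Cfsg.Agent.H19 Cfsg.Agent.H3.Dk Polynomial
open scoped MatrixGroups

variable {k A : Type*} [Field k] [Ring A] [Algebra k A] {H K : Subgroup Aˣ} {α β η x y : A}

variable (k) in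
/-- all `1 + c α` lie in `H` -/
def Fam (H : Subgroup Aˣ) (α : A) : Prop := ∀ c : k, In H (c • α)

theorem Fam.zero : Fam k H 0 := fun c => by simpa using In.zero
theorem Fam.one (h : Fam k H α) : In H α := by simpa using h 1
theorem Fam.smul (h : Fam k H α) (c : k) : Fam k H (c • α) := fun d => by
  rw [smul_smul]; exact h _
theorem Fam.neg (h : Fam k H α) : Fam k H (-α) := by simpa using h.smul (-1)
theorem Fam.mono (h : Fam k H α) (hle : H ≤ K) : Fam k K α := fun c => (h c).mono hle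
theorem Fam.congr (h : Fam k H α) (e : α = β) : Fam k H β := e ▸ h
theorem Fam.add (h : Fam k H α) (h' : Fam k H β) (e : α * β = 0) : Fam k H (α + β) := fun c => by
  rw [smul_add]; exact (h c).add (h' c) (by simp [e])
theorem Fam.sub (h : Fam k H α) (h' : Fam k H β) (e : α * β = 0) : Fam k H (α - β) := by
  rw [sub_eq_add_neg]; exact h.add h'.neg (by simp [e])
theorem Fam.conj (h : Fam k H α) {g : Aˣ} (hg : g ∈ H) : Fam k H (g * α * ↑g⁻¹) := fun c => by
  simpa using (h c).conj hg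

/-- the unit `1 + x` for `x² = 0` -/
def un (x : A) (h : x * x = 0) : Aˣ :=
  ⟨1 + x, 1 - x, by linear_combination (norm := noncomm_ring) -h,
    by linear_combination (norm := noncomm_ring) -h⟩

@[simp] theorem un_val (h : x * x = 0) : (un x h : A) = 1 + x := rfl
@[simp] theorem un_inv (h : x * x = 0) : ((un x h)⁻¹ : Aˣ) = (1 - x : A) := rfl

theorem In.un_mem (h : In H x) (e : x * x = 0) : un x e ∈ H := by
  obtain ⟨g, hg, e'⟩ := h
  rwa [show un x e = g from Units.ext e'.symm]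

theorem Fam.conj1 (h : Fam k H α) (h' : In H x) (e : x * x = 0) : Fam k H ((1 + x) * α * (1 - x)) :=
  h.conj (h'.un_mem e)

theorem mul_zero' (h : x * y = 0) (z : A) : x * (y * z) = 0 := by rw [← mul_assoc, h, zero_mul]
theorem mul_zero3 {z : A} (h : x * y * z = 0) (w : A) : x * (y * (z * w)) = 0 := by
  rw [← mul_assoc, ← mul_assoc, h, zero_mul]
theorem mul_eq3 {z u : A} (h : x * y * z = u) (w : A) : x * (y * (z * w)) = u * w := by
  rw [← mul_assoc, ← mul_assoc, h]

/-- the rules for expanding products -/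
theorem nc (k A : Type*) [Field k] [Ring A] [Algebra k A] :
    (∀ a b c : A, a * (b + c) = a * b + a * c) ∧ (∀ a b c : A, (a + b) * c = a * c + b * c) ∧
    (∀ a b c : A, a * (b - c) = a * b - a * c) ∧ (∀ a b c : A, (a - b) * c = a * c - b * c) ∧
    (∀ a b : A, a * -b = -(a * b)) ∧ (∀ a b : A, -a * b = -(a * b)) ∧ (∀ a : A, a * 1 = a) ∧
    (∀ a : A, 1 * a = a) ∧ (∀ a b c : A, a * b * c = a * (b * c)) ∧
    (∀ (c : k) (a b : A), c • a * b = c • (a * b)) ∧ (∀ (c : k) (a b : A), a * c • b = c • (a * b)) ∧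
    (∀ a : A, a * 0 = 0) ∧ (∀ a : A, 0 * a = 0) ∧ ∀ c : k, c • (0 : A) = 0 :=
  ⟨mul_add, add_mul, mul_sub, sub_mul, mul_neg, neg_mul, mul_one, one_mul, mul_assoc, smul_mul_assoc,
    fun c a b => mul_smul_comm c a b, mul_zero, zero_mul, smul_zero⟩

theorem Fam.comm (h : Fam k H α) (h' : In H β) (hβ : β * β = 0) (hα : α * α = 0)
    (e1 : α * β * α = 0) (e2 : β * α * β = 0) : Fam k H (α * β - β * α) := fun c => by
  refine ((h c).mul (h.conj1 h' hβ (-c))).congr ?_
  simp only [nc k A, hα, mul_zero' hα, mul_assoc α β α ▸ e1, mul_assoc β α β ▸ e2, mul_zero3 e1]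
  module

theorem theta_fam (h2 : (2 : k) ≠ 0) (hα : α * α = 0) (hη : η * η = 0) (fα : Fam k H α)
    (fη : Fam k H η) (h : α * η * (α * η * α) = 0) : Fam k H (α * η * α) := by
  have h5 : α * (η * (α * (η * α))) = 0 := by simpa only [mul_assoc] using h
  have h5' : ∀ z, α * (η * (α * (η * (α * z)))) = 0 := fun z => by
    simpa only [mul_assoc, zero_mul] using congrArg (· * z) h5
  have D : ∀ a c : k, In H (-(a * c) • (η * α - α * η) - (a * c * c) • (α * η * α) -
      (a * a * c) • (η * α * η) + (a * a * c * c) • (η * (α * η * α))) := fun a c => by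
    refine ((fη (-a)).mul (fη.conj1 (fα c) (by simp [hα]) a)).congr ?_
    simp only [nc k A, hη, mul_zero' hη]
    module
  have F : ∀ a : k, In H (-(2 * a) • (α * η * α) + (a * a) • (η * (α * η * α) - α * η * α * η)) :=
    fun a => by
    refine ((D a 1).mul (D a (-1))).congr ?_
    simp only [nc k A, hη, mul_zero' hη, hα, mul_zero' hα, h5, h5']
    module
  intro c
  have h4 : (2 * 2 : k) ≠ 0 := mul_ne_zero h2 h2
  obtain ⟨a, rfl⟩ : ∃ a, c = -(2 * 2 * a) := ⟨-c / (2 * 2), by field_simp⟩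
  have F' := (F (-a)).inv (y := -(2 * a) • (α * η * α) - (a * a) • (η * (α * η * α) - α * η * α * η)) (by
    simp only [nc k A, hη, mul_zero' hη, hα, mul_zero' hα, h5, h5']
    module)
  refine ((F a).mul F').congr ?_
  simp only [nc k A, hη, mul_zero' hη, hα, mul_zero' hα, h5, h5']
  module

theorem comm_aeval {γ : A} (h : x * γ = γ * x) (p : k[X]) : x * aeval γ p = aeval γ p * x := by
  induction p using Polynomial.induction_on' with
  | add p q h1 h2 => rw [map_add, mul_add, add_mul, h1, h2]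
  | monomial n a =>
    rw [aeval_monomial, Algebra.algebraMap_eq_smul_one, smul_mul_assoc, one_mul, mul_smul_comm,
      smul_mul_assoc, ((show Commute x γ from h).pow_right n).eq]

theorem comm_aeval' {γ : A} (h : x * γ = γ * x) (p : k[X]) (z : A) :
    x * (aeval γ p * z) = aeval γ p * (x * z) := by rw [← mul_assoc, comm_aeval h, mul_assoc]

theorem gam_left (hα : α * α = 0) : α * (α * β + β * α) = (α * β + β * α) * α := by
  simp [mul_add, add_mul, mul_assoc, hα, mul_zero' hα]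

theorem gam_right (hβ : β * β = 0) : β * (α * β + β * α) = (α * β + β * α) * β := by
  simp [mul_add, add_mul, mul_assoc, hβ, mul_zero' hβ]

theorem iface (hα : α * α = 0) (hβ : β * β = 0) (fα : Fam k H α) (fβ : Fam k H β)
    {g : SL(2, k[X])} (hg : g ∈ HH k) : ∃ p q r s : k[X], g.1 0 0 = 1 + X * p ∧ g.1 0 1 = q ∧
      g.1 1 0 = X * r ∧ g.1 1 1 = 1 + X * s ∧
      In H (aeval (α * β + β * α) p * (α * β) + aeval (α * β + β * α) q * α +
        aeval (α * β + β * α) r * β + aeval (α * β + β * α) s * (β * α)) := by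
  have c1 := comm_aeval' (k := k) (gam_left (β := β) hα)
  have c2 := comm_aeval' (k := k) (gam_right (α := α) hβ)
  refine HH_induction (p := fun g => ∃ p q r s : k[X], g.1 0 0 = 1 + X * p ∧ g.1 0 1 = q ∧
      g.1 1 0 = X * r ∧ g.1 1 1 = 1 + X * s ∧
      In H (aeval (α * β + β * α) p * (α * β) + aeval (α * β + β * α) q * α +
        aeval (α * β + β * α) r * β + aeval (α * β + β * α) s * (β * α)))
    ⟨0, 0, 0, 0, by simp, by simp, by simp, by simp, by simpa using In.zero⟩ ?_ ?_ hg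
  · rintro a g ⟨p, q, r, s, e1, e2, e3, e4, h⟩
    refine ⟨p + C a * r, q + C a + C a * (s * X), r, s, ?_, ?_, ?_, ?_, ((fα a).mul h).congr ?_⟩
    iterate 4 simp only [mul2, uu00, uu01, uu10, uu11, e1, e2, e3, e4]; ring
    simp only [map_add, map_mul, aeval_C, aeval_X, Algebra.algebraMap_eq_smul_one]
    simp only [nc k A, c1, hα, mul_zero' hα]
    module
  · rintro a g ⟨p, q, r, s, e1, e2, e3, e4, h⟩
    refine ⟨p, q, r + C a + C a * (p * X), s + C a * q, ?_, ?_, ?_, ?_, ((fβ a).mul h).congr ?_⟩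
    iterate 4 simp only [mul2, ll00, ll01, ll10, ll11, e1, e2, e3, e4]; ring
    simp only [map_add, map_mul, aeval_C, aeval_X, Algebra.algebraMap_eq_smul_one]
    simp only [nc k A, c2, hβ, mul_zero' hβ]
    module

theorem key (h2 : ringChar k ≠ 2) (h3 : Nat.card k ≠ 3) (hα : α * α = 0) (hβ : β * β = 0)
    (fα : Fam k H α) (fβ : Fam k H β) {f G : k[X]} (hf : Irreducible f) (hX : ¬ f ∣ X) (hG : G ≠ 0)
    (h0 : aeval (α * β + β * α) (f * G) = 0) (p : k[X]) :
    Fam k H (aeval (α * β + β * α) (p * (X * G)) * α) := fun c => by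
  obtain ⟨g, hg, e⟩ := univ (Ring.two_ne_zero h2) h3 hf hX (mul_ne_zero X_ne_zero hG) (C c * p)
  obtain ⟨p0, q, r, s, e1, e2, e3, e4, h⟩ := iface hα hβ fα fβ hg
  rw [red_eq_iff] at e
  have z : ∀ t, f * (X * G) ∣ X * t → aeval (α * β + β * α) t = 0 := fun t ht => by
    obtain ⟨u, rfl⟩ := (mul_dvd_mul_iff_left X_ne_zero).1 ((mul_left_comm X f G) ▸ ht)
    rw [map_mul, h0, zero_mul]
  have z1 := z p0 (by simpa [e1] using e 0 0)
  have z2 := z r (by simpa [e3] using e 1 0)
  have z3 := z s (by simpa [e4] using e 1 1)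
  have z4 := z _ ((e 0 1).mul_left X)
  rw [map_sub, sub_eq_zero, e2, uu01] at z4
  refine h.congr ?_
  rw [z1, z2, z3, z4, mul_assoc (C c), map_mul, aeval_C, Algebra.algebraMap_eq_smul_one]
  simp

theorem exists_factor [FiniteDimensional k A] (γ : A) : IsNilpotent γ ∨ ∃ f G : k[X],
    Irreducible f ∧ ¬ f ∣ X ∧ G ≠ 0 ∧ aeval γ (f * G) = 0 ∧ aeval γ (X * (X * G)) ≠ 0 := by
  have hi : IsIntegral k γ := Algebra.IsIntegral.isIntegral γ
  have h0 := minpoly.ne_zero hi
  obtain ⟨j, h, hh, e⟩ := WfDvdMonoid.max_power_factor h0 (irreducible_X (R := k))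
  have hz := minpoly.aeval k γ
  by_cases hu : IsUnit h
  · refine Or.inl ⟨j, ?_⟩
    rw [e, map_mul, map_pow, aeval_X] at hz
    exact (hu.map (aeval γ)).mul_left_eq_zero.1 hz
  obtain ⟨f, hf, h', rfl⟩ := WfDvdMonoid.exists_irreducible_factor hu (by rintro rfl; simp at hh)
  have hX : ¬ f ∣ X := fun hd => hh ((hf.dvd_symm irreducible_X hd).mul_right _)
  have hG : X ^ j * h' ≠ 0 := fun e' => h0 (by rw [e, mul_left_comm, e', mul_zero])
  refine Or.inr ⟨f, X ^ j * h', hf, hX, hG, by rwa [mul_left_comm, ← e], fun e' => ?_⟩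
  have := minpoly.dvd k γ e'
  rw [e, mul_left_comm, ← mul_assoc X X, mul_dvd_mul_iff_right hG] at this
  exact hX ((hf.prime.dvd_or_dvd this).elim id id)

/-- opposite elements -/
structure Opp (α β : A) : Prop where
  sq1 : α * α = 0
  sq2 : β * β = 0
  e1 : α * β * α = α
  e2 : β * α * β = β

theorem Opp.symm (h : Opp α β) : Opp β α := ⟨h.sq2, h.sq1, h.e2, h.e1⟩
theorem Opp.neg (h : Opp α β) : Opp (-α) (-β) :=
  ⟨by simp [h.sq1], by simp [h.sq2], by simp [h.e1], by simp [h.e2]⟩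
theorem Opp.e1' (h : Opp α β) : α * (β * α) = α := mul_assoc α β α ▸ h.e1
theorem Opp.e2' (h : Opp α β) : β * (α * β) = β := mul_assoc β α β ▸ h.e2

include k in
theorem Opp.exists_w (h : Opp α β) (h1 : In H α) (h2 : In H (-β)) : ∃ w ∈ H,
    w * α * ↑w⁻¹ = -β ∧ w * β * ↑w⁻¹ = -α ∧ ((w * w : Aˣ) : A) = 1 - 2 * (α * β + β * α) := by
  have hb : -β * -β = 0 := by simp [h.sq2]
  refine ⟨un α h.sq1 * un (-β) hb * un α h.sq1,
    mul_mem (mul_mem (h1.un_mem _) (h2.un_mem _)) (h1.un_mem _), ?_, ?_, ?_⟩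
  all_goals
    simp only [Units.mul_inv_eq_iff_eq_mul, Units.val_mul, un_val, two_mul]
    simp only [nc k A, h.sq1, h.sq2, mul_zero' h.sq1, mul_zero' h.sq2, h.e1', h.e2', mul_eq3 h.e1, mul_eq3 h.e2]
    abel

include k in
theorem Opp.exists_SL2 {F : Type*} [Field F] (h : Opp α β) (h0 : α ≠ 0) (κ : F → A)
    (ka : ∀ z w, κ (z + w) = κ z + κ w) (km : ∀ z w, κ (z * w) = κ z * κ w)
    (k1 : κ 1 = α * β + β * α) (c1 : ∀ z, α * κ z = κ z * α) (c2 : ∀ z, β * κ z = κ z * β) :
    ∃ φ : SL(2, F) →* Aˣ, Function.Injective φ ∧ (∀ z, (φ (uu z) : A) = 1 + κ z * α) ∧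
      ∀ z, (φ (ll z) : A) = 1 + κ z * β := by
  have k0 : κ 0 = 0 := by simpa using ka 0 0
  have c1' : ∀ z x, α * (κ z * x) = κ z * (α * x) := fun z x => by rw [← mul_assoc, c1, mul_assoc]
  have c2' : ∀ z x, β * (κ z * x) = κ z * (β * x) := fun z x => by rw [← mul_assoc, c2, mul_assoc]
  let f : SL(2, F) → A := fun g => 1 - α * β - β * α + κ (g.1 0 0) * (α * β) + κ (g.1 0 1) * α +
    κ (g.1 1 0) * β + κ (g.1 1 1) * (β * α)
  have f1 : f 1 = 1 := by
    simp only [f, one00, one01, one10, one11, k0, k1]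
    simp only [nc k A, h.sq1, h.sq2, mul_zero' h.sq1, mul_zero' h.sq2, h.e1', h.e2', mul_eq3 h.e1, mul_eq3 h.e2]
    abel
  have fm : ∀ g g', f (g * g') = f g * f g' := fun g g' => by
    simp only [f, mul2, ka, km]
    simp only [nc k A, c1', c2', h.sq1, h.sq2, mul_zero' h.sq1, mul_zero' h.sq2, h.e1', h.e2', mul_eq3 h.e1,
      mul_eq3 h.e2]
    abel
  let φ : SL(2, F) →* Aˣ := MonoidHom.toHomUnits ⟨⟨f, f1⟩, fm⟩
  have hu : ∀ z, (φ (uu z) : A) = 1 + κ z * α := fun z => by
    change f _ = _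
    simp only [f, uu00, uu01, uu10, uu11, k0, k1]
    simp only [nc k A, h.sq1, h.sq2, mul_zero' h.sq1, mul_zero' h.sq2, h.e1', h.e2', mul_eq3 h.e1, mul_eq3 h.e2]
    abel
  have hl : ∀ z, (φ (ll z) : A) = 1 + κ z * β := fun z => by
    change f _ = _
    simp only [f, ll00, ll01, ll10, ll11, k0, k1]
    simp only [nc k A, h.sq1, h.sq2, mul_zero' h.sq1, mul_zero' h.sq2, h.e1', h.e2', mul_eq3 h.e1, mul_eq3 h.e2]
    abel
  have ez : ∀ z, κ z * α = 0 → z = 0 := fun z e => by
    by_contra hz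
    have := congrArg (κ z⁻¹ * ·) e
    simp only [← mul_assoc, ← km, inv_mul_cancel₀ hz, k1, mul_zero] at this
    exact h0 (by simpa [add_mul, mul_assoc, h.sq1, h.e1'] using this)
  refine ⟨φ, (injective_iff_map_eq_one φ).2 fun g hg => ?_, hu, hl⟩
  have e : f g = 1 := congrArg Units.val hg
  have kn : ∀ z, κ (z - 1) = κ z - κ 1 := fun z => by rw [eq_sub_iff_add_eq, ← ka, sub_add_cancel]
  refine ext2 (sub_eq_zero.1 (ez _ ?_)) (ez _ ?_) (ez _ ?_) (sub_eq_zero.1 (ez _ ?_))
  · have := congrArg (fun x => α * β * x * α) e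
    simp only [f] at this
    rw [one00, kn, k1]
    revert this
    simp only [nc k A, c1', c2', h.sq1, h.sq2, mul_zero' h.sq1, mul_zero' h.sq2, h.e1', h.e2', mul_eq3 h.e1,
      mul_eq3 h.e2]
    intro this
    linear_combination (norm := abel1) this
  · have := congrArg (fun x => α * β * x * (β * α)) e
    simp only [f] at this
    revert this
    simp only [nc k A, c1', c2', h.sq1, h.sq2, mul_zero' h.sq1, mul_zero' h.sq2, h.e1', h.e2', mul_eq3 h.e1,
      mul_eq3 h.e2]
    intro this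
    linear_combination (norm := abel1) this
  · have := congrArg (fun x => α * x * α) e
    simp only [f] at this
    revert this
    simp only [nc k A, c1', c2', h.sq1, h.sq2, mul_zero' h.sq1, mul_zero' h.sq2, h.e1', h.e2', mul_eq3 h.e1,
      mul_eq3 h.e2]
    intro this
    linear_combination (norm := abel1) this
  · have := congrArg (fun x => α * x * (β * α)) e
    simp only [f] at this
    rw [one11, kn, k1]
    revert this
    simp only [nc k A, c1', c2', h.sq1, h.sq2, mul_zero' h.sq1, mul_zero' h.sq2, h.e1', h.e2', mul_eq3 h.e1,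
      mul_eq3 h.e2]
    intro this
    linear_combination (norm := abel1) this

end Cfsg.Agent.H3.Qd
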