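import Cfsg.Agent.H3.Quad1

/-! Quadratic elements of minimal rank. -/

set_option autoImplicit false
set_option linter.unusedSectionVars false
set_option linter.style.haveILetI false
set_option linter.unusedSimpArgs false

namespace Cfsg.Agent.H3.Qd

open Cfsg.Agent.H19 Polynomial LinearMap Module

variable {k M : Type*} [Field k] [AddCommGroup M] [Module k M] [FiniteDimensional k M]
  {G : Subgroup (End k M)ˣ} {α β δ η x y z : End k M}

/-- the rank -/
noncomputable def rk (α : End k M) : ℕ := finrank k (range α)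

theorem range_mul_le (x y : End k M) : range (x * y) ≤ range x := range_comp_le_range y x
theorem ker_le_mul (x y : End k M) : ker y ≤ ker (x * y) := ker_le_ker_comp y x
theorem zero_of_range (h : range y ≤ range x) (e : z * x = 0) : z * y = 0 := LinearMap.ext fun m => by
  obtain ⟨n, hn⟩ := h (mem_range_self y m)
  simpa [hn] using congrArg (fun f : End k M => f n) e
theorem zero_of_ker (h : ker x ≤ ker y) (e : x * z = 0) : y * z = 0 := LinearMap.ext fun m =>
  h (congrArg (fun f : End k M => f m) e)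
theorem rk_add_ker (x : End k M) : rk x + finrank k (ker x) = finrank k M := finrank_range_add_finrank_ker x
theorem rk_mono (h : range y ≤ range x) : rk y ≤ rk x := Submodule.finrank_mono h
theorem rk_mono' (h : ker x ≤ ker y) : rk y ≤ rk x := by
  have := Submodule.finrank_mono h
  have := rk_add_ker x
  have := rk_add_ker y
  omega
theorem range_eq (h : range y ≤ range x) (h' : rk x ≤ rk y) : range y = range x :=
  Submodule.eq_of_le_of_finrank_le h h'
theorem ker_eq (h : ker x ≤ ker y) (h' : rk x ≤ rk y) : ker x = ker y := by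
  refine Submodule.eq_of_le_of_finrank_le h ?_
  have := rk_add_ker x
  have := rk_add_ker y
  omega
theorem range_add_le (x y : End k M) : range (x + y) ≤ range x ⊔ range y := by
  rintro _ ⟨m, rfl⟩
  exact Submodule.add_mem_sup (mem_range_self x m) (mem_range_self y m)
theorem range_sub_le (x y : End k M) : range (x - y) ≤ range x ⊔ range y := by
  simpa [sub_eq_add_neg] using range_add_le x (-y)
theorem rk_add_le (x y : End k M) : rk (x + y) ≤ rk x + rk y :=
  (Submodule.finrank_mono (range_add_le x y)).trans (Submodule.finrank_add_le_finrank_add_finrank _ _)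
theorem rk_neg (x : End k M) : rk (-x) = rk x := by rw [rk, range_neg]; rfl
theorem rk_sub_le (x y : End k M) : rk (x - y) ≤ rk x + rk y := by
  simpa [sub_eq_add_neg, rk_neg] using rk_add_le x (-y)
theorem rk_mul_add (x y : End k M) : rk (y * x) + finrank k ↥(range x ⊓ ker y) = rk x := by
  have := finrank_range_add_finrank_ker (y.domRestrict (range x))
  rw [range_domRestrict, ker_domRestrict, ← Submodule.finrank_map_subtype_eq,
    Submodule.map_comap_subtype, ← range_comp] at this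
  exact this
theorem rk_conj (g : (End k M)ˣ) (x : End k M) : rk (g.1 * x * (g⁻¹).1) = rk x := by
  have key : ∀ (g : (End k M)ˣ) (x : End k M), rk (g.1 * x * (g⁻¹).1) ≤ rk x := fun g x =>
    (rk_mono (range_mul_le _ _)).trans (rk_mono' (ker_le_mul _ _))
  refine le_antisymm (key g x) ?_
  simpa [mul_assoc] using key g⁻¹ (g.1 * x * (g⁻¹).1)

/-- quadratic elements -/
structure Q (G : Subgroup (End k M)ˣ) (α : End k M) : Prop where
  sq : α * α = 0
  ne : α ≠ 0
  fam : Fam k G α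

/-- quadratic elements of minimal rank -/
structure Qm (G : Subgroup (End k M)ˣ) (α : End k M) : Prop extends Q G α where
  min : ∀ β, Q G β → rk α ≤ rk β

/-- `δ` is subordinate to `α` -/
structure Ee (G : Subgroup (End k M)ˣ) (α δ : End k M) : Prop where
  fam : Fam k G δ
  ker : ker α ≤ ker δ
  range : range δ ≤ range α

theorem Q.conj (h : Q G α) {g : (End k M)ˣ} (hg : g ∈ G) : Q G (g * α * ↑g⁻¹) :=
  ⟨by simp [mul_assoc, mul_zero' h.sq], by simpa using h.ne, h.fam.conj hg⟩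
theorem Qm.of_rk (h : Qm G α) (h' : Q G δ) (e : rk δ ≤ rk α) : Qm G δ :=
  ⟨h', fun β hβ => e.trans (h.min β hβ)⟩
theorem Qm.conj (h : Qm G α) {g : (End k M)ˣ} (hg : g ∈ G) : Qm G (g * α * ↑g⁻¹) :=
  h.of_rk (h.toQ.conj hg) (rk_conj g α).le
theorem Qm.conj1 (h : Qm G α) (h' : In G x) (e : x * x = 0) : Qm G ((1 + x) * α * (1 - x)) :=
  h.conj (h'.un_mem e)
theorem Qm.rk_eq (h : Qm G α) (h' : Qm G β) : rk α = rk β := le_antisymm (h.min _ h'.toQ) (h'.min _ h.toQ)

theorem Ee.refl (h : Fam k G α) : Ee G α α := ⟨h, le_rfl, le_rfl⟩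
theorem Ee.zero : Ee G α 0 := ⟨Fam.zero, by simp, by simp⟩
theorem Ee.trans (h : Ee G α β) (h' : Ee G β δ) : Ee G α δ :=
  ⟨h'.fam, h.ker.trans h'.ker, h'.range.trans h.range⟩
theorem Ee.left (h : Ee G α δ) (e : x * α = 0) : x * δ = 0 := zero_of_range h.range e
theorem Ee.right (h : Ee G α δ) (e : α * x = 0) : δ * x = 0 := zero_of_ker h.ker e
theorem Ee.of_eq (h : Fam k G δ) (e1 : δ = α * x) (e2 : δ = y * α) : Ee G α δ :=
  ⟨h, e2 ▸ ker_le_mul _ _, e1 ▸ range_mul_le _ _⟩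
theorem Ee.mul (hα : α * α = 0) (h : Ee G α δ) (h' : Ee G α η) : δ * η = 0 := h.right (h'.left hα)
theorem Ee.smul (h : Ee G α δ) (c : k) : Ee G α (c • δ) :=
  ⟨h.fam.smul c, h.ker.trans (ker_le_ker_smul _ _), (range_smul_le_range _ _).trans h.range⟩
theorem Ee.neg (h : Ee G α δ) : Ee G α (-δ) := by simpa using h.smul (-1)
theorem Ee.add (hα : α * α = 0) (h : Ee G α δ) (h' : Ee G α η) : Ee G α (δ + η) :=
  ⟨h.fam.add h'.fam (h.mul hα h'), fun m hm => by
    simp [mem_ker.1 (h.ker hm), mem_ker.1 (h'.ker hm)], (range_add_le _ _).trans (sup_le h.range h'.range)⟩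
theorem Ee.sub (hα : α * α = 0) (h : Ee G α δ) (h' : Ee G α η) : Ee G α (δ - η) := by
  simpa [sub_eq_add_neg] using h.add hα h'.neg
theorem Ee.qm (hα : Qm G α) (h : Ee G α δ) (h0 : δ ≠ 0) : Qm G δ :=
  hα.of_rk ⟨h.mul hα.sq h, h0, h.fam⟩ (rk_mono h.range)
theorem Ee.symm (hα : Qm G α) (h : Ee G α δ) (h0 : δ ≠ 0) : Ee G δ α :=
  have := hα.min _ (h.qm hα h0).toQ
  ⟨hα.fam, (ker_eq h.ker this).ge, (range_eq h.range this).ge⟩
theorem Ee.conj (h : Ee G α δ) {g : (End k M)ˣ} (hg : g ∈ G) :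
    Ee G (g * α * ↑g⁻¹) (g * δ * ↑g⁻¹) := by
  refine ⟨h.fam.conj hg, fun m hm => ?_, ?_⟩
  · have h1 : α ((g⁻¹ : (End k M)ˣ).1 m) = 0 := by
      simpa [← End.mul_apply, ← mul_assoc] using congrArg (g⁻¹ : (End k M)ˣ).1 (mem_ker.1 hm)
    simp [mem_ker.1 (h.ker h1)]
  · rintro _ ⟨m, rfl⟩
    obtain ⟨n, hn⟩ := h.range (mem_range_self δ ((g⁻¹ : (End k M)ˣ).1 m))
    exact ⟨g.1 n, by rw [End.mul_apply, End.mul_apply, End.mul_apply, End.mul_apply, ← hn,
      ← End.mul_apply (g⁻¹ : (End k M)ˣ).1, Units.inv_mul, End.one_apply]⟩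
theorem Ee.opp_left (h : Ee G α δ) (o : Opp α β) : α * (β * δ) = δ := by
  have := h.left (x := α * β - 1) (by rw [sub_mul, o.e1, one_mul, sub_self])
  rwa [sub_mul, one_mul, sub_eq_zero, mul_assoc] at this
theorem Ee.opp_right (h : Ee G α δ) (o : Opp α β) : δ * (β * α) = δ := by
  have := h.right (x := β * α - 1) (by rw [mul_sub, o.e1', mul_one, sub_self])
  rwa [mul_sub, mul_one, sub_eq_zero] at this

/-- the root subgroup of `α` -/
def EE (G : Subgroup (End k M)ˣ) (α : End k M) : Subgroup (End k M)ˣ :=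
  Subgroup.closure {g | Ee G α (g.1 - 1)}

theorem mem_EE (hα : α * α = 0) {g : (End k M)ˣ} : g ∈ EE G α ↔ Ee G α (g.1 - 1) := by
  refine ⟨fun hg => ?_, fun h => Subgroup.subset_closure h⟩
  induction hg using Subgroup.closure_induction with
  | mem x hx => exact hx
  | one => simpa using Ee.zero
  | mul x y _ _ h1 h2 =>
    have := h1.add hα h2
    rwa [show x.1 - 1 + (y.1 - 1) = (x * y).1 - 1 by
      rw [Units.val_mul]; linear_combination (norm := noncomm_ring) -h1.mul hα h2] at this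
  | inv x _ h1 =>
    have := h1.neg
    rwa [show -(x.1 - 1) = (x⁻¹).1 - 1 by
      rw [Units.inv_eq_of_mul_eq_one_right (a := 1 - (x.1 - 1))
        (by linear_combination (norm := noncomm_ring) -h1.mul hα h1)]; abel] at this

theorem un_mem_EE (h : Ee G α δ) (e : δ * δ = 0) : un δ e ∈ EE G α :=
  Subgroup.subset_closure (by simpa using h)

theorem Ee.in (hα : α * α = 0) (h : Ee G α δ) : In (EE G α) δ := ⟨_, un_mem_EE h (h.mul hα h), rfl⟩
theorem Ee.fam_EE (hα : α * α = 0) (h : Ee G α δ) : Fam k (EE G α) δ := fun c => (h.smul c).in hα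
theorem In.ee (hα : α * α = 0) (h : In (EE G α) δ) : Ee G α δ := by
  obtain ⟨g, hg, e⟩ := h
  simpa [e] using (mem_EE hα).1 hg

theorem EE_le : EE G α ≤ G := (Subgroup.closure_le _).2 fun g hg => by
  obtain ⟨a, ha, e⟩ := hg.fam.one
  rwa [show g = a from Units.ext (by rw [e]; abel)]

theorem EE_comm (hα : α * α = 0) : Comm (EE G α) (EE G α) := fun a ha b hb => Units.ext (by
  have h1 := (mem_EE hα).1 ha
  have h2 := (mem_EE hα).1 hb
  rw [Units.val_mul, Units.val_mul]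
  linear_combination (norm := noncomm_ring) h1.mul hα h2 - h2.mul hα h1)

theorem EE_mono (h : Ee G α δ) : EE G δ ≤ EE G α := Subgroup.closure_mono fun _ hg => h.trans hg

theorem EE_eq (hα : Qm G α) (h : Ee G α δ) (h0 : δ ≠ 0) : EE G δ = EE G α :=
  le_antisymm (EE_mono h) (EE_mono (h.symm hα h0))

theorem EE_neg (hα : Qm G α) : EE G (-α) = EE G α :=
  EE_eq hα (Ee.refl hα.fam).neg (neg_ne_zero.2 hα.ne)

theorem un_ne_one (e : δ * δ = 0) (h0 : δ ≠ 0) : un δ e ≠ 1 := fun h =>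
  h0 (by simpa using congrArg Units.val h)

theorem EE_ne_bot (hα : Q G α) : EE G α ≠ ⊥ := fun e =>
  un_ne_one hα.sq hα.ne (Subgroup.mem_bot.1 (e ▸ un_mem_EE (Ee.refl hα.fam) hα.sq))

theorem cj_EE (hα : α * α = 0) {g : (End k M)ˣ} (hg : g ∈ G) : cj g (EE G α) = EE G (g * α * ↑g⁻¹) := by
  ext x
  rw [mem_cj, mem_EE hα, mem_EE (by simp [mul_assoc, mul_zero' hα])]
  constructor
  · intro h
    simpa [mul_sub, sub_mul, mul_assoc] using h.conj hg
  · intro h
    simpa [mul_sub, sub_mul, mul_assoc] using h.conj (inv_mem hg)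

/-! ### the bridge to the definitions -/

theorem mem_quad {σ : (End k M)ˣ} : σ ∈ quadraticElements G ↔ Q G (σ.1 - 1) := by
  constructor
  · rintro ⟨-, h1, h2⟩
    have e : ∀ c : k, c • (σ.1 - 1) * c • (σ.1 - 1) = 0 := fun c => by
      rw [smul_mul_assoc, mul_smul_comm, h1.1, smul_zero, smul_zero]
    exact ⟨h1.1, h1.2, fun c => ⟨un _ (e c), h2 ⟨c, rfl⟩, rfl⟩⟩
  · intro h
    have : ∀ τ ∈ scalarFamily σ, τ ∈ G := by
      rintro τ ⟨c, e⟩
      obtain ⟨g, hg, e'⟩ := h.fam c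
      rwa [show τ = g from Units.ext (e.trans e'.symm)]
    exact ⟨this σ ⟨1, by simp⟩, ⟨h.sq, h.ne⟩, this⟩

theorem Q.un_mem (h : Q G α) : un α h.sq ∈ quadraticElements G := mem_quad.2 (by simpa using h)

theorem mem_min {σ : (End k M)ˣ} : σ ∈ minimalQuadraticElements G ↔ Qm G (σ.1 - 1) :=
  ⟨fun h => ⟨mem_quad.1 h.1, fun β hβ => by
    have := h.2 _ hβ.un_mem
    rwa [commutatorRank, commutatorRank, un_val, add_sub_cancel_left] at this⟩,
    fun h => ⟨mem_quad.2 h.toQ, fun τ hτ => h.min _ (mem_quad.1 hτ)⟩⟩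

theorem mem_class {σ τ : (End k M)ˣ} (h : Qm G (σ.1 - 1)) :
    τ ∈ sameActionClass G σ ↔ Ee G (σ.1 - 1) (τ.1 - 1) ∧ τ ≠ 1 := by
  constructor
  · rintro ⟨h1, h2, h3⟩
    exact ⟨⟨(mem_min.1 h1).fam, h2.ge, h3.le⟩, fun e => (mem_min.1 h1).ne (by simp [e])⟩
  · rintro ⟨h1, h2⟩
    have h0 : τ.1 - 1 ≠ 0 := fun e => h2 (Units.ext (sub_eq_zero.1 e))
    exact ⟨mem_min.2 (h1.qm h h0), le_antisymm (h1.symm h h0).ker h1.ker,
      le_antisymm h1.range (h1.symm h h0).range⟩

theorem same_eq {σ : (End k M)ˣ} (h : Qm G (σ.1 - 1)) : sameActionSubgroup G σ = EE G (σ.1 - 1) := by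
  refine le_antisymm (Subgroup.closure_mono fun τ hτ => ((mem_class h).1 hτ).1)
    ((Subgroup.closure_le _).2 fun τ hτ => ?_)
  rcases eq_or_ne τ 1 with rfl | h1
  exacts [one_mem _, Subgroup.subset_closure ((mem_class h).2 ⟨hτ, h1⟩)]

theorem mem_roots {A : Subgroup (End k M)ˣ} :
    A ∈ quadraticRootSubgroups G ↔ ∃ α, Qm G α ∧ A = EE G α :=
  ⟨fun ⟨σ, h, e⟩ => ⟨_, mem_min.1 h, e.trans (same_eq (mem_min.1 h))⟩, fun ⟨α, h, e⟩ =>
    have h' : Qm G ((un α h.sq).1 - 1) := by simpa using h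
    ⟨un α h.sq, mem_min.2 h', by rw [same_eq h', e]; simp⟩⟩

/-! ### the dichotomy -/

theorem nil_case (h2 : (2 : k) ≠ 0) (hα : Qm G α) (n : ℕ) : ∀ η : End k M, η * η = 0 → Fam k G η →
    (α * η + η * α) ^ n = 0 → α * η * α = 0 := by
  induction n using Nat.strong_induction_on with
  | _ n ih =>
  intro η hη fη h
  rcases n with _ | _ | n
  · rw [← mul_one (α * η * α), ← pow_zero (α * η + η * α), h, mul_zero]
  · simpa [add_mul, mul_assoc, hα.sq] using congrArg (· * α) h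
  have h1 := ih (n + 1) (by omega) _ (hα.conj1 fη.one hη).sq (hα.fam.conj1 fη.one hη) (by
    rw [show α * ((1 + η) * α * (1 - η)) + (1 + η) * α * (1 - η) * α = -(α * η + η * α) ^ 2 by
      simp only [sq, nc k (End k M), hη, mul_zero' hη, hα.sq, mul_zero' hα.sq]; abel, neg_pow,
      ← pow_mul, pow_eq_zero_of_le (by omega) h, mul_zero])
  have h3 : α * η * (α * η * α) = 0 := by
    simp only [nc k (End k M), hη, mul_zero' hη, hα.sq, mul_zero' hα.sq] at h1 ⊢
    linear_combination (norm := abel1) -h1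
  by_contra h0
  have h4 : Ee G α (α * η * α) := Ee.of_eq (theta_fam h2 hα.sq hη hα.fam fη h3) (mul_assoc _ _ _) rfl
  exact h0 ((h4.symm hα h0).left h3)

variable (h2 : ringChar k ≠ 2) (h3 : Nat.card k ≠ 3)
include h2 h3

theorem split (hα : Qm G α) (hη : η * η = 0) (fη : Fam k G η) (h0 : α * η * α ≠ 0) :
    ∃ f a b : k[X], Irreducible f ∧ ¬ f ∣ X ∧ a * f + b * X = 1 ∧ aeval (α * η + η * α) f * α = 0 ∧
      (∀ p : k[X], Fam k G (aeval (α * η + η * α) p * α)) ∧
      ∀ p : k[X], Fam k G (aeval (α * η + η * α) p * (η * α * η)) := by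
  obtain ⟨n, hn⟩ | ⟨f, F, hf, hX, hF, e1, e2⟩ := exists_factor (k := k) (α * η + η * α)
  · exact absurd (nil_case (Ring.two_ne_zero h2) hα n η hη fη hn) h0
  have c1 := comm_aeval (k := k) (gam_left (β := η) hα.sq)
  have c2 := comm_aeval (k := k) (gam_right (α := α) hη)
  have k1 := key h2 h3 hα.sq hη hα.fam fη hf hX hF e1
  have k2 := key h2 h3 hη hα.sq fη hα.fam hf hX hF (add_comm (α * η) (η * α) ▸ e1)
  rw [add_comm (η * α)] at k2
  obtain ⟨γ, hγ⟩ : ∃ γ, γ = α * η + η * α := ⟨_, rfl⟩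
  rw [← hγ] at e1 e2 c1 c2 k1 k2 ⊢
  have x0 : aeval γ (X * F) * α ≠ 0 := fun e => e2 (by
    rw [mul_comm X, map_mul, aeval_X]
    nth_rw 2 [hγ]
    rw [mul_add, ← mul_assoc, ← mul_assoc, e, ← c2, mul_assoc η, e]; simp)
  have x1 : Ee G α (aeval γ (X * F) * α) := Ee.of_eq (by simpa using k1 1) (c1 _).symm rfl
  have x2 : aeval γ f * α = 0 := (x1.symm hα x0).left (by
    rw [← mul_assoc, ← map_mul, mul_left_comm, map_mul, e1]; simp)
  obtain ⟨u, v, e⟩ : IsCoprime f (X * F) := hf.coprime_iff_not_dvd.2 fun ⟨t, e⟩ => x0 (by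
    rw [e, mul_comm f, map_mul, mul_assoc, x2, mul_zero])
  have x3 : aeval γ (v * (X * F)) * α = α := by
    rw [← sub_eq_of_eq_add' e.symm, map_sub, map_mul, sub_mul, mul_assoc, x2]; simp
  refine ⟨f, u, v * F, hf, hX, by linear_combination e, x2, fun p => (k1 (p * v)).congr ?_,
    fun p => (k2 (p * v * X)).congr ?_⟩
  · rw [mul_assoc, map_mul, mul_assoc, x3]
  · rw [show p * v * X * (X * F) = p * (v * (X * F) * X) by ring, map_mul, map_mul, aeval_X,
      mul_assoc, mul_assoc, show γ * η = η * α * η by simp [hγ, add_mul, mul_assoc, hη],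
      mul_assoc η, ← mul_assoc _ η, ← c2, mul_assoc η, ← mul_assoc _ α, x3]

theorem exists_idem (hα : Qm G α) (hη : η * η = 0) (fη : Fam k G η) (h0 : α * η * α ≠ 0) :
    ∃ b : End k M, α * b = b * α ∧ η * b = b * η ∧ b * (α * η * α) = α ∧
      Fam k G (b * (η * α * η)) ∧ Fam k G (b * b * (η * α * η)) := by
  obtain ⟨f, a, b, -, -, e, e1, -, f2⟩ := split h2 h3 hα hη fη h0
  refine ⟨aeval (α * η + η * α) b, comm_aeval (gam_left hα.sq) b, comm_aeval (gam_right hη) b, ?_,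
    f2 b, by simpa using f2 (b * b)⟩
  have := congrArg (fun p => aeval (α * η + η * α) p * α) e
  simpa [add_mul, mul_assoc, e1, hα.sq] using this

theorem exists_opp (hα : Qm G α) (hη : η * η = 0) (fη : Fam k G η) (h0 : α * η * α ≠ 0) :
    ∃ β, Ee G η β ∧ Opp α β ∧ Qm G β := by
  obtain ⟨b, c1, c2, e, -, f⟩ := exists_idem h2 h3 hα hη fη h0
  have c1' : ∀ x, α * (b * x) = b * (α * x) := fun x => by rw [← mul_assoc, c1, mul_assoc]
  have c2' : ∀ x, η * (b * x) = b * (η * x) := fun x => by rw [← mul_assoc, c2, mul_assoc]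
  have e' : ∀ x, b * (α * (η * (α * x))) = α * x := fun x => by
    simpa only [mul_assoc] using congrArg (· * x) e
  have e'' : ∀ x, b * (η * (α * (η * (α * x)))) = η * (α * x) := fun x => by rw [← c2', e']
  have h1 : Ee G η (b * b * (η * α * η)) :=
    Ee.of_eq (x := b * b * (α * η)) (y := b * b * (η * α)) f (by simp only [mul_assoc, c2'])
      (by simp only [mul_assoc])
  have h4 : Opp α (b * b * (η * α * η)) := ⟨hα.sq, h1.mul hη h1, by
    simp only [mul_assoc] at e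
    simp only [mul_assoc, c1', e', e], by simp only [mul_assoc, c1', c2', e'']⟩
  refine ⟨_, h1, h4, hα.of_rk ⟨h4.sq2, fun e => hα.ne (by rw [← h4.e1, e]; simp), f⟩ ?_⟩
  rw [← h4.e2]
  exact (rk_mono (range_mul_le _ _)).trans (rk_mono' (ker_le_mul _ _))

theorem op_inj (hα : Qm G α) (hβ : Qm G β) (h : α * β * α ≠ 0) :
    (∀ x, α * (β * x) = 0 → β * x = 0) ∧ ∀ x, β * (α * x) = 0 → α * x = 0 := by
  obtain ⟨β', h1, o, h4⟩ := exists_opp h2 h3 hα hβ.sq hβ.fam h
  refine ⟨fun x e => ?_, fun x e => ?_⟩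
  · rw [← (h1.symm hβ h4.ne).opp_left o.symm, mul_assoc, mul_assoc, e, mul_zero]
  · rw [← o.e1, mul_assoc, mul_assoc, h1.right e, mul_zero]

theorem op_symm (hα : Qm G α) (hβ : Qm G β) (h : α * β * α ≠ 0) : β * α * β ≠ 0 := fun e =>
  h (by rw [(op_inj h2 h3 hα hβ h).2 β (mul_assoc β α β ▸ e), zero_mul])

theorem nil_symm (hα : Qm G α) (hβ : Qm G β) (h : α * β * α = 0) : β * α * β = 0 :=
  by_contra fun e => op_symm h2 h3 hβ hα e h

theorem op_ee (hα : Qm G α) (hβ : Qm G β) (h : α * β * α ≠ 0) (h1 : Ee G α δ) (h0 : δ ≠ 0) :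
    δ * β * δ ≠ 0 := fun e => h (by
  rw [mul_assoc, (h1.symm hα h0).left ((op_inj h2 h3 hα hβ h).1 δ
    ((h1.symm hα h0).right (mul_assoc δ β δ ▸ e))), mul_zero])

theorem op_ee' (hα : Qm G α) (hβ : Qm G β) (h : α * β * α ≠ 0) (h1 : Ee G β δ) (h0 : δ ≠ 0) :
    α * δ * α ≠ 0 :=
  op_symm h2 h3 (h1.qm hβ h0) hα (op_ee h2 h3 hβ hα (op_symm h2 h3 hα hβ h) h1 h0)

theorem nil_ee (hα : Qm G α) (hβ : Qm G β) (h : α * β * α = 0) (h1 : Ee G α x) (h4 : Ee G β y)
    (h5 : Ee G α z) : x * y * z = 0 := by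
  rcases eq_or_ne y 0 with rfl | h0
  · simp
  refine h5.left ?_
  rw [mul_assoc]
  refine h1.right ?_
  rw [← mul_assoc]
  by_contra e
  exact op_ee' h2 h3 hα (h4.qm hβ h0) e (h4.symm hβ h0) hβ.ne h

end Cfsg.Agent.H3.Qd
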