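import Cfsg.Agent.H3.Quad2

/-! Pairs of root subgroups of a quadratic pair: the opposite case and the nilpotent case. -/

set_option autoImplicit false
set_option linter.unusedSectionVars false
set_option linter.style.haveILetI false
set_option linter.unusedSimpArgs false

namespace Cfsg.Agent.H3.Qd

open Cfsg.Agent.H19 Cfsg.Agent.H3.Dk Polynomial LinearMap Module
open scoped commutatorElement MatrixGroups

theorem cube_of_le {k A : Type*} [Field k] [Ring A] [Algebra k A] {B C : Subgroup Aˣ}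
    {N : Submodule k A} (h : ∀ x ∈ N, ∀ y ∈ N, ∀ z ∈ N, x * y * z = 0) (hB : sp k B ≤ N)
    (hC : sp k C ≤ N) : sp k (B ⊔ C) ^ 3 = ⊥ := by
  have h1 : N * N * N = ⊥ := eq_bot_iff.2 (Submodule.mul_le.2 fun a ha z hz => by
    refine Submodule.mul_induction_on ha (fun x hx y hy => h x hx y hy z hz) fun x y h1 h2 => ?_
    rw [add_mul]; exact add_mem h1 h2)
  have h2 : (N ⊔ N * N) * (N ⊔ N * N) ≤ N * N := by
    simp [Submodule.sup_mul, Submodule.mul_sup, ← mul_assoc, h1]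
  have h3 := sp_sup_le (h2.trans le_sup_right) (hB.trans le_sup_left) (hC.trans le_sup_left)
  refine eq_bot_iff.2 ((pow_le_pow_left' h3 3).trans ?_)
  rw [pow_succ, sq]
  exact (mul_le_mul_left h2 _).trans (by simp [Submodule.mul_sup, ← mul_assoc, h1])

theorem block {k A : Type*} [Field k] [Ring A] [Algebra k A] (h2 : (2 : k) ≠ 0) {S : Submodule k A}
    {π π' ρ ρ' ε : A} (h1 : ∀ t ∈ S, π * t + π' * t = t) (h3 : ∀ t ∈ S, t * ρ + t * ρ' = t)
    (h4 : ∀ t ∈ S, π * t + t * ρ' ∈ S) (p1 : π * π = π) (r1 : ρ * ρ = ρ) (e1 : ρ' * (ε * π) = 0)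
    (e2 : ρ * (ε * π') = 0) (h5 : ∀ t ∈ S, t * ε * t = 0 → t = 0) {t : A} (ht : t ∈ S) :
    π * t = t * ρ := by
  have ad : ∀ t ∈ S, π * t - t * ρ ∈ S := fun t ht => by
    convert sub_mem (h4 t ht) ht using 1
    linear_combination (norm := abel1) -h3 t ht
  have half : ∀ x : A, x + x ∈ S → x ∈ S := fun x hx => by
    have := S.smul_mem (2 : k)⁻¹ hx
    rwa [← two_smul k, smul_smul, inv_mul_cancel₀ h2, one_smul] at this
  have a1 := ad t ht
  have a2 := ad _ a1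
  have b1 : π * (t * ρ') = π * t - π * (t * ρ) := by rw [← mul_sub, eq_sub_of_add_eq' (h3 t ht)]
  have b2 : π' * t * ρ = t * ρ - π * t * ρ := by rw [← sub_mul, eq_sub_of_add_eq' (h1 t ht)]
  have c1 := h5 (π * (t * ρ')) (half _ (by
    convert add_mem a1 a2 using 1
    simp only [b1, nc k A, ← mul_assoc π π, p1, r1]; abel)) (by
    simp only [mul_assoc, mul_eq3 ((mul_assoc ρ' ε π).trans e1), zero_mul, mul_zero])
  have c2 := h5 (π' * t * ρ) (half _ (by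
    convert sub_mem a2 a1 using 1
    simp only [b2, nc k A, ← mul_assoc π π, p1, r1]; abel)) (by
    simp only [mul_assoc, mul_eq3 ((mul_assoc ρ ε π').trans e2), zero_mul, mul_zero])
  rw [b1, sub_eq_zero] at c1
  rw [b2, sub_eq_zero, mul_assoc] at c2
  exact c1.trans c2.symm

variable {k M : Type*} [Field k] [AddCommGroup M] [Module k M] [FiniteDimensional k M]
  {G H : Subgroup (End k M)ˣ} {α β δ ε η x y z : End k M}

theorem mem_sp_EE (hα : α * α = 0) : x ∈ sp k (EE G α) ↔ Ee G α x := by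
  refine ⟨fun h => ?_, fun h => (h.in hα).mem_sp⟩
  induction h using Submodule.span_induction with
  | mem x hx => exact In.ee hα hx
  | zero => exact Ee.zero
  | add x y _ _ h1 h2 => exact h1.add hα h2
  | smul c x _ h1 => exact h1.smul c

theorem mem_fixed {m : M} : m ∈ fixedSubmodule H ↔ ∀ g ∈ H, (g.1 - 1) m = 0 := by
  simp only [fixedSubmodule, Submodule.mem_iInf, mem_ker]

theorem In.range_le (h : In H x) : range x ≤ commutatorSubmodule H := by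
  obtain ⟨g, hg, e⟩ := h
  exact le_iSup₂_of_le (f := fun (g : (End k M)ˣ) (_ : g ∈ H) => range (g.1 - 1)) g hg (by simp [e])

theorem In.fixed_le (h : In H x) : fixedSubmodule H ≤ ker x := fun m hm => by
  obtain ⟨g, hg, e⟩ := h
  simpa [e] using mem_fixed.1 hm g hg

theorem fixed_EE (hα : Q G α) : fixedSubmodule (EE G α) = ker α :=
  le_antisymm ((Ee.refl hα.fam).in hα.sq).fixed_le fun _ hm =>
    mem_fixed.2 fun _ hg => ((mem_EE hα.sq).1 hg).ker hm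

theorem comm_EE (hα : Q G α) : commutatorSubmodule (EE G α) = range α :=
  le_antisymm (iSup₂_le fun _ hg => ((mem_EE hα.sq).1 hg).range) ((Ee.refl hα.fam).in hα.sq).range_le

/-- the elements living in the corner of `e` -/
def Corner (e : End k M) : Subgroup (End k M)ˣ where
  carrier := {g | e * (g.1 - 1) = g.1 - 1 ∧ (g.1 - 1) * e = g.1 - 1}
  one_mem' := by simp
  mul_mem' := fun {a b} ha hb => by
    have : (a * b).1 - 1 = (a.1 - 1) * (b.1 - 1) + (a.1 - 1) + (b.1 - 1) := by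
      rw [Units.val_mul]; noncomm_ring
    exact ⟨by rw [this, mul_add, mul_add, ← mul_assoc, ha.1, hb.1],
      by rw [this, add_mul, add_mul, mul_assoc, ha.2, hb.2]⟩
  inv_mem' := fun {a} ha => by
    constructor
    · rw [show (a⁻¹).1 - 1 = -((a.1 - 1) * (a⁻¹).1) by simp [sub_mul], mul_neg, ← mul_assoc, ha.1]
    · rw [show (a⁻¹).1 - 1 = -((a⁻¹).1 * (a.1 - 1)) by simp [mul_sub], neg_mul, mul_assoc, ha.2]

theorem EE_le_corner (o : Opp α β) : EE G α ≤ Corner (α * β + β * α) := fun g hg => by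
  have h := (mem_EE o.sq1).1 hg
  exact ⟨by rw [add_mul, mul_assoc, mul_assoc, h.opp_left o, h.left o.sq1, mul_zero, add_zero],
    by rw [mul_add, h.opp_right o, ← mul_assoc, h.right o.sq1, zero_mul, zero_add]⟩

theorem sup_le_corner (o : Opp α β) : EE G α ⊔ EE G β ≤ Corner (α * β + β * α) :=
  sup_le (EE_le_corner o) (add_comm (β * α) (α * β) ▸ EE_le_corner o.symm)

theorem Opp.idem (o : Opp α β) : (α * β + β * α) * (α * β + β * α) = α * β + β * α := by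
  simp only [nc k (End k M), o.sq1, o.sq2, mul_zero' o.sq1, mul_zero' o.sq2, o.e1', o.e2']; abel

theorem Opp.fixed (o : Opp α β) (hα : Q G α) (hβ : Q G β) :
    fixedSubmodule (EE G α ⊔ EE G β) = ker (α * β + β * α) := by
  refine le_antisymm (fun m hm => ?_) fun m hm => mem_fixed.2 fun g hg => ?_
  · simp [mem_ker.1 ((((Ee.refl hα.fam).in hα.sq).mono le_sup_left).fixed_le hm),
      mem_ker.1 ((((Ee.refl hβ.fam).in hβ.sq).mono le_sup_right).fixed_le hm)]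
  · rw [← (sup_le_corner o hg).2, End.mul_apply, mem_ker.1 hm, map_zero]

theorem Opp.comm (o : Opp α β) (hα : Q G α) (hβ : Q G β) :
    commutatorSubmodule (EE G α ⊔ EE G β) = range (α * β + β * α) :=
  le_antisymm (iSup₂_le fun _ hg => (sup_le_corner o hg).1 ▸ range_mul_le _ _)
    ((range_add_le _ _).trans (sup_le
      ((range_mul_le _ _).trans (((Ee.refl hα.fam).in hα.sq).mono le_sup_left).range_le)
      ((range_mul_le _ _).trans (((Ee.refl hβ.fam).in hβ.sq).mono le_sup_right).range_le)))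

theorem Opp.swap (o : Opp α β) (hα : Qm G α) (hβ : Qm G β) : ∃ w ∈ EE G α ⊔ EE G β,
    cj w (EE G α) = EE G β ∧ cj w (EE G β) = EE G α := by
  obtain ⟨w, hw, e1, e2, -⟩ := o.exists_w (k := k) (H := EE G α ⊔ EE G β)
    (((Ee.refl hα.fam).in hα.sq).mono le_sup_left) (((Ee.refl hβ.fam).neg.in hβ.sq).mono le_sup_right)
  have := sup_le EE_le EE_le hw
  exact ⟨w, hw, by rw [cj_EE hα.sq this, e1, EE_neg hβ], by rw [cj_EE hβ.sq this, e2, EE_neg hα]⟩

theorem Opp.psl2 (o : Opp α β) (h0 : α ≠ 0) (h1 : Fam k H α) (h2 : Fam k G β) :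
    ∃ A₀ B₀ : Subgroup (End k M)ˣ, A₀ ≤ H ∧ B₀ ≤ G ∧ IsPSL2PairOver k A₀ B₀ ∧ ∀ c : k, In A₀ (c • α) := by
  obtain ⟨φ, hφ, e1, e2⟩ := o.exists_SL2 (k := k) h0 (fun c : k => c • (α * β + β * α))
    (fun _ _ => add_smul _ _ _) (fun z w => by rw [smul_mul_assoc, mul_smul_comm, o.idem, smul_smul])
    (one_smul _ _) (fun z => by rw [smul_mul_assoc, mul_smul_comm, gam_left o.sq1])
    (fun z => by rw [smul_mul_assoc, mul_smul_comm, gam_right o.sq2])
  have f1 : ∀ z, (φ (uu z)).1 = 1 + z • α := fun z => by simp [e1, add_mul, mul_assoc, o.sq1, o.e1']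
  have f2 : ∀ z, (φ (ll z)).1 = 1 + z • β := fun z => by simp [e2, add_mul, mul_assoc, o.sq2, o.e2']
  refine ⟨_, _, ?_, ?_, ⟨φ, ?_, by simp [(MonoidHom.ker_eq_bot_iff φ).2 hφ], rfl, rfl⟩,
    fun c => ⟨_, ⟨uu c, St.mem_upper.2 ⟨c, rfl⟩, rfl⟩, f1 c⟩⟩
  · rintro _ ⟨g, hg, rfl⟩
    obtain ⟨t, rfl⟩ := St.mem_upper.1 hg
    obtain ⟨a, ha, e⟩ := h1 t
    exact (Units.ext (e.trans (f1 t).symm) : a = φ (uu t)) ▸ ha
  · rintro _ ⟨g, hg, rfl⟩
    obtain ⟨t, rfl⟩ := St.mem_lower.1 hg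
    obtain ⟨a, ha, e⟩ := h2 t
    exact (Units.ext (e.trans (f2 t).symm) : a = φ (ll t)) ▸ ha
  · rw [← Subgroup.map_sup, St.upper_sup_lower, MonoidHom.range_eq_map]

/-- the elements acting trivially on the flag of `δ` -/
def UU (δ : End k M) : Submodule k (End k M) where
  carrier := {x | δ * x = 0 ∧ x * δ = 0 ∧ ∀ m, δ m = 0 → x m ∈ range δ}
  zero_mem' := ⟨mul_zero _, zero_mul _, fun _ _ => zero_mem _⟩
  add_mem' := fun ha hb => ⟨by rw [mul_add, ha.1, hb.1, add_zero], by rw [add_mul, ha.2.1, hb.2.1, add_zero],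
    fun m hm => add_mem (ha.2.2 m hm) (hb.2.2 m hm)⟩
  smul_mem' := fun c _ ha => ⟨by rw [mul_smul_comm, ha.1, smul_zero], by rw [smul_mul_assoc, ha.2.1, smul_zero],
    fun m hm => Submodule.smul_mem _ c (ha.2.2 m hm)⟩

theorem UU_mul : UU δ * UU δ ≤ UU δ := Submodule.mul_le.2 fun a ha b hb =>
  ⟨mul_zero' ha.1 _, by rw [mul_assoc, hb.2.1, mul_zero], fun m hm => by
    obtain ⟨n, e⟩ := hb.2.2 m hm
    rw [End.mul_apply, ← e, ← End.mul_apply, ha.2.1]; exact zero_mem _⟩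

theorem UU_neg (h : x ∈ UU δ) : x ∈ UU (-δ) :=
  ⟨by simp [h.1], by simp [h.2.1], fun m hm => range_neg δ ▸ h.2.2 m (by simpa using hm)⟩

/-- a nilpotent noncommuting pair -/
structure NC (G : Subgroup (End k M)ˣ) (α β : End k M) : Prop where
  qa : Qm G α
  qb : Qm G β
  nil : α * β * α = 0
  ne : α * β - β * α ≠ 0

theorem rk_comm_le (e : β * α * β = 0) : rk (β * α - α * β) ≤ rk α := by
  have h1 := rk_mul_add α β
  have h2 : rk (α * β) ≤ finrank k ↥(range α ⊓ ker β) := Submodule.finrank_mono (le_inf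
    (range_mul_le _ _) (range_le_ker_iff.2 ((mul_assoc β α β).symm.trans <| e)))
  have := rk_sub_le (β * α) (α * β)
  omega

variable (h2 : ringChar k ≠ 2) (h3 : Nat.card k ≠ 3)
include h2 h3

theorem ro_aux (hα : Qm G α) (hβ : Qm G β) (h : α * β * α ≠ 0) {a : (End k M)ˣ} (ha : a ∈ EE G α)
    (h1 : a ≠ 1) : ∃ b ∈ EE G β, b ≠ 1 ∧ cj b (EE G α) = cj a (EE G β) ∧ b * a⁻¹ * b⁻¹ = a * b * a⁻¹ := by
  have h4 := (mem_EE hα.sq).1 ha
  have h0 : a.1 - 1 ≠ 0 := fun e => h1 (Units.ext (sub_eq_zero.1 e))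
  obtain ⟨β', h5, o, h6⟩ := exists_opp h2 h3 (h4.qm hα h0) hβ.sq hβ.fam (op_ee h2 h3 hα hβ h h4 h0)
  obtain ⟨α', e, rfl⟩ : ∃ α' : End k M, ∃ e : α' * α' = 0, a = un α' e :=
    ⟨_, o.sq1, Units.ext (by simp)⟩
  simp only [un_val, add_sub_cancel_left] at h4 h0 o
  have key : (1 + β') * α' * (1 - β') = -((1 + α') * β' * (1 - α')) := by
    simp only [nc k (End k M), o.e1', o.e2']; abel
  refine ⟨un β' o.sq2, un_mem_EE h5 _, un_ne_one _ h6.ne, ?_, Units.ext ?_⟩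
  · rw [← EE_eq hα h4 h0, ← EE_eq hβ h5 h6.ne, cj_EE o.sq1 (h6.fam.one.un_mem _),
      cj_EE o.sq2 (h4.fam.one.un_mem _), ← EE_neg (h6.conj (h4.fam.one.un_mem e))]
    exact congrArg _ key
  · simp only [Units.val_mul, un_val, un_inv, nc k (End k M), o.e1', o.e2', o.sq1, o.sq2]; abel

theorem op_ro (hα : Qm G α) (hβ : Qm G β) (h : α * β * α ≠ 0) : IsRankOnePair (EE G α) (EE G β) := by
  refine RO.mk' (fun e => h ?_) (EE_comm hα.sq).nilpotent (EE_comm hβ.sq).nilpotent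
    (fun a ha h1 => ?_) fun b hb h1 => ?_
  · rw [(In.ee hα.sq (e ▸ (Ee.refl hβ.fam).in hβ.sq)).left hα.sq, zero_mul]
  · obtain ⟨b, hb, h4, h5, -⟩ := ro_aux h2 h3 hα hβ h ha h1
    exact ⟨b, hb, h4, h5⟩
  · obtain ⟨a, ha, h4, h5, -⟩ := ro_aux h2 h3 hβ hα (op_symm h2 h3 hα hβ h) hb h1
    exact ⟨a, ha, h4, h5.symm⟩

theorem op_special (hα : Qm G α) (hβ : Qm G β) (h : α * β * α ≠ 0) :
    IsSpecialRankOnePair (EE G α) (EE G β) := by
  refine ⟨op_ro h2 h3 hα hβ h, fun a ha h1 b hb _ e => ?_⟩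
  obtain ⟨c, hc, -, h5, h6⟩ := ro_aux h2 h3 hα hβ h (inv_mem ha) (inv_ne_one.2 h1)
  obtain rfl : c = b⁻¹ := RO.eq_of_cj_eq (RO.symm (op_ro h2 h3 hα hβ h)) hc (inv_mem hb) (h5.trans e.symm)
  simpa using h6

theorem op_opp (hα : Qm G α) (hβ : Qm G β) (h : α * β * α ≠ 0) :
    ∃ β', Qm G β' ∧ Opp α β' ∧ EE G β' = EE G β :=
  let ⟨β', h4, o, h5⟩ := exists_opp h2 h3 hα hβ.sq hβ.fam h
  ⟨β', h5, o, EE_eq hβ h4 h5.ne⟩

theorem nil_cube (hα : Qm G α) (hβ : Qm G β) (h : α * β * α = 0) : sp k (EE G α ⊔ EE G β) ^ 3 = ⊥ := by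
  refine cube_of_le (N := sp k (EE G α) ⊔ sp k (EE G β)) (fun x hx y hy z hz => ?_) le_sup_left le_sup_right
  obtain ⟨a, ha, b, hb, rfl⟩ := Submodule.mem_sup.1 hx
  obtain ⟨a', ha', b', hb', rfl⟩ := Submodule.mem_sup.1 hy
  obtain ⟨a'', ha'', b'', hb'', rfl⟩ := Submodule.mem_sup.1 hz
  rw [mem_sp_EE hα.sq] at ha ha' ha''
  rw [mem_sp_EE hβ.sq] at hb hb' hb''
  have e1 := nil_ee h2 h3 hα hβ h ha hb' ha''
  have e2 := nil_ee h2 h3 hβ hα (nil_symm h2 h3 hα hβ h) hb ha' hb''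
  simp only [add_mul, mul_add, e1, e2, ha.mul hα.sq ha', hb.mul hβ.sq hb', mul_assoc a b' b'',
    mul_assoc b a' a'', ha'.mul hα.sq ha'', hb'.mul hβ.sq hb'', zero_mul, mul_zero, add_zero]

theorem nil_un (hα : Qm G α) (hβ : Qm G β) (h : α * β * α = 0) : Un k (EE G α ⊔ EE G β) :=
  ⟨3, nil_cube h2 h3 hα hβ h⟩

theorem nil_not_ro (hα : Qm G α) (hβ : Qm G β) (h : α * β * α = 0) :
    ¬ IsRankOnePair (EE G α) (EE G β) := fun hr =>
  RO.not_le_nilpotent hr le_sup_left le_sup_right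
    ((Subgroup.isNilpotent_iff_lowerCentralSeries _).2 ⟨2, cube_class (nil_cube h2 h3 hα hβ h)⟩)

theorem ro_iff (hα : Qm G α) (hβ : Qm G β) : IsRankOnePair (EE G α) (EE G β) ↔ α * β * α ≠ 0 :=
  ⟨fun h e => nil_not_ro h2 h3 hα hβ e h, op_ro h2 h3 hα hβ⟩

theorem op_not_un (hα : Qm G α) (hβ : Qm G β) (h : α * β * α ≠ 0) : ¬ Un k (EE G α ⊔ EE G β) := by
  obtain ⟨β', h4, o, e⟩ := op_opp h2 h3 hα hβ h
  rintro ⟨n, hn⟩
  have a := (((Ee.refl hα.fam).in hα.sq).mono (le_sup_left (b := EE G β))).mem_sp (k := k)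
  have b := ((e ▸ (Ee.refl h4.fam).in h4.sq).mono (le_sup_right (a := EE G α))).mem_sp (k := k)
  have := Submodule.pow_mem_pow _ (sp_mul_le _ (Submodule.mul_mem_mul a b)) n
  rw [hn, Submodule.mem_bot] at this
  have e1 : ∀ n : ℕ, (α * β') ^ n * α = α := fun n => by
    induction n with
    | zero => simp
    | succ n ih => rw [pow_succ, mul_assoc, o.e1, ih]
  exact hα.ne (by rw [← e1 n, this, zero_mul])

theorem NC.symm (h : NC G α β) : NC G β α :=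
  ⟨h.qb, h.qa, nil_symm h2 h3 h.qa h.qb h.nil, fun e => h.ne (by rw [← neg_sub, e, neg_zero])⟩

theorem nil_fam (hα : Qm G α) (hβ : Qm G β) (h : α * β * α = 0) (hx : Ee G α x) (hy : Ee G β y) :
    Fam k G (x * y - y * x) :=
  hx.fam.comm hy.fam.one (hy.mul hβ.sq hy) (hx.mul hα.sq hx) (nil_ee h2 h3 hα hβ h hx hy hx)
    (nil_ee h2 h3 hβ hα (nil_symm h2 h3 hα hβ h) hy hx hy)

theorem NC.qm (h : NC G α β) : Qm G (α * β - β * α) := by
  have e := (h.symm h2 h3).nil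
  refine h.qb.of_rk ⟨?_, h.ne, nil_fam h2 h3 h.qa h.qb h.nil (Ee.refl h.qa.fam) (Ee.refl h.qb.fam)⟩
    (rk_comm_le h.nil)
  simp only [nc k (End k M), mul_zero' h.qa.sq, mul_zero' h.qb.sq, mul_zero3 h.nil, mul_zero3 e]; simp

theorem NC.shape (h : NC G α β) :
    range (α * β - β * α) = range α ⊓ ker β ⊔ range β ⊓ ker α ∧
    ker (α * β - β * α) = (range α ⊔ ker β) ⊓ (range β ⊔ ker α) ∧
    range α ⊓ ker β ⊓ (range β ⊓ ker α) = ⊥ := by
  have e := (h.symm h2 h3).nil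
  have a1 := rk_mul_add α β
  have a2 := rk_mul_add β α
  have b1 : range (α * β) ≤ range α ⊓ ker β :=
    le_inf (range_mul_le _ _) (range_le_ker_iff.2 ((mul_assoc β α β).symm.trans <| e))
  have b2 : range (β * α) ≤ range β ⊓ ker α :=
    le_inf (range_mul_le _ _) (range_le_ker_iff.2 ((mul_assoc α β α).symm.trans <| h.nil))
  have c1 : rk (α * β) ≤ _ := Submodule.finrank_mono b1
  have c2 : rk (β * α) ≤ _ := Submodule.finrank_mono b2
  have d1 := rk_sub_le (α * β) (β * α)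
  have d2 := h.qa.rk_eq (h.qm h2 h3)
  have d3 := h.qa.rk_eq h.qb
  have f1 := (range_sub_le _ _).trans (sup_le_sup b1 b2)
  have f2 : rk (α * β - β * α) ≤ _ := Submodule.finrank_mono f1
  have f3 := Submodule.finrank_sup_add_finrank_inf_eq (range α ⊓ ker β) (range β ⊓ ker α)
  refine ⟨Submodule.eq_of_le_of_finrank_le f1 (by change _ ≤ rk _; omega),
    (Submodule.eq_of_le_of_finrank_le ?_ ?_).symm, Submodule.finrank_eq_zero.1 (by omega)⟩
  · intro m hm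
    have g1 : range α ⊔ ker β ≤ ker (α * β) := sup_le (range_le_ker_iff.2 h.nil) (ker_le_mul _ _)
    have g2 : range β ⊔ ker α ≤ ker (β * α) := sup_le (range_le_ker_iff.2 e) (ker_le_mul _ _)
    rw [mem_ker, LinearMap.sub_apply, mem_ker.1 (g1 hm.1), mem_ker.1 (g2 hm.2), sub_zero]
  · have g1 := Submodule.finrank_sup_add_finrank_inf_eq (range α) (ker β)
    have g2 := Submodule.finrank_sup_add_finrank_inf_eq (range β) (ker α)
    have g3 := Submodule.finrank_sup_add_finrank_inf_eq (range α ⊔ ker β) (range β ⊔ ker α)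
    have g4 := Submodule.finrank_le ((range α ⊔ ker β) ⊔ (range β ⊔ ker α))
    have g5 := rk_add_ker α
    have g6 := rk_add_ker β
    have g7 := rk_add_ker (α * β - β * α)
    change _ = rk α + _ at g1
    change _ = rk β + _ at g2
    omega

theorem NC.ee (h : NC G α β) (hx : Ee G α x) (hy : Ee G β y) : Ee G (α * β - β * α) (x * y - y * x) := by
  obtain ⟨s1, s2, -⟩ := h.shape h2 h3
  have e := (h.symm h2 h3).nil
  have ra := Ee.refl h.qa.fam
  have rb := Ee.refl h.qb.fam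
  refine ⟨nil_fam h2 h3 h.qa h.qb h.nil hx hy, s2 ▸ fun m hm => ?_, s1 ▸ (range_sub_le _ _).trans
    (sup_le_sup (le_inf ((range_mul_le _ _).trans hx.range) (range_le_ker_iff.2
      ((mul_assoc β x y).symm.trans <| nil_ee h2 h3 h.qb h.qa e rb hx hy))) (le_inf ((range_mul_le _ _).trans hy.range)
      (range_le_ker_iff.2 ((mul_assoc α y x).symm.trans <| nil_ee h2 h3 h.qa h.qb h.nil ra hy hx))))⟩
  have g1 : range α ⊔ ker β ≤ ker (x * y) := sup_le (range_le_ker_iff.2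
    (nil_ee h2 h3 h.qa h.qb h.nil hx hy ra)) (hy.ker.trans (ker_le_mul _ _))
  have g2 : range β ⊔ ker α ≤ ker (y * x) := sup_le (range_le_ker_iff.2
    (nil_ee h2 h3 h.qb h.qa e hy hx rb)) (hx.ker.trans (ker_le_mul _ _))
  rw [mem_ker, LinearMap.sub_apply, mem_ker.1 (g1 hm.1), mem_ker.1 (g2 hm.2), sub_zero]

theorem NC.of_ee (h : NC G α β) (hx : Ee G α x) (x0 : x ≠ 0) (hy : Ee G β y) (y0 : y ≠ 0) : NC G x y := by
  obtain ⟨-, -, s3⟩ := h.shape h2 h3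
  have e := (h.symm h2 h3).nil
  refine ⟨hx.qm h.qa x0, hy.qm h.qb y0, nil_ee h2 h3 h.qa h.qb h.nil hx hy hx, fun e1 => h.ne ?_⟩
  rw [sub_eq_zero] at e1
  have e2 : x * y = 0 := range_eq_bot.1 (eq_bot_iff.2 (s3 ▸ le_inf
    (le_inf ((range_mul_le _ _).trans hx.range) (range_le_ker_iff.2
      ((mul_assoc β x y).symm.trans <| nil_ee h2 h3 h.qb h.qa e (Ee.refl h.qb.fam) hx hy)))
    (e1 ▸ le_inf ((range_mul_le _ _).trans hy.range) (range_le_ker_iff.2
      ((mul_assoc α y x).symm.trans <| nil_ee h2 h3 h.qa h.qb h.nil (Ee.refl h.qa.fam) hy hx)))))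
  rw [(hx.symm h.qa x0).right ((hy.symm h.qb y0).left e2),
    (hy.symm h.qb y0).right ((hx.symm h.qa x0).left (e1 ▸ e2)), sub_zero]

theorem NC.mem_UU (h : NC G α β) (hx : Ee G α x) : x ∈ UU (α * β - β * α) := by
  obtain ⟨s1, s2, -⟩ := h.shape h2 h3
  have ra := Ee.refl h.qa.fam
  have rb := Ee.refl h.qb.fam
  refine ⟨hx.left (by rw [sub_mul, h.nil, mul_assoc, h.qa.sq]; simp),
    hx.right (by rw [mul_sub, ← mul_assoc, ← mul_assoc, h.nil, h.qa.sq]; simp), fun m hm => ?_⟩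
  obtain ⟨_, ⟨u, rfl⟩, c, hc, rfl⟩ := Submodule.mem_sup.1 (s2 ▸ (mem_ker.2 hm)).2
  rw [s1, map_add, mem_ker.1 (hx.ker hc), add_zero]
  exact Submodule.mem_sup_left ⟨hx.range (mem_range_self _ _), congrArg (fun f : End k M => f u)
    (nil_ee h2 h3 h.qb h.qa (h.symm h2 h3).nil rb hx rb)⟩

theorem NC.mem_UU' (h : NC G α β) (hx : Ee G β x) : x ∈ UU (α * β - β * α) :=
  neg_sub (β * α) (α * β) ▸ UU_neg ((h.symm h2 h3).mem_UU h2 h3 hx)

theorem NC.sp_le (h : NC G α β) : sp k (EE G α ⊔ EE G β) ≤ UU (α * β - β * α) :=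
  sp_sup_le UU_mul (fun _ hx => h.mem_UU h2 h3 ((mem_sp_EE h.qa.sq).1 hx))
    fun _ hx => h.mem_UU' h2 h3 ((mem_sp_EE h.qb.sq).1 hx)

theorem nil_comm_val (hα : Qm G α) (hβ : Qm G β) (h : α * β * α = 0) {a b : (End k M)ˣ}
    (ha : a ∈ EE G α) (hb : b ∈ EE G β) :
    (⁅a, b⁆ : (End k M)ˣ).1 = 1 + ((a.1 - 1) * (b.1 - 1) - (b.1 - 1) * (a.1 - 1)) :=
  cube_comm (nil_cube h2 h3 hα hβ h) (Subgroup.mem_sup_left ha) (Subgroup.mem_sup_right hb)

theorem NC.comm_mem (h : NC G α β) {a b : (End k M)ˣ} (ha : a ∈ EE G α) (hb : b ∈ EE G β) :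
    ⁅a, b⁆ ∈ EE G (α * β - β * α) := by
  rw [mem_EE (h.qm h2 h3).sq, nil_comm_val h2 h3 h.qa h.qb h.nil ha hb, add_sub_cancel_left]
  exact h.ee h2 h3 ((mem_EE h.qa.sq).1 ha) ((mem_EE h.qb.sq).1 hb)

theorem NC.comm_ne (h : NC G α β) {a b : (End k M)ˣ} (ha : a ∈ EE G α) (a1 : a ≠ 1) (hb : b ∈ EE G β)
    (b1 : b ≠ 1) : ⁅a, b⁆ ≠ 1 := fun e => (h.of_ee h2 h3 ((mem_EE h.qa.sq).1 ha)
  (fun e => a1 (Units.ext (sub_eq_zero.1 e))) ((mem_EE h.qb.sq).1 hb)
  (fun e => b1 (Units.ext (sub_eq_zero.1 e)))).ne (by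
    simpa [e] using (nil_comm_val h2 h3 h.qa h.qb h.nil ha hb).symm)

theorem nil_comm (hα : Qm G α) (hβ : Qm G β) (h : α * β * α = 0) (e : α * β - β * α = 0) :
    Comm (EE G α) (EE G β) := fun a ha b hb => by
  have hx := (mem_EE hα.sq).1 ha
  have hy := (mem_EE hβ.sq).1 hb
  rw [← commutatorElement_eq_one_iff_mul_comm]
  refine Units.ext ?_
  rw [nil_comm_val h2 h3 hα hβ h ha hb, Units.val_one, add_eq_left]
  by_contra e1
  have x0 : a.1 - 1 ≠ 0 := fun e => e1 (by simp [e])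
  have y0 : b.1 - 1 ≠ 0 := fun e => e1 (by simp [e])
  exact (NC.of_ee h2 h3 ⟨hx.qm hα x0, hy.qm hβ y0, nil_ee h2 h3 hα hβ h hx hy hx, e1⟩
    (hx.symm hα x0) hα.ne (hy.symm hβ y0) hβ.ne).ne e

theorem trich (hα : Qm G α) (hβ : Qm G β) : α * β * α ≠ 0 ∨ Comm (EE G α) (EE G β) ∨ NC G α β := by
  by_cases h : α * β * α = 0
  · by_cases e : α * β - β * α = 0
    exacts [Or.inr (Or.inl (nil_comm h2 h3 hα hβ h e)), Or.inr (Or.inr ⟨hα, hβ, h, e⟩)]
  · exact Or.inl h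

end Cfsg.Agent.H3.Qd
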