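import Cfsg.Agent.H3.Quad3
import Cfsg.Agent.H19.Root1

/-! The commutator case for the root subgroups of a quadratic pair. -/

set_option autoImplicit false
set_option linter.unusedSectionVars false
set_option linter.style.haveILetI false
set_option linter.unusedSimpArgs false

namespace Cfsg.Agent.H3.Qd

open Cfsg.Agent.H19 Cfsg.Agent.H3.Dk Polynomial LinearMap Module
open scoped commutatorElement MatrixGroups

variable {k M : Type*} [Field k] [AddCommGroup M] [Module k M] [FiniteDimensional k M]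
  {G H : Subgroup (End k M)ˣ} {α β δ ε η x y z : End k M}

theorem purify (h2 : (2 : k) ≠ 0) (hα : Qm G α) (o : Opp δ ε) (h4 : Fam k G δ) (h5 : Fam k G ε)
    (hu : α ∈ UU δ) : Ee G δ (δ * ε * α * ε * δ) ∧
      (α - δ * ε * α * ε * δ ≠ 0 → Qm G (α - δ * ε * α * ε * δ)) := by
  obtain ⟨u1, u2, u3⟩ := hu
  have R : (1 - δ * ε) * (α * (1 - ε * δ)) = 0 := LinearMap.ext fun m => by
    obtain ⟨n, e⟩ := u3 ((1 - ε * δ) m) (by
      rw [← End.mul_apply, mul_sub, o.e1', mul_one, sub_self]; rfl)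
    rw [End.mul_apply, End.mul_apply, ← e, ← End.mul_apply, sub_mul, o.e1, one_mul, sub_self]; rfl
  have R' := R
  simp only [nc k (End k M)] at R'
  obtain ⟨w, hw, -, -, e⟩ := o.exists_w (k := k) h4.one h5.neg.one
  have e' : ((w * w)⁻¹).1 = 1 - 2 * (δ * ε + ε * δ) := Units.inv_eq_of_mul_eq_one_right (by
    rw [e]; linear_combination (norm := noncomm_ring) 4 * o.idem)
  have f1 := hα.fam.add (hα.fam.conj (mul_mem hw hw)) (by
    rw [e, e', two_mul]
    simp only [nc k (End k M), u1, u2, mul_zero' u1, mul_zero' u2, hα.sq, mul_zero' hα.sq]; simp)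
  have f2 : Fam k G (δ * ε * α * ε * δ) := (f1.smul 2⁻¹).congr (by
    rw [e, e', inv_smul_eq_iff₀ h2, two_smul, two_mul]
    simp only [nc k (End k M), u1, u2, mul_zero' u1, mul_zero' u2]
    linear_combination (norm := abel1) R' + R')
  refine ⟨Ee.of_eq (x := ε * α * ε * δ) f2 (by simp only [mul_assoc]) rfl, fun h0 => hα.of_rk
    ⟨?_, h0, hα.fam.sub f2 (by simp only [mul_assoc, mul_zero' u2])⟩ ?_⟩
  · simp only [nc k (End k M), u1, u2, mul_zero' u1, mul_zero' u2, hα.sq, mul_zero' o.sq1]; simp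
  · have a1 := rk_mul_add α (1 - δ * ε)
    have a2 : rk (α * (1 - ε * δ)) ≤ finrank k ↥(range α ⊓ ker (1 - δ * ε)) :=
      Submodule.finrank_mono (le_inf (range_mul_le _ _) (range_le_ker_iff.2 R))
    have a3 := rk_add_le (α * (1 - ε * δ)) ((1 - δ * ε) * α)
    rw [show α * (1 - ε * δ) + (1 - δ * ε) * α = α - δ * ε * α * ε * δ by
      simp only [nc k (End k M)]; linear_combination (norm := abel1) R'] at a3
    omega

variable (h2 : ringChar k ≠ 2) (h3 : Nat.card k ≠ 3)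
include h2 h3

theorem exists_op (hG : NoUn k G) (hα : Qm G α) : ∃ β, Qm G β ∧ Opp α β := by
  by_contra hc
  let W : Set (Subgroup (End k M)ˣ) := {A | ∃ β, Qm G β ∧ (∀ γ, Qm G γ → β * γ * β = 0) ∧ A = EE G β}
  have h1 : ∀ A ∈ W, A ≤ G := by rintro _ ⟨β, -, -, rfl⟩; exact EE_le
  have h4 : ∀ A ∈ W, ∀ g ∈ G, cj g A ∈ W := by
    rintro _ ⟨β, hβ, h, rfl⟩ g hg
    refine ⟨_, hβ.conj hg, fun γ hγ => ?_, cj_EE hβ.sq hg⟩
    simpa [mul_assoc] using congrArg (· * (g⁻¹).1) (h _ (hγ.conj (inv_mem hg)))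
  have := hG _ (iSup₂_le h1) (fun g hg => cj_biSup h4 hg) (baer h1 h4 (by
    rintro _ ⟨β, hβ, h, rfl⟩ _ ⟨γ, hγ, -, rfl⟩
    exact nil_un h2 h3 hβ hγ (h γ hγ)))
  refine EE_ne_bot hα.toQ (eq_bot_iff.2 (this ▸ le_iSup₂_of_le
    (f := fun (A : Subgroup (End k M)ˣ) (_ : A ∈ W) => A) _ ⟨α, hα, fun γ hγ => ?_, rfl⟩ le_rfl))
  by_contra e
  obtain ⟨β, h5, o, -⟩ := op_opp h2 h3 hα hγ e
  exact hc ⟨β, h5, o⟩

theorem pure_surj (h : NC G α β) (hδ : α * β - β * α = δ) (hε : Qm G ε) (o : Opp δ ε)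
    (e1 : ε * α * ε = 0) (e2 : ε * β * ε = 0) (ht : Ee G δ x) :
    ∃ θ, Ee G β θ ∧ α * θ - θ * α = x := by
  have qδ : Qm G δ := hδ ▸ h.qm h2 h3
  have ua : α ∈ UU δ := hδ ▸ h.mem_UU h2 h3 (Ee.refl h.qa.fam)
  have ub : β ∈ UU δ := hδ ▸ h.mem_UU' h2 h3 (Ee.refl h.qb.fam)
  have a1 := nil_symm h2 h3 hε h.qa e1
  have b1 := nil_symm h2 h3 hε h.qb e2
  have ab := h.nil
  have ba := (h.symm h2 h3).nil
  have fθ : ∀ t, Ee G δ t → Fam k G (β * ε * t + t * ε * β) := fun t ht => by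
    have t1 := ht.left ub.2.1
    have t2 := ht.right ub.1
    have fκ := nil_fam h2 h3 h.qb hε b1 (Ee.refl h.qb.fam) (Ee.refl hε.fam)
    rcases eq_or_ne t 0 with rfl | t0
    · simpa using Fam.zero
    by_cases k0 : β * ε - ε * β = 0
    · rw [sub_eq_zero] at k0
      rw [mul_assoc t, ← k0, mul_zero' t2, k0, mul_assoc, t1]
      simpa using Fam.zero
    have qκ := NC.qm h2 h3 ⟨h.qb, hε, b1, k0⟩
    have n1 : t * (β * ε - ε * β) * t = 0 := by simp only [nc k (End k M), t1, mul_zero' t2]; simp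
    exact (nil_fam h2 h3 qκ (ht.qm qδ t0) (nil_symm h2 h3 (ht.qm qδ t0) qκ n1) (Ee.refl qκ.fam)
      (Ee.refl ht.fam)).congr (by simp only [nc k (End k M), t1, mul_zero' t2]; abel)
  have fT : ∀ t, Ee G δ t → Fam k G (α * β * ε * t - t * (ε * β * α)) := fun t ht => by
    have t1 := ht.left ub.2.1
    have t2 := ht.right ub.1
    have t3 := ht.left ua.2.1
    have t4 := ht.right ua.1
    have t5 := ht.mul qδ.sq ht
    refine (h.qa.fam.comm (fθ t ht).one ?_ h.qa.sq ?_ ?_).congr ?_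
    all_goals
      simp only [nc k (End k M), t1, t2, t3, t4, mul_zero' t1, mul_zero' t2, mul_zero' t3, mul_zero' t4,
        mul_zero' t5, mul_zero' h.qb.sq, mul_zero3 ba]
      abel
  have s1 : ε * (α * (β * ε)) - ε * (β * (α * ε)) = ε := by
    simpa only [← hδ, nc k (End k M)] using o.e2
  have p1 : α * β * ε * (α * β * ε) = α * β * ε := by
    simpa only [nc k (End k M), mul_zero3 b1, sub_zero] using congrArg (α * β * ·) s1
  have r1 : ε * α * β * (ε * α * β) = ε * α * β := by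
    simpa only [nc k (End k M), mul_zero3 a1, sub_zero] using congrArg (· * (α * β)) s1
  have r2 : -(ε * (β * (α * (ε * (β * α))))) = ε * (β * α) := by
    simpa only [nc k (End k M), mul_zero3 b1, zero_sub] using congrArg (· * (β * α)) s1
  have l1 : ∀ t, Ee G δ t → α * β * ε * t + -(β * α * ε) * t = t := fun t ht => by
    simpa only [← hδ, nc k (End k M), sub_eq_add_neg] using ht.opp_left o
  have l2 : ∀ t, Ee G δ t → t * (ε * α * β) + t * -(ε * β * α) = t := fun t ht => by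
    simpa only [← hδ, nc k (End k M), sub_eq_add_neg] using ht.opp_right o
  have key := block (k := k) (Ring.two_ne_zero h2) (S := sp k (EE G δ)) (π := α * β * ε)
    (π' := -(β * α * ε)) (ρ := ε * α * β) (ρ' := -(ε * β * α)) (ε := ε)
    (fun t ht => l1 t ((mem_sp_EE qδ.sq).1 ht)) (fun t ht => l2 t ((mem_sp_EE qδ.sq).1 ht))
    (fun t ht => by
      rw [mem_sp_EE qδ.sq] at ht ⊢
      rw [mul_neg, ← sub_eq_add_neg]
      refine Ee.of_eq (x := ε * (α * β * ε * t - t * (ε * β * α)))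
        (y := (α * β * ε * t - t * (ε * β * α)) * ε) (fT t ht) ?_ ?_
      · rw [mul_sub, mul_sub, ← mul_assoc ε t, ← mul_assoc δ (ε * t), ht.opp_left o, ← hδ]
        have := congrArg (· * t) p1
        simp only [nc k (End k M), mul_zero3 a1, sub_zero] at this ⊢
        rw [this]
      · rw [sub_mul, sub_mul, mul_assoc _ ε δ, mul_assoc _ t, ht.opp_right o, ← hδ]
        have := congrArg (t * ·) r2
        simp only [nc k (End k M), mul_zero3 a1, zero_sub] at this ⊢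
        rw [this])
    p1 r1 (by simp only [nc k (End k M), mul_zero3 a1, neg_zero])
    (by simp only [nc k (End k M), mul_zero3 b1, neg_zero])
    (fun t ht e => by
      rw [mem_sp_EE qδ.sq] at ht
      by_contra t0
      exact op_ee h2 h3 qδ hε (by rw [o.e1]; exact qδ.ne) ht t0 e) ((mem_sp_EE qδ.sq).2 ht)
  have m1 := l1 x ht
  have m2 := l2 x ht
  have k1 : β * ε * x = β * (ε * x * ε * α) * β := by
    have c1 := congrArg (β * ε * ·) m1
    have c2 := congrArg (β * ε * ·) key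
    simp only [nc k (End k M), mul_zero3 b1, neg_zero, add_zero] at c1 c2 ⊢
    rw [← c1, c2]
  have k2 : x * ε * β = β * -(α * ε * x * ε) * β := by
    have c1 := congrArg (· * (ε * β)) m1
    have c2 := congrArg (· * (ε * β)) key
    simp only [nc k (End k M), mul_assoc β ε β ▸ b1] at c1 c2 ⊢
    rw [c2, zero_add] at c1
    exact c1.symm
  refine ⟨β * ε * x + x * ε * β, Ee.of_eq (x := (ε * x * ε * α - α * ε * x * ε) * β)
    (y := β * (ε * x * ε * α - α * ε * x * ε)) (fθ x ht) ?_ ?_, ?_⟩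
  · rw [k1, k2]; noncomm_ring
  · rw [k1, k2]; noncomm_ring
  · simp only [nc k (End k M), mul_zero' (ht.left ua.2.1), ht.right ua.1] at key m2 ⊢
    linear_combination (norm := abel1) key + m2

theorem NC.surj (hG : NoUn k G) (h : NC G α β) (ht : Ee G (α * β - β * α) x) :
    ∃ θ, Ee G β θ ∧ α * θ - θ * α = x := by
  obtain ⟨δ, hδ⟩ : ∃ δ, α * β - β * α = δ := ⟨_, rfl⟩
  have qδ : Qm G δ := hδ ▸ h.qm h2 h3
  have ua : α ∈ UU δ := hδ ▸ h.mem_UU h2 h3 (Ee.refl h.qa.fam)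
  have ub : β ∈ UU δ := hδ ▸ h.mem_UU' h2 h3 (Ee.refl h.qb.fam)
  rw [hδ] at ht
  obtain ⟨ε, hε, o⟩ := exists_op h2 h3 hG qδ
  obtain ⟨a2, a1⟩ := purify (Ring.two_ne_zero h2) h.qa o qδ.fam hε.fam ua
  obtain ⟨b2, b1⟩ := purify (Ring.two_ne_zero h2) h.qb o qδ.fam hε.fam ub
  have pa : ε * (α - δ * ε * α * ε * δ) * ε = 0 := by
    simp only [nc k (End k M), o.e2', mul_eq3 o.e2, sub_self]
  have pb : ε * (β - δ * ε * β * ε * δ) * ε = 0 := by
    simp only [nc k (End k M), o.e2', mul_eq3 o.e2, sub_self]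
  generalize δ * ε * α * ε * δ = α₂ at a1 a2 pa
  generalize δ * ε * β * ε * δ = β₂ at b1 b2 pb
  have c1 := b2.left ua.2.1
  have c2 := b2.right ua.1
  have c3 := a2.left ub.2.1
  have c4 := a2.right ub.1
  have e1 : (α - α₂) * (β - β₂) = α * β := by
    simp only [nc k (End k M), c1, c4, a2.mul qδ.sq b2, sub_zero]
  have e2 : (β - β₂) * (α - α₂) = β * α := by
    simp only [nc k (End k M), c2, c3, b2.mul qδ.sq a2, sub_zero]
  have e3 : (α - α₂) * (β - β₂) - (β - β₂) * (α - α₂) = δ := by rw [e1, e2, hδ]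
  have h1 : NC G (α - α₂) (β - β₂) := ⟨a1 fun e => qδ.ne (by rw [← e3, e]; simp),
    b1 fun e => qδ.ne (by rw [← e3, e]; simp), by
      rw [e1, mul_sub, h.nil, mul_assoc, c3]; simp, e3 ▸ qδ.ne⟩
  obtain ⟨θ, t1, t2⟩ := pure_surj h2 h3 h1 e3 hε o pa pb ht
  obtain ⟨φ, f1, f2⟩ := pure_surj h2 h3 (h1.symm h2 h3) (δ := -δ) (ε := -ε) (x := β₂)
    (by rw [← e3, neg_sub]) ((Ee.refl hε.fam).neg.qm hε (neg_ne_zero.2 hε.ne)) o.neg
    (by simpa using pb) (by simpa using pa)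
    (((Ee.refl qδ.fam).neg.symm qδ (neg_ne_zero.2 qδ.ne)).trans b2)
  have u1 : α - α₂ ∈ UU δ := e3 ▸ h1.mem_UU h2 h3 (Ee.refl h1.qa.fam)
  have u2 : β - β₂ ∈ UU δ := e3 ▸ h1.mem_UU' h2 h3 (Ee.refl h1.qb.fam)
  have hφ : -φ * -φ = 0 := f1.neg.mul h1.qa.sq f1.neg
  have n1 := nil_ee h2 h3 h1.qa h1.qb h1.nil f1 (Ee.refl h1.qb.fam) f1
  have n2 := nil_ee h2 h3 h1.qa h1.qb h1.nil f1 t1 f1
  have n3 := nil_ee h2 h3 h1.qa h1.qb h1.nil (Ee.refl h1.qa.fam) t1 f1
  have n4 := nil_ee h2 h3 h1.qa h1.qb h1.nil f1 t1 (Ee.refl h1.qa.fam)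
  have := t1.conj (f1.fam.neg.one.un_mem hφ)
  simp only [un_val, un_inv] at this
  rw [show (1 + -φ) * (β - β₂) * (1 - -φ) = β by
    linear_combination (norm := noncomm_ring) f2 - n1] at this
  refine ⟨_, this, ?_⟩
  have d1 := a2.right (t1.left u2.1)
  have d2 := a2.left (t1.right u2.2.1)
  have d3 := a2.right (f1.left u1.1)
  have d4 := a2.left (f1.right u1.2.1)
  have d5 := f1.left h1.qa.sq
  have d6 := f1.right h1.qa.sq
  rw [show α = (α - α₂) + α₂ by abel, ← t2]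
  generalize α - α₂ = α₁ at *
  simp only [nc k (End k M), d1, d2, d3, d4, d5, d6, mul_zero' d1, mul_zero' d3, mul_zero' d5,
    mul_assoc α₁ θ φ ▸ n3, mul_assoc φ θ α₁ ▸ n4, mul_assoc φ θ φ ▸ n2, mul_zero3 n2]
  abel

variable (hG : NoUn k G)
include hG

theorem NC.surjB (h : NC G α β) {a c : (End k M)ˣ} (ha : a ∈ EE G α) (a1 : a ≠ 1)
    (hc : c ∈ EE G (α * β - β * α)) : ∃ b ∈ EE G β, c = ⁅a, b⁆ := by
  have hx := (mem_EE h.qa.sq).1 ha
  have h1 := h.of_ee h2 h3 hx (fun e => a1 (Units.ext (sub_eq_zero.1 e))) (Ee.refl h.qb.fam) h.qb.ne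
  obtain ⟨θ, t1, t2⟩ := h1.surj h2 h3 hG (((h.ee h2 h3 hx (Ee.refl h.qb.fam)).symm (h.qm h2 h3) h1.ne).trans
    ((mem_EE (h.qm h2 h3).sq).1 hc))
  have hb := un_mem_EE t1 (t1.mul h.qb.sq t1)
  refine ⟨_, hb, Units.ext ?_⟩
  rw [nil_comm_val h2 h3 h.qa h.qb h.nil ha hb, un_val, add_sub_cancel_left, t2]; abel

theorem NC.commutator (h : NC G α β) : ⁅EE G α, EE G β⁆ = EE G (α * β - β * α) := by
  refine le_antisymm (Subgroup.commutator_le.2 fun a ha b hb => h.comm_mem h2 h3 ha hb) fun c hc => ?_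
  have ha := un_mem_EE (Ee.refl h.qa.fam) h.qa.sq
  obtain ⟨b, hb, rfl⟩ := h.surjB h2 h3 hG ha (un_ne_one _ h.qa.ne) hc
  exact Subgroup.commutator_mem_commutator ha hb

theorem NC.cc {S : Set (Subgroup (End k M)ˣ)} (h : NC G α β) (hS : EE G (α * β - β * α) ∈ S) :
    CC S (EE G α) (EE G β) := by
  have c := comm_iff.2 (cube_class (nil_cube h2 h3 h.qa h.qb h.nil))
  have c' : ⁅EE G α, EE G β⁆ ≤ ⁅EE G α ⊔ EE G β, EE G α ⊔ EE G β⁆ :=
    Subgroup.commutator_mono le_sup_left le_sup_right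
  refine ⟨h.commutator h2 h3 hG ▸ hS, c.mono c' le_sup_left, c.mono c' le_sup_right,
    fun a ha a1 c hc => h.surjB h2 h3 hG ha a1 (h.commutator h2 h3 hG ▸ hc), fun b hb b1 c hc => ?_⟩
  obtain ⟨a, ha, e⟩ := (h.symm h2 h3).surjB h2 h3 hG hb b1 (c := c⁻¹) (by
    rw [← (h.symm h2 h3).commutator h2 h3 hG, Subgroup.commutator_comm]; exact inv_mem hc)
  exact ⟨a, ha, by rw [← commutatorElement_inv, ← e, inv_inv]⟩

theorem NC.core (h : NC G α β) : ((EE G α ⊔ EE G β : Subgroup (End k M)ˣ) : Set (End k M)ˣ) ⊆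
    quadraticUnipotentCore G ⁅EE G α, EE G β⁆ := fun g hg => by
  have u := h.sp_le h2 h3 (In.of_mem hg).mem_sp
  refine ⟨sup_le EE_le EE_le hg, cj_eq_self_iff.1 (Root.cj_commutator_self hg), ?_⟩
  rw [h.commutator h2 h3 hG, fixed_EE (h.qm h2 h3).toQ, comm_EE (h.qm h2 h3).toQ]
  refine ⟨fun m => congrArg (fun f : End k M => f m) u.1, fun m hm => u.2.2 m hm, ?_⟩
  rintro _ ⟨m, rfl⟩
  exact sub_eq_zero.1 (congrArg (fun f : End k M => f m) u.2.1)

end Cfsg.Agent.H3.Qd
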