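import Cfsg.Agent.H3.Quad4

/-! The components of the root subgroups of a quadratic pair. -/

set_option autoImplicit false
set_option linter.unusedSectionVars false
set_option linter.style.haveILetI false
set_option linter.unusedSimpArgs false

namespace Cfsg.Agent.H3.Qd

open Cfsg.Agent.H19 Cfsg.Agent.H3.Dk Polynomial LinearMap Module
open scoped commutatorElement MatrixGroups

section Grp

variable {Γ : Type*} [Group Γ] {K N A B : Subgroup Γ} {S : Set (Subgroup Γ)}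

theorem le_bsup (h : A ∈ S) : A ≤ ⨆ B ∈ S, B :=
  le_iSup₂_of_le (f := fun (B : Subgroup Γ) (_ : B ∈ S) => B) A h le_rfl

theorem comm_bsup (h : ∀ A ∈ S, Comm A B) : Comm (⨆ A ∈ S, A) B :=
  comm_iff_le.2 (iSup₂_le fun A hA => comm_iff_le.1 (h A hA))

theorem bsup_induction {p : Γ → Prop} (h1 : p 1) (hm : ∀ A ∈ S, ∀ a ∈ A, p a)
    (hmul : ∀ x y, p x → p y → p (x * y)) {g : Γ} (hg : g ∈ ⨆ A ∈ S, A) : p g := by
  rw [← iSup_subtype''] at hg
  exact Subgroup.iSup_induction _ (C := p) hg (fun A => hm A.1 A.2) h1 hmul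

theorem commutator_sup_le (hA : Comm A A) (h : ∀ a ∈ A, cj a N = N) : ⁅N ⊔ A, N ⊔ A⁆ ≤ N :=
  Subgroup.commutator_le.2 fun x hx y hy => by
    obtain ⟨n, hn, a, ha, rfl⟩ := mem_sup_of_norm h hx
    obtain ⟨n', hn', a', ha', rfl⟩ := mem_sup_of_norm h hy
    have := mul_mem (mul_mem (mul_mem hn (h a ha ▸ conj_mem_cj a hn'))
      (h a' ha' ▸ conj_mem_cj a' (inv_mem hn))) (inv_mem hn')
    rwa [show n * (a * n' * a⁻¹) * (a' * n⁻¹ * a'⁻¹) * n'⁻¹ = ⁅n * a, n' * a'⁆ by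
      rw [commutatorElement_def, mul_assoc (n * a * _), ← mul_inv_rev, mul_assoc n' a', ← mul_assoc a' n,
        show a' * n * a = a' * n * a from rfl]
      have := hA a⁻¹ (inv_mem ha) a' ha'
      calc _ = n * a * n' * (a⁻¹ * a') * n⁻¹ * a'⁻¹ * n'⁻¹ := by group
        _ = _ := by rw [this]; group] at this

theorem qs_of (hp : ⁅K, K⁆ = K) (h0 : K ≠ ⊥)
    (h : ∀ N ≤ K, (∀ g ∈ K, cj g N = N) → N = K ∨ Comm N K) : IsQuasisimple K := by
  refine ⟨Subgroup.isPerfect_iff.2 hp, @IsSimpleGroup.mk _ _ ?_ fun Q hQ => ?_⟩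
  · refine QuotientGroup.nontrivial_iff.2 fun e => h0 ?_
    rw [← hp, ← comm_iff]
    intro a ha b hb
    exact congrArg Subtype.val (Subgroup.mem_center_iff.1 (e ▸ Subgroup.mem_top (⟨b, hb⟩ : K)) ⟨a, ha⟩)
  · have hn := hQ.comap (QuotientGroup.mk' (Subgroup.center K))
    rcases h _ (Subgroup.map_subtype_le (Q.comap (QuotientGroup.mk' (Subgroup.center K))))
      (fun g hg => by
        rw [show g = K.subtype ⟨g, hg⟩ from rfl, ← map_cj, cj_of_normal]) with e | e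
    · refine Or.inr (eq_top_iff.2 fun x _ => ?_)
      obtain ⟨x, rfl⟩ := QuotientGroup.mk'_surjective _ x
      obtain ⟨y, hy, e'⟩ := Subgroup.mem_map.1 (e.ge x.2)
      exact (Subtype.ext e' : y = x) ▸ hy
    · refine Or.inl (eq_bot_iff.2 fun x hx => ?_)
      obtain ⟨x, rfl⟩ := QuotientGroup.mk'_surjective _ x
      exact (QuotientGroup.eq_one_iff _).2 (Subgroup.mem_center_iff.2 fun g =>
        Subtype.ext (e _ ⟨x, hx, rfl⟩ _ g.2).symm)

theorem commutator_subgroupOf (hA : A ≤ K) (hB : B ≤ K) :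
    ⁅A.subgroupOf K, B.subgroupOf K⁆ = ⁅A, B⁆.subgroupOf K := by
  apply Subgroup.map_injective K.subtype_injective
  rw [Subgroup.map_commutator, Subgroup.map_subgroupOf_eq_of_le hA, Subgroup.map_subgroupOf_eq_of_le hB,
    Subgroup.map_subgroupOf_eq_of_le ((Subgroup.commutator_mono hA hB).trans (Subgroup.commutator_le_self K))]

theorem rootSet_of (hc : ∀ A ∈ S, Comm A A) (h0 : ∀ A ∈ S, A ≠ ⊥)
    (hj : ∀ A ∈ S, ∀ g ∈ ⨆ B ∈ S, B, cj g A ∈ S)
    (hp : ∀ A ∈ S, ∀ B ∈ S, Comm A B ∨ IsRankOnePair A B ∨ CC S A B) :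
    IsRootSubgroupSet ((fun A : Subgroup Γ => A.subgroupOf (⨆ B ∈ S, B)) '' S) := by
  have cm : ∀ {A B : Subgroup Γ}, Comm A B → Comm (A.subgroupOf (⨆ B ∈ S, B)) (B.subgroupOf (⨆ B ∈ S, B)) :=
    fun h a ha b hb => Subtype.ext (h _ ha _ hb)
  refine ⟨?_, ?_, ?_, ?_, ?_⟩
  · rintro _ ⟨A, hA, rfl⟩
    exact comm_self_iff.1 (cm (hc A hA))
  · rintro _ ⟨A, hA, rfl⟩ e
    exact h0 A hA (by rw [← Subgroup.map_subgroupOf_eq_of_le (le_bsup hA)]; simp only at e; simp [e])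
  · apply Subgroup.map_injective (⨆ B ∈ S, B).subtype_injective
    rw [← MonoidHom.range_eq_map, Subgroup.subtype_range]
    refine le_antisymm (Subgroup.map_subtype_le _) (iSup₂_le fun A hA => ?_)
    exact (Subgroup.map_subgroupOf_eq_of_le (le_bsup hA)).ge.trans
      (Subgroup.map_mono (le_bsup ⟨A, hA, rfl⟩))
  · rintro _ ⟨A, hA, rfl⟩ g
    exact ⟨_, hj A hA g g.2, (cj_subgroupOf g A).symm⟩
  · rintro _ ⟨A, hA, rfl⟩ _ ⟨B, hB, rfl⟩
    refine (hp A hA B hB).imp (fun h => comm_iff.1 (cm h)) (Or.imp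
      (RO.subgroupOf_iff (le_bsup hA) (le_bsup hB)).2 fun h => cc_iff.2 ?_)
    have e := commutator_subgroupOf (le_bsup hA) (le_bsup hB)
    refine ⟨⟨_, h.mem, e.symm⟩, e ▸ cm h.commA, e ▸ cm h.commB, fun a ha a1 c hc => ?_,
      fun b hb b1 c hc => ?_⟩
    · obtain ⟨b, hb, e'⟩ := h.surjB a ha (fun e => a1 (Subtype.ext e)) c (e ▸ hc :)
      exact ⟨⟨b, le_bsup hB hb⟩, hb, Subtype.ext e'⟩
    · obtain ⟨a, ha, e'⟩ := h.surjA b hb (fun e => b1 (Subtype.ext e)) c (e ▸ hc :)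
      exact ⟨⟨a, le_bsup hA ha⟩, ha, Subtype.ext e'⟩

end Grp

variable {k M : Type*} [Field k] [AddCommGroup M] [Module k M] [FiniteDimensional k M]
  {G H N : Subgroup (End k M)ˣ} {α β γ δ ε η x y z : End k M} {g : (End k M)ˣ}

/-- adjacency of quadratic elements of minimal rank -/
def Adj (G : Subgroup (End k M)ˣ) (α β : End k M) : Prop := Qm G α ∧ Qm G β ∧ α * β * α ≠ 0

/-- connectedness -/
abbrev Cn (G : Subgroup (End k M)ˣ) : End k M → End k M → Prop := Relation.ReflTransGen (Adj G)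

/-- the component of `α` -/
def Cp (G : Subgroup (End k M)ˣ) (α : End k M) : Set (Subgroup (End k M)ˣ) :=
  {A | ∃ β, Qm G β ∧ Cn G α β ∧ A = EE G β}

/-- the group generated by the component of `α` -/
abbrev GG (G : Subgroup (End k M)ˣ) (α : End k M) : Subgroup (End k M)ˣ := ⨆ A ∈ Cp G α, A

/-- the group generated by all root subgroups -/
abbrev G0 (G : Subgroup (End k M)ˣ) : Subgroup (End k M)ˣ := ⨆ A ∈ quadraticRootSubgroups G, A

theorem Cn.qm (h : Cn G α β) (hα : Qm G α) : Qm G β := by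
  induction h with
  | refl => exact hα
  | tail _ h _ => exact h.2.1

theorem Cn.conj (h : Cn G α β) (hg : g ∈ G) : Cn G (g * α * ↑g⁻¹) (g * β * ↑g⁻¹) := by
  induction h with
  | refl => exact .refl
  | tail _ h ih =>
    exact ih.tail ⟨h.1.conj hg, h.2.1.conj hg, fun e => h.2.2 (by
      simpa [mul_assoc] using congrArg (· * g.1) e)⟩

theorem Cp_sub {A : Subgroup (End k M)ˣ} (h : A ∈ Cp G α) : A ∈ quadraticRootSubgroups G :=
  let ⟨β, h1, _, e⟩ := h; mem_roots.2 ⟨β, h1, e⟩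
theorem EE_le_GG (hβ : Qm G β) (h : Cn G α β) : EE G β ≤ GG G α := le_bsup ⟨β, hβ, h, rfl⟩
theorem EE_le_G0 (hβ : Qm G β) : EE G β ≤ G0 G := le_bsup (mem_roots.2 ⟨β, hβ, rfl⟩)
theorem GG_le_G0 : GG G α ≤ G0 G := iSup₂_le fun _ h => le_bsup (Cp_sub h)
theorem G0_le : G0 G ≤ G := iSup₂_le fun _ h => let ⟨_, _, e⟩ := mem_roots.1 h; e ▸ EE_le
theorem GG_ne_bot (hα : Qm G α) : GG G α ≠ ⊥ := fun e =>
  EE_ne_bot hα.toQ (eq_bot_iff.2 (e ▸ EE_le_GG hα .refl))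

theorem cj_roots {A : Subgroup (End k M)ˣ} (h : A ∈ quadraticRootSubgroups G) (hg : g ∈ G) :
    cj g A ∈ quadraticRootSubgroups G := by
  obtain ⟨β, h1, rfl⟩ := mem_roots.1 h
  exact mem_roots.2 ⟨_, h1.conj hg, cj_EE h1.sq hg⟩

theorem cj_G0 (hg : g ∈ G) : cj g (G0 G) = G0 G := cj_biSup (fun _ h _ hg => cj_roots h hg) hg

variable (h2 : ringChar k ≠ 2) (h3 : Nat.card k ≠ 3)
include h2 h3

theorem card_gt : 3 < ENat.card k := by
  obtain ⟨c, c0, c1⟩ := exists_sq_ne (Ring.two_ne_zero h2) h3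
  have h4 : (1 : k) ≠ -1 := fun e => Ring.two_ne_zero h2 (by linear_combination e)
  have c2 : c ≠ 1 := fun e => c1 (by simp [e])
  have c3 : c ≠ -1 := fun e => c1 (by simp [e])
  have := ENat.card_le_card_of_injective (f := (![0, 1, -1, c] : Fin 4 → k)) (by
    intro i j
    fin_cases i <;> fin_cases j <;> simp [h4, h4.symm, c0, c0.symm, c2, c2.symm, c3, c3.symm])
  exact lt_of_lt_of_le (by simp only [ENat.card_eq_coe_fintype_card, Fintype.card_fin]; norm_num) this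

theorem Opp.mem_comm (o : Opp α β) (h0 : α ≠ 0) (h1 : Fam k H α) (h4 : Fam k H β) : In ⁅H, H⁆ α := by
  obtain ⟨A₀, B₀, a, b, ⟨φ, e, -⟩, f⟩ := o.psl2 h0 h1 h4
  obtain ⟨c, c0, c1⟩ := exists_sq_ne (Ring.two_ne_zero h2) h3
  have : φ.range ≤ ⁅H, H⁆ := by
    have h5 : φ.range ≤ H := e ▸ sup_le a b
    rw [MonoidHom.range_eq_map] at h5 ⊢
    rw [← Matrix.SL2.commutator_eq_top c0 c1, commutator_def, Subgroup.map_commutator]
    exact Subgroup.commutator_mono h5 h5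
  simpa using (f 1).mono (le_sup_left.trans (e ▸ this))

theorem Adj.symm (h : Adj G α β) : Adj G β α := ⟨h.2.1, h.1, op_symm h2 h3 h.1 h.2.1 h.2.2⟩

theorem Cn.symm (h : Cn G α β) : Cn G β α := by
  induction h with
  | refl => exact .refl
  | tail _ h ih => exact .head (h.symm h2 h3) ih

theorem Adj.swap (h : Adj G α β) : ∃ w ∈ EE G α ⊔ EE G β, cj w (EE G α) = EE G β := by
  obtain ⟨β', h4, o, e⟩ := op_opp h2 h3 h.1 h.2.1 h.2.2
  obtain ⟨w, hw, e1, -⟩ := o.swap h.1 h4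
  exact ⟨w, e ▸ hw, e ▸ e1⟩

theorem Cn.ex_cj (h : Cn G α β) : ∃ g ∈ GG G α, cj g (EE G α) = EE G β := by
  induction h with
  | refl => exact ⟨1, one_mem _, cj_one _⟩
  | tail h1 h ih =>
    obtain ⟨g, hg, e⟩ := ih
    obtain ⟨w, hw, e'⟩ := h.swap h2 h3
    exact ⟨w * g, mul_mem (sup_le (EE_le_GG h.1 h1) (EE_le_GG h.2.1 (h1.tail h)) hw) hg, by
      rw [cj_mul, e, e']⟩

theorem Cp_eq (h : Cn G α β) : Cp G α = Cp G β := Set.ext fun _ =>
  ⟨fun ⟨γ, h1, h4, e⟩ => ⟨γ, h1, (h.symm h2 h3).trans h4, e⟩, fun ⟨γ, h1, h4, e⟩ => ⟨γ, h1, h.trans h4, e⟩⟩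

theorem GG_le_of (h : Cn G α β) (hN : ∀ g ∈ GG G α, cj g N = N) (hle : EE G β ≤ N) :
    GG G α ≤ N := by
  rw [GG, Cp_eq h2 h3 h] at hN ⊢
  refine iSup₂_le ?_
  rintro _ ⟨γ, -, h4, rfl⟩
  obtain ⟨g, hg, e⟩ := h4.ex_cj h2 h3
  exact e ▸ hN g hg ▸ cj_mono g hle

theorem adj_psl2 (h : Adj G α β) : ∃ A₀ B₀ : Subgroup (End k M)ˣ, A₀ ≤ EE G α ∧ B₀ ≤ EE G β ∧
    IsPSL2PairOver k A₀ B₀ := by
  obtain ⟨β', h4, o, e⟩ := op_opp h2 h3 h.1 h.2.1 h.2.2
  obtain ⟨A₀, B₀, a, b, c, -⟩ := o.psl2 h.1.ne ((Ee.refl h.1.fam).fam_EE h.1.sq)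
    ((Ee.refl h4.fam).fam_EE h4.sq)
  exact ⟨A₀, B₀, a, e ▸ b, c⟩

variable (hG : NoUn k G)
include hG

theorem exists_adj (hα : Qm G α) : ∃ β, Adj G α β ∧ Opp α β :=
  let ⟨β, h, o⟩ := exists_op h2 h3 hG hα
  ⟨β, ⟨hα, h, o.e1.symm ▸ hα.ne⟩, o⟩

theorem Cn.of_ee (hα : Qm G α) (h : Ee G α δ) (h0 : δ ≠ 0) : Cn G α δ := by
  obtain ⟨β, h1, -⟩ := exists_adj h2 h3 hG hα
  exact .head h1 (.single ⟨h1.2.1, h.qm hα h0, op_ee' h2 h3 h1.2.1 hα (h1.symm h2 h3).2.2 h h0⟩)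

theorem cn_shift (hα : Qm G α) (hβ : Qm G β) (h : α * β * α = 0) (s : k) :
    Qm G (α + s • (β * α - α * β)) ∧ Cn G α (α + s • (β * α - α * β)) := by
  have e := nil_symm h2 h3 hα hβ h
  have sq : ∀ t : k, t • β * t • β = 0 := fun t => by simp [hβ.sq]
  have cf : ∀ s t : k, (un _ (sq t)).1 * (α + s • (β * α - α * β)) * ((un _ (sq t))⁻¹).1 =
      α + (s + t) • (β * α - α * β) := fun s t => by
    simp only [un_val, un_inv, nc k (End k M), hβ.sq, mul_zero' hβ.sq, mul_assoc β α β ▸ e]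
    module
  have q : ∀ t : k, Qm G (α + t • (β * α - α * β)) := fun t => by
    have := Qm.conj (α := α + (0 : k) • (β * α - α * β)) (by simpa using hα) ((hβ.fam t).un_mem (sq t))
    rwa [cf, zero_add] at this
  refine ⟨q s, ?_⟩
  let P : k → Prop := fun s => Cn G α (α + s • (β * α - α * β))
  have add : ∀ s t, P s → P t → P (s + t) := fun s t hs ht => by
    have := hs.conj ((hβ.fam t).un_mem (sq t))
    rw [cf] at this
    have e0 := cf 0 t
    rw [zero_smul, add_zero, zero_add] at e0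
    exact ht.trans (e0 ▸ this)
  have neg : ∀ s, P s → P (-s) := fun s hs => by
    have := hs.conj ((hβ.fam (-s)).un_mem (sq (-s)))
    rw [cf, add_neg_cancel, zero_smul, add_zero] at this
    have e0 := cf 0 (-s)
    rw [zero_smul, add_zero, zero_add] at e0
    exact (e0 ▸ this).symm h2 h3
  obtain ⟨η, h1, o⟩ := exists_adj h2 h3 hG hα
  have good : ∀ t : k, (α + t • (β * α - α * β)) * η * (α + t • (β * α - α * β)) ≠ 0 → P t :=
    fun t ht => .head h1 (.single (Adj.symm h2 h3 ⟨q t, h1.2.1, ht⟩))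
  change P s
  clear_value P
  generalize β * α - α * β = δ at good
  by_contra hs
  have b1 := not_not.1 (mt (good s) hs)
  have b2 := not_not.1 (mt (good (-s)) fun h => hs (by simpa using neg _ h))
  have b3 : ∀ c : k, c ^ 2 ≠ 1 → P (c * s) := fun c hc => good _ fun b => hα.ne (by
    have : (2 * (1 - c ^ 2)) • α = 0 := by
      simp only [nc k (End k M), o.e1'] at b1 b2 b
      linear_combination (norm := module) (2 : k) • b - (c ^ 2 + c) • b1 - (c ^ 2 - c) • b2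
    exact (smul_eq_zero.1 this).resolve_left
      (mul_ne_zero (Ring.two_ne_zero h2) (sub_ne_zero.2 hc.symm)))
  obtain ⟨c, c0, c1⟩ := exists_sq_ne (Ring.two_ne_zero h2) h3
  by_cases c2 : (c + 1) ^ 2 = 1
  · have h4 := Ring.two_ne_zero h2
    exact hs (by
      simpa [sub_mul] using add _ _ (b3 c c1) (neg _ (b3 (c - 1) fun c3 => c0 ((mul_eq_zero.1
        (by linear_combination c2 - c3 : 2 * 2 * c = 0)).resolve_left (mul_ne_zero h4 h4)))))
  · exact hs (by simpa [add_mul] using add _ _ (b3 (c + 1) c2) (neg _ (b3 c c1)))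

theorem cn_conj (hg : g ∈ G0 G) : ∀ α, Qm G α → Cn G α (g * α * ↑g⁻¹) := by
  refine (bsup_induction (p := fun g => g ∈ G ∧ ∀ α, Qm G α → Cn G α (g * α * ↑g⁻¹))
    ⟨one_mem _, fun α _ => by simpa using .refl⟩ (fun A hA a ha => ?_) (fun x y hx hy => ⟨mul_mem hx.1 hy.1,
      fun α hα => (hy.2 α hα).trans (by simpa [mul_assoc] using hx.2 _ (hα.conj hy.1))⟩) hg).2
  obtain ⟨β, hβ, rfl⟩ := mem_roots.1 hA
  refine ⟨EE_le ha, fun α hα => ?_⟩
  have h1 := (mem_EE hβ.sq).1 ha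
  obtain ⟨β', e, rfl⟩ : ∃ β' : End k M, ∃ e : β' * β' = 0, a = un β' e :=
    ⟨_, h1.mul hβ.sq h1, Units.ext (by simp)⟩
  simp only [un_val, un_inv, add_sub_cancel_left] at h1 ⊢
  rcases eq_or_ne β' 0 with rfl | h0
  · simpa using .refl
  have q := h1.qm hβ h0
  by_cases h : α * β' * α = 0
  · convert (cn_shift h2 h3 hG hα q h 1).2 using 1
    simp only [nc k (End k M), one_smul, mul_assoc β' α β' ▸ nil_symm h2 h3 hα q h]; abel
  · refine .head ⟨hα, q, h⟩ (.single ⟨q, hα.conj1 q.fam.one e, fun e' => op_symm h2 h3 hα q h ?_⟩)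
    simpa only [nc k (End k M), e, mul_zero' e, add_zero, sub_zero] using e'

theorem NC.cn (h : NC G α β) : Cn G α (α * β - β * α) := by
  have q := (h.symm h2 h3).qm h2 h3
  obtain ⟨ε, h1, o⟩ := exists_adj h2 h3 hG q
  have s := cn_shift h2 h3 hG h.qa h.qb h.nil
  refine .trans ?_ (Cn.of_ee h2 h3 hG q (neg_sub (β * α) (α * β) ▸ (Ee.refl q.fam).neg) h.ne)
  generalize β * α - α * β = δ at *
  by_contra hc
  have b : ∀ t : k, (α + t • δ) * ε * (α + t • δ) = 0 := fun t => by_contra fun e =>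
    hc ((s t).2.trans (.head ⟨(s t).1, h1.2.1, e⟩ (.single (h1.symm h2 h3))))
  have b0 := b 0
  have b1 := b 1
  have b2 := b (-1)
  have : (2 : k) • δ = 0 := by
    simp only [nc k (End k M), o.e1'] at b0 b1 b2
    linear_combination (norm := module) b1 + b2 - (2 : k) • b0
  exact q.ne ((smul_eq_zero.1 this).resolve_left (Ring.two_ne_zero h2))

theorem comm_of_not_cn (hα : Qm G α) (hβ : Qm G β) (h : ¬ Cn G α β) : Comm (EE G α) (EE G β) := by
  rcases trich h2 h3 hα hβ with h1 | h1 | h1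
  · exact absurd (.single ⟨hα, hβ, h1⟩) h
  · exact h1
  · have q := h1.qm h2 h3
    exact absurd ((h1.cn h2 h3 hG).trans (Cn.symm h2 h3 (((h1.symm h2 h3).cn h2 h3 hG).trans
      (Cn.of_ee h2 h3 hG ((h1.symm h2 h3).qm h2 h3) (neg_sub (β * α) (α * β) ▸
        (Ee.refl ((h1.symm h2 h3).qm h2 h3).fam).neg) h1.ne)))) h

theorem GG_comm (h : ¬ Cn G α β) : Comm (GG G α) (GG G β) := comm_bsup (by
  rintro _ ⟨γ, h1, h4, rfl⟩
  refine (comm_bsup ?_).symm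
  rintro _ ⟨δ, h5, h6, rfl⟩
  exact comm_of_not_cn h2 h3 hG h5 h1 fun h7 => h (h4.trans (Cn.symm h2 h3 (h6.trans h7))))

theorem cj_Cp {A : Subgroup (End k M)ˣ} (h : A ∈ Cp G α) (hg : g ∈ G0 G) : cj g A ∈ Cp G α := by
  obtain ⟨β, h1, h4, rfl⟩ := h
  exact ⟨_, h1.conj (G0_le hg), h4.trans (cn_conj h2 h3 hG hg β h1), cj_EE h1.sq (G0_le hg)⟩

theorem cj_GG (hg : g ∈ G0 G) : cj g (GG G α) = GG G α :=
  cj_biSup (fun _ h _ hg => cj_Cp h2 h3 hG h hg) hg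

theorem GG_perfect (hα : Qm G α) : ⁅GG G α, GG G α⁆ = GG G α := by
  refine le_antisymm (Subgroup.commutator_le_self _) (GG_le_of h2 h3 .refl
    (fun g hg => by rw [cj_commutator, cj_of_mem hg]) fun a ha => ?_)
  have h1 := (mem_EE hα.sq).1 ha
  rcases eq_or_ne (a.1 - 1) 0 with e | h0
  · rw [show a = 1 from Units.ext (sub_eq_zero.1 e)]; exact one_mem _
  obtain ⟨β, h4, o⟩ := exists_adj h2 h3 hG (h1.qm hα h0)
  obtain ⟨b, hb, e⟩ := o.mem_comm h2 h3 h0 ((h1.fam_EE hα.sq).mono (EE_le_GG hα .refl))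
    (((Ee.refl h4.2.1.fam).fam_EE o.sq2).mono (EE_le_GG h4.2.1 ((Cn.of_ee h2 h3 hG hα h1 h0).tail h4)))
  rwa [show a = b from Units.ext (by rw [e]; abel)]

theorem GG_normal (hle : N ≤ GG G α) (hN : ∀ g ∈ GG G α, cj g N = N) :
    N = GG G α ∨ Comm N (GG G α) := by
  have hNG : N ≤ G := hle.trans (GG_le_G0.trans G0_le)
  by_cases h : ∃ β, Qm G β ∧ Cn G α β ∧ ∃ n ∈ N, β * (n.1 * β * (n⁻¹).1) * β ≠ 0
  · obtain ⟨β, hβ, h1, n, hn, h4⟩ := h
    refine Or.inl (le_antisymm hle (GG_le_of h2 h3 h1 hN fun a ha => ?_))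
    have h5 := (mem_EE hβ.sq).1 ha
    rcases eq_or_ne (a.1 - 1) 0 with e | h0
    · rw [show a = 1 from Units.ext (sub_eq_zero.1 e)]; exact one_mem _
    have q := hβ.conj (hNG hn)
    obtain ⟨η, h6, o, -⟩ := exists_opp h2 h3 (h5.qm hβ h0) q.sq q.fam (op_ee h2 h3 hβ q h4 h5 h0)
    obtain ⟨b, hb, e⟩ := o.mem_comm h2 h3 (H := N ⊔ EE G β) h0 ((h5.fam_EE hβ.sq).mono le_sup_right)
      ((h6.fam_EE q.sq).mono (cj_EE hβ.sq (hNG hn) ▸ cj_le_of_le le_sup_right (Subgroup.mem_sup_left hn)))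
    rw [show a = b from Units.ext (by rw [e]; abel)]
    exact commutator_sup_le (EE_comm hβ.sq) (fun a ha => hN a (EE_le_GG hβ h1 ha)) hb
  push Not at h
  have hu : NoUn k N := ((hG.normal G0_le fun _ => cj_G0).normal GG_le_G0
    fun _ => cj_GG h2 h3 hG).normal hle hN
  refine Or.inr (comm_bsup ?_).symm
  rintro _ ⟨β, hβ, h1, rfl⟩ a ha n hn
  have hA : ∀ a ∈ EE G β, cj a N = N := fun a ha => hN a (EE_le_GG hβ h1 ha)
  let W : Set (Subgroup (End k M)ˣ) := {A | ∃ n ∈ N, A = cj n (EE G β)}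
  have w1 : ∀ A ∈ W, ∀ g ∈ N ⊔ EE G β, cj g A ∈ W := by
    rintro _ ⟨n, hn, rfl⟩ g hg
    obtain ⟨n', hn', a, ha, rfl⟩ := mem_sup_of_norm hA hg
    refine ⟨n' * (a * n * a⁻¹), mul_mem hn' (hA a ha ▸ conj_mem_cj a hn), ?_⟩
    rw [cj_cj, show n' * a * n = n' * (a * n * a⁻¹) * a by group, cj_mul, cj_of_mem ha]
  have w2 := baer (k := k) (G := N ⊔ EE G β) (W := W) (by
    rintro _ ⟨n, hn, rfl⟩
    exact cj_le_of_le le_sup_right (Subgroup.mem_sup_left hn)) w1 (by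
    rintro _ ⟨n, hn, rfl⟩ _ ⟨n', hn', rfl⟩
    have h4 := mul_mem (inv_mem hn) hn'
    have := (nil_un h2 h3 hβ (hβ.conj (hNG h4)) (h β hβ h1 _ h4)).tocj n
    rwa [← cj_EE hβ.sq (hNG h4), cj_sup, cj_cj, mul_inv_cancel_left] at this)
  have w3 := hu ((⨆ A ∈ W, A) ⊓ N) inf_le_right (fun g hg => by
    rw [cj_inf, cj_biSup w1 (Subgroup.mem_sup_left hg), cj_of_mem hg]) (w2.mono inf_le_left)
  have w4 : a * n * a⁻¹ * n⁻¹ ∈ (⨆ A ∈ W, A) ⊓ N := Subgroup.mem_inf.2 ⟨by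
    rw [show a * n * a⁻¹ * n⁻¹ = a * (n * a⁻¹ * n⁻¹) by group]
    exact mul_mem (le_bsup (S := W) ⟨1, one_mem _, (cj_one _).symm⟩ ha)
      (le_bsup (S := W) ⟨n, hn, rfl⟩ (conj_mem_cj n (inv_mem ha))),
    mul_mem (hA a ha ▸ conj_mem_cj a hn) (inv_mem hn)⟩
  exact commutatorElement_eq_one_iff_mul_comm.1 (Subgroup.mem_bot.1 (w3 ▸ w4))

theorem GG_qs (hα : Qm G α) : IsQuasisimple (GG G α) :=
  qs_of (GG_perfect h2 h3 hG hα) (GG_ne_bot hα) fun _ => GG_normal h2 h3 hG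

theorem exists_reps : ∃ (r : ℕ) (a : Fin r → End k M), (∀ i, Qm G (a i)) ∧
    (∀ i j, i ≠ j → ¬ Cn G (a i) (a j)) ∧ ∀ β, Qm G β → ∃ i, Cn G (a i) β := by
  let s : Setoid {α // Qm G α} := ⟨fun a b => Cn G a.1 b.1,
    fun _ => .refl, fun h => h.symm h2 h3, fun h h' => h.trans h'⟩
  have hne : ∀ i j : Quotient s, i ≠ j → ¬ Cn G i.out.1 j.out.1 := fun i j h e =>
    h (Quotient.out_equiv_out.1 e)
  have li : LinearIndependent k fun i : Quotient s => i.out.1 := by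
    classical
    refine linearIndependent_iff'.2 fun t c e j hj => ?_
    obtain ⟨η, h1, o⟩ := exists_adj h2 h3 hG j.out.2
    have := congrArg (fun x => j.out.1 * (η * x - x * η)) e
    simp only [Finset.mul_sum, Finset.sum_mul, ← Finset.sum_sub_distrib, mul_zero, zero_mul,
      sub_zero] at this
    rw [Finset.sum_eq_single j (fun i _ hi => ?_) (fun h => absurd hj h)] at this
    · simp only [nc k (End k M), o.e1', mul_zero' o.sq1, sub_zero] at this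
      exact (smul_eq_zero.1 this).resolve_right j.out.2.ne
    · have c := congrArg Units.val (comm_of_not_cn h2 h3 hG i.out.2 h1.2.1
        (fun h => hne i j hi (h.tail (h1.symm h2 h3))) _ (un_mem_EE (Ee.refl i.out.2.fam) i.out.2.sq) _
        (un_mem_EE (Ee.refl h1.2.1.fam) o.sq2))
      simp only [Units.val_mul, un_val] at c
      rw [mul_smul_comm, smul_mul_assoc, show η * i.out.1 = i.out.1 * η by
        linear_combination (norm := noncomm_ring) -c, sub_self, mul_zero]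
  have := li.finite
  obtain ⟨r, ⟨e⟩⟩ := Finite.exists_equiv_fin (Quotient s)
  refine ⟨r, fun i => (e.symm i).out.1, fun i => (e.symm i).out.2,
    fun i j h => hne _ _ (e.symm.injective.ne h), fun β hβ => ⟨e ⟦⟨β, hβ⟩⟧, ?_⟩⟩
  simp only [Equiv.symm_apply_apply]
  exact Quotient.mk_out (s := s) ⟨β, hβ⟩

theorem rootSet {S : Set (Subgroup (End k M)ˣ)} (h : ∀ A ∈ S, A ∈ quadraticRootSubgroups G)
    (hj : ∀ A ∈ S, ∀ g ∈ ⨆ B ∈ S, B, cj g A ∈ S)
    (hp : ∀ α β, NC G α β → EE G α ∈ S → EE G (α * β - β * α) ∈ S) :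
    IsRootSubgroupSet ((fun A : Subgroup (End k M)ˣ => A.subgroupOf (⨆ B ∈ S, B)) '' S) := by
  refine rootSet_of (fun A hA => ?_) (fun A hA => ?_) hj fun A hA B hB => ?_
  · obtain ⟨α, hα, rfl⟩ := mem_roots.1 (h A hA)
    exact EE_comm hα.sq
  · obtain ⟨α, hα, rfl⟩ := mem_roots.1 (h A hA)
    exact EE_ne_bot hα.toQ
  · obtain ⟨α, hα, rfl⟩ := mem_roots.1 (h A hA)
    obtain ⟨β, hβ, rfl⟩ := mem_roots.1 (h B hB)
    rcases trich h2 h3 hα hβ with h1 | h1 | h1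
    exacts [Or.inr (Or.inl (op_ro h2 h3 hα hβ h1)), Or.inl h1, Or.inr (Or.inr (h1.cc h2 h3 hG (hp _ _ h1 hA)))]

theorem mem_Cp (hβ : Qm G β) : EE G β ∈ Cp G α ↔ Cn G α β :=
  ⟨fun ⟨_, h1, h4, e⟩ => h4.trans (Cn.of_ee h2 h3 hG h1
    (In.ee h1.sq (e ▸ (Ee.refl hβ.fam).in hβ.sq)) hβ.ne), fun h => ⟨β, hβ, h, rfl⟩⟩

end Cfsg.Agent.H3.Qd
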