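import Cfsg.Agent.H7.Clifford
import Cfsg.Agent.H6.Kernel

/-! Vanishing elements: abelian normal sections acting coprimely. -/

set_option autoImplicit false
set_option linter.unusedSectionVars false

namespace Cfsg.Agent.H3.Van

open Subgroup Cfsg Cfsg.Agent.H7
open scoped commutatorElement

theorem eq_one_of_cop {M : Type*} [Group M] {a : M} {n m : ℕ} (hn : a ^ n = 1) (hm : a ^ m = 1)
    (h : n.Coprime m) : a = 1 := by
  have := Nat.dvd_gcd (orderOf_dvd_of_pow_eq_one hn) (orderOf_dvd_of_pow_eq_one hm)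
  rw [h] at this
  exact orderOf_eq_one_iff.1 (Nat.dvd_one.1 this)

theorem fix_trivial {M : Type*} [CommGroup M] {σ : MulAut M} {n m : ℕ} (hn : σ ^ n = 1)
    (hm : ∀ μ : M, μ ^ m = 1) (h : n.Coprime m) {η κ : M} (h1 : σ η = κ * η) (h2 : σ κ = κ) :
    κ = 1 := by
  have key : ∀ j : ℕ, (σ ^ j) η = κ ^ j * η := by
    intro j
    induction j with
    | zero => simp
    | succ j ih =>
      rw [pow_succ', MulAut.mul_apply, ih, map_mul, map_pow, h1, h2, pow_succ, mul_assoc]
  have := key n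
  rw [hn, MulAut.one_apply] at this
  exact eq_one_of_cop (mul_eq_right.1 this.symm) (hm κ) h

theorem regular_orbit {G M : Type*} [Group G] [Finite G] [CommGroup M] (φ : G →* MulAut M)
    (A : Subgroup G) (hc : ∀ a ∈ A, ∀ b ∈ A, φ a * φ b = φ b * φ a) {n m : ℕ}
    (hn : ∀ a ∈ A, φ a ^ n = 1) (hm : ∀ μ : M, μ ^ m = 1) (h : n.Coprime m) :
    ∃ l : M, ∀ a ∈ A, φ a l = l → φ a = 1 := by
  classical
  let f : M → ℕ := fun l => Set.ncard {a : G | a ∈ A ∧ φ a l = l}
  have hex : ∃ k, ∃ l, f l = k := ⟨_, 1, rfl⟩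
  obtain ⟨l, hl⟩ := Nat.find_spec hex
  have hmin : ∀ l', f l ≤ f l' := fun l' => hl ▸ Nat.find_min' hex ⟨l', rfl⟩
  refine ⟨l, fun s hs hsl => ?_⟩
  by_contra hne
  obtain ⟨ν, hν⟩ : ∃ ν, φ s ν ≠ ν := by
    by_contra hcon
    push Not at hcon
    exact hne (MulEquiv.ext hcon)
  set μ := φ s ν * ν⁻¹ with hμ
  have hμ1 : φ s μ ≠ μ := by
    intro e
    have := fix_trivial (hn s hs) hm h (η := ν) (κ := μ) (by rw [hμ]; simp) e
    rw [hμ, mul_inv_eq_one] at this
    exact hν this
  have hsub : {a : G | a ∈ A ∧ φ a (l * μ) = l * μ} ⊂ {a : G | a ∈ A ∧ φ a l = l} := by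
    refine ⟨?_, fun hcon => ?_⟩
    · rintro a ⟨ha, e⟩
      refine ⟨ha, ?_⟩
      have hcomm : ∀ x, φ s (φ a x) = φ a (φ s x) := fun x => by
        rw [← MulAut.mul_apply, hc s hs a ha, MulAut.mul_apply]
      have := fix_trivial (hn s hs) hm h (η := ν * (φ a ν)⁻¹) (κ := φ a l * l⁻¹) ?_ ?_
      · exact mul_inv_eq_one.1 this
      · rw [map_mul, hμ, map_mul, map_inv] at e
        rw [map_mul, map_inv, hcomm]
        have e2 : φ a l = l * (φ s ν * ν⁻¹) * (φ a (φ s ν) * (φ a ν)⁻¹)⁻¹ :=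
          eq_mul_inv_of_mul_eq e
        rw [e2]
        apply Additive.ofMul.injective
        simp only [ofMul_mul, ofMul_inv]
        abel
      · rw [map_mul, map_inv, hcomm, hsl]
    · have := (hcon (⟨hs, hsl⟩ : s ∈ {a : G | a ∈ A ∧ φ a l = l})).2
      rw [map_mul, hsl] at this
      exact hμ1 (mul_left_cancel this)
  exact absurd (Set.ncard_lt_ncard hsub (Set.toFinite _)) (not_lt.2 (hmin _))

theorem pgroup_of_central {G : Type*} [Group G] [Finite G] {p m : ℕ} [Fact p.Prime] (S : Set G)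
    (hS : ∀ s ∈ S, s ^ p ^ m = 1)
    (hc : ∀ b ∈ closure S, ∀ c ∈ closure S, c * b ^ p ^ m = b ^ p ^ m * c) :
    ∀ b ∈ closure S, ∃ j, b ^ p ^ j = 1 := by
  have hq : IsPGroup p (closure S ⧸ center (closure S)) := by
    intro y
    obtain ⟨b, rfl⟩ := QuotientGroup.mk_surjective y
    refine ⟨m, ?_⟩
    rw [← QuotientGroup.mk_pow, QuotientGroup.eq_one_iff, mem_center_iff]
    intro c
    exact Subtype.ext (hc b b.2 c c.2)
  obtain ⟨j, hj⟩ := hq.exists_card_eq
  have hi : (center (closure S)).index = p ^ j := hj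
  let t : closure S →* closure S := MonoidHom.mk' (fun b => (b ^ p ^ j) ^ p ^ m) (fun a b => by
    have h1 := congrArg Subtype.val (map_mul (MonoidHom.transferCenterPow (closure S)) a b)
    simp only [coe_mul, MonoidHom.transferCenterPow_apply, hi] at h1
    have h2 : Commute (a ^ p ^ j) (b ^ p ^ j) := by
      have := (center (closure S)).pow_index_mem b
      rw [hi] at this
      exact mem_center_iff.1 this _
    rw [h1, h2.mul_pow])
  have ht : ∀ b : closure S, ((t b : closure S) : G) = (b : G) ^ p ^ (j + m) := fun b => by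
    change (((b ^ p ^ j) ^ p ^ m : closure S) : G) = _
    rw [← pow_mul, ← pow_add, SubmonoidClass.coe_pow]
  have hker : t.ker = ⊤ := by
    rw [eq_top_iff, ← closure_closure_coe_preimage, closure_le]
    intro b hb
    apply Subtype.ext
    rw [ht, pow_add, mul_comm, pow_mul, hS b hb, one_pow]
    rfl
  intro b hb
  refine ⟨j + m, ?_⟩
  have h1 : t ⟨b, hb⟩ = 1 := by rw [← MonoidHom.mem_ker, hker]; trivial
  have := ht ⟨b, hb⟩
  rw [h1] at this
  exact this.symm

variable {H : Type*} [Group H] [Finite H]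

/-- the conjugation action on linear characters of a normal subgroup -/
noncomputable def act (D : Subgroup H) [D.Normal] : H →* MulAut (D →* ℂˣ) :=
  MonoidHom.mk' (fun h =>
    { toFun := fun l => l.comp (MulAut.conjNormal h⁻¹ : MulAut D).toMonoidHom
      invFun := fun l => l.comp (MulAut.conjNormal h : MulAut D).toMonoidHom
      left_inv := fun l => by ext d; simp
      right_inv := fun l => by ext d; simp
      map_mul' := fun a b => by ext d; simp })
    (fun a b => by ext l d; simp)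

theorem act_apply (D : Subgroup H) [D.Normal] (h : H) (l : D →* ℂˣ) (d : D) :
    act D h l d = l (MulAut.conjNormal h⁻¹ d) := rfl

theorem act_self (D : Subgroup H) [D.Normal] {h : H} (hh : h ∈ D) : act D h = 1 := by
  ext l d
  rw [act_apply, MulAut.one_apply]
  have : (MulAut.conjNormal h⁻¹ d : D) = (⟨h, hh⟩ : D)⁻¹ * d * ⟨h, hh⟩ := by
    apply Subtype.ext; simp
  rw [this, map_mul, map_mul, map_inv, mul_right_comm, inv_mul_cancel, one_mul]

theorem van_of_lin (D : Subgroup H) [D.Normal] (l : D →* ℂˣ) :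
    ∃ χ, IsIrrCharacter H χ ∧ ∀ g, (∀ y : H, act D (y⁻¹ * g * y) l ≠ l) → χ g = 0 := by
  have hf := isNE_subtype D
  have hθ := irr_of_hom l
  obtain ⟨χ, hχ, hip⟩ := exists_irr_over hf.inj hθ
  obtain ⟨ψ, -, he, -⟩ := hf.corr_surj (k := D.subtype.codRestrict _
    (hf.apply_mem_inertia (irr_cf hθ))) (ι := (hf.inertia fun g => (l g : ℂ)).subtype)
    (Subgroup.subtype_injective _) (fun _ => rfl) hθ (by rw [range_subtype]) hχ hip
  refine ⟨χ, hχ, fun g hg => ?_⟩
  rw [← he]
  refine ind_apply_eq_zero _ _ fun y t ht => absurd ?_ (hg y)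
  have h1 : (y⁻¹ * g * y)⁻¹ ∈ hf.inertia fun g => (l g : ℂ) := by
    rw [← ht]; exact inv_mem t.2
  ext d
  have h2 := hf.mem_inertia'.1 h1 d
  rw [act_apply, ← h2]
  congr 2
  apply Subtype.ext
  have := hf.cj_spec (y⁻¹ * g * y)⁻¹ d
  simp only [coe_subtype] at this
  rw [this, MulAut.conjNormal_apply]

theorem van_of_abelian [Group.IsSolvable H] {p : ℕ} [hp : Fact p.Prime] (N R : Subgroup H)
    [N.Normal] [R.Normal] (hN : (Nat.card N).Coprime p) (hR : ⁅R, R⁆ ≤ N) {x : H} (hxR : x ∈ R)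
    {m : ℕ} (hx : x ^ p ^ m = 1) (hxN : ∃ n ∈ N, n * x ≠ x * n) :
    ∃ χ, IsIrrCharacter H χ ∧ ∀ g k, g ^ k = x → χ g = 0 := by
  set A := normalClosure {x} with hA
  have hxA : x ∈ A := subset_normalClosure rfl
  have hAR : A ≤ R := normalClosure_le_normal (by simpa using hxR)
  haveI hAn : A.Normal := normalClosure_normal
  set D := A ⊓ N with hD
  haveI hDn : D.Normal := normal_inf_normal A N
  have hAA : ∀ a ∈ A, ∀ b ∈ A, ⁅a, b⁆ ∈ D := fun a ha b hb =>
    mem_inf.2 ⟨mul_mem (mul_mem (mul_mem ha hb) (inv_mem ha)) (inv_mem hb),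
      hR (commutator_mem_commutator (hAR ha) (hAR hb))⟩
  have hconj : ∀ s ∈ Group.conjugatesOfSet ({x} : Set H), s ^ p ^ m = 1 := by
    intro s hs
    obtain ⟨y, hy, h⟩ := Group.mem_conjugatesOfSet_iff.1 hs
    rw [Set.mem_singleton_iff] at hy
    subst hy
    obtain ⟨c, rfl⟩ := isConj_iff.1 h
    rw [conj_pow, hx]; group
  have hpow : ∀ a ∈ A, a ^ p ^ m ∈ D := by
    intro a ha
    refine mem_inf.2 ⟨pow_mem ha _, ?_⟩
    rw [← QuotientGroup.eq_one_iff, QuotientGroup.mk_pow]
    induction ha using closure_induction with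
    | mem s hs => rw [← QuotientGroup.mk_pow, hconj s hs]; rfl
    | one => simp
    | mul a b ha hb h1 h2 =>
      have hc : Commute (a : H ⧸ N) b := by
        rw [← commutatorElement_eq_one_iff_commute]
        exact (QuotientGroup.eq_one_iff _).2 (hAA a ha b hb).2
      rw [QuotientGroup.mk_mul, hc.mul_pow, h1, h2, one_mul]
    | inv a _ h1 => rw [QuotientGroup.mk_inv, inv_pow, h1, inv_one]
  have hcop : (p ^ m).Coprime (Nat.card D) :=
    Nat.Coprime.pow_left _ (Nat.Coprime.coprime_dvd_left (card_dvd_of_le inf_le_right) hN).symm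
  obtain ⟨l, hl⟩ := regular_orbit (M := D →* ℂˣ) (act D) A (n := p ^ m) (m := Nat.card D)
    (fun a ha b hb => by
      have := act_self D (hAA a ha b hb)
      rw [map_commutatorElement, commutatorElement_eq_one_iff_mul_comm] at this
      exact this)
    (fun a ha => by rw [← map_pow, act_self D (hpow a ha)])
    (fun μ => by ext d; rw [MonoidHom.pow_apply, ← map_pow, pow_card_eq_one', map_one]; rfl) hcop
  have hx1 : act D x ≠ 1 := by
    intro e
    have hle : A ≤ (act D).ker := normalClosure_le_normal (by simpa using e)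
    have hcm : ∀ a ∈ A, ∀ d ∈ D, a⁻¹ * d * a * d⁻¹ ∈ ⁅D, D⁆ := by
      intro a ha d hd
      have h1 : (MulAut.conjNormal a⁻¹ (⟨d, hd⟩ : D) * (⟨d, hd⟩ : D)⁻¹ : D) ∈ commutator D := by
        rw [← Abelianization.ker_of, MonoidHom.mem_ker]
        by_contra hne
        obtain ⟨μ, hμ⟩ := CommGroup.exists_apply_ne_one_of_hasEnoughRootsOfUnity
          (Abelianization D) ℂ hne
        apply hμ
        have h2 := act_apply D a (μ.comp Abelianization.of) ⟨d, hd⟩
        rw [MonoidHom.mem_ker.1 (hle ha), MulAut.one_apply] at h2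
        simp only [MonoidHom.comp_apply] at h2
        rw [map_mul, map_mul, ← h2, map_inv, map_inv, mul_inv_cancel]
      rw [← map_subtype_commutator]
      exact ⟨_, h1, by simp⟩
    let f := QuotientGroup.mk' ⁅D, D⁆
    have hAf : closure (f '' Group.conjugatesOfSet ({x} : Set H)) = A.map f :=
      (MonoidHom.map_closure f _).symm
    have hpg := pgroup_of_central (p := p) (m := m) (f '' Group.conjugatesOfSet ({x} : Set H))
      (by rintro _ ⟨s, hs, rfl⟩; rw [← map_pow, hconj s hs, map_one])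
      (by
        rw [hAf]
        rintro _ ⟨b, hb, rfl⟩ _ ⟨c, hc, rfl⟩
        have h1 := (QuotientGroup.eq_one_iff _).2 (hcm c hc _ (hpow b hb))
        change f _ = 1 at h1
        rw [map_mul, map_mul, map_mul, map_inv, map_inv, mul_inv_eq_one, mul_assoc,
          inv_mul_eq_iff_eq_mul, map_pow] at h1
        exact h1.symm)
    have hDD : D ≤ ⁅D, D⁆ := by
      intro d hd
      obtain ⟨j, hj⟩ := hpg (f d) (by rw [hAf]; exact mem_map_of_mem f hd.1)
      have h2 : f d ^ Nat.card D = 1 := by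
        have := congrArg Subtype.val (pow_card_eq_one' (x := (⟨d, hd⟩ : D)))
        rw [← map_pow]
        simp only [SubmonoidClass.mk_pow, OneMemClass.coe_one] at this
        rw [this, map_one]
      exact (QuotientGroup.eq_one_iff _).1 (eq_one_of_cop hj h2 (Nat.Coprime.pow_left _
        (Nat.Coprime.coprime_dvd_left (card_dvd_of_le inf_le_right) hN).symm))
    have hD0 : D = ⊥ := by
      by_contra hne
      exact (Group.IsSolvable.commutator_lt_of_ne_bot hne).not_ge hDD
    obtain ⟨n, hn, hne⟩ := hxN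
    apply hne
    have : n * x * n⁻¹ * x⁻¹ ∈ D := by
      refine mem_inf.2 ⟨mul_mem (Normal.conj_mem inferInstance x hxA n) (inv_mem hxA), ?_⟩
      rw [mul_assoc, mul_assoc]
      refine mul_mem hn ?_
      rw [← mul_assoc]
      exact Normal.conj_mem inferInstance _ (inv_mem hn) x
    rw [hD0, mem_bot, mul_inv_eq_one, mul_inv_eq_iff_eq_mul] at this
    exact this
  obtain ⟨χ, hχ, hv⟩ := van_of_lin D l
  refine ⟨χ, hχ, fun g k hg => hv g fun y e => hx1 ?_⟩
  have h1 : act D (y⁻¹ * x * y) l = l := by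
    have : y⁻¹ * x * y = (y⁻¹ * g * y) ^ k := by
      rw [← hg]
      have := conj_pow (a := y⁻¹) (b := g) (i := k)
      rw [inv_inv] at this
      exact this.symm
    rw [this, map_pow]
    clear this hg
    induction k with
    | zero => simp
    | succ k ih => rw [pow_succ, MulAut.mul_apply, e, ih]
  have h2 := hl _ (by simpa using Normal.conj_mem (inferInstance : A.Normal) x hxA y⁻¹) h1
  rw [map_mul, map_mul, map_inv, mul_assoc, inv_mul_eq_one] at h2
  exact mul_eq_right.1 h2.symm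

theorem conj_pow_comm {K : Type*} [Group K] {s x c : K} (h : s * x * s⁻¹ = c * x)
    (hc : s * c = c * s) (j : ℕ) : s ^ j * x * (s ^ j)⁻¹ = c ^ j * x := by
  induction j with
  | zero => simp
  | succ j ih =>
    have hcj : s * c ^ j = c ^ j * s := ((Commute.pow_right hc j : Commute s (c ^ j))).eq
    calc _ = s * (s ^ j * x * (s ^ j)⁻¹) * s⁻¹ := by rw [pow_succ']; group
      _ = (s * c ^ j) * x * s⁻¹ := by rw [ih]; group
      _ = c ^ j * (s * x * s⁻¹) := by rw [hcj]; group
      _ = _ := by rw [h, pow_succ]; group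

theorem van_of_camina (Z : Subgroup H) [Z.Normal] (hZ : Z ≠ ⊥) {x : H}
    (h : ∀ n ∈ Z, IsConj x (n * x)) : ∃ χ, IsIrrCharacter H χ ∧ χ x = 0 := by
  letI := Fintype.ofFinite Z
  obtain ⟨χ, hχ, hk⟩ := H6.exists_irr_not_le_charKer hZ
  refine ⟨χ, hχ, ?_⟩
  have h3 := H6.sum_normal_coset_eq_zero Z hχ hk x
  have h4 : ∀ n : Z, χ (n * x) = χ x := fun n => by
    obtain ⟨c, hc⟩ := isConj_iff.1 (h n n.2)
    rw [← hc, irr_cf hχ]
  rw [Finset.sum_congr rfl fun n _ => h4 n] at h3
  simpa using h3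

end Cfsg.Agent.H3.Van
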