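import Cfsg.Agent.H3.Van1
import Cfsg.Agent.S0058
import Cfsg.Agent.H2.Subnormal
import Cfsg.Agent.H2.Fitting
import Cfsg.Prelude.Def_CaseTheorems

/-! Vanishing elements of order divisible by `p` in solvable groups. -/

set_option autoImplicit false
set_option linter.unusedSectionVars false

namespace Cfsg.Agent.H3.Van

open Subgroup Cfsg Cfsg.Agent.H7
open scoped commutatorElement

/-- vanishing element -/
def Vn {G : Type*} [Group G] (g : G) : Prop := ∃ χ, IsIrrCharacter G χ ∧ χ g = 0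

theorem Vn.of_map {G H : Type*} [Group G] [Finite G] [Group H] [Finite H] (f : G →* H)
    (hf : Function.Surjective f) {g : G} (h : Vn (f g)) : Vn g :=
  let ⟨_, hχ, h0⟩ := h
  ⟨_, irr_comp_surjective f hf hχ, h0⟩

variable {p : ℕ} [hp : Fact p.Prime]

theorem exists_comm_section {K : Type*} [Group K] [Finite K] [Group.IsSolvable K]
    (A C : Subgroup K) [C.Normal] (h : ¬ C ≤ A) :
    ∃ R : Subgroup K, R.Normal ∧ R ≤ C ∧ ¬ R ≤ A ∧ ⁅R, R⁆ ≤ A := by
  obtain ⟨R, ⟨hR, hRC, hRA⟩, hmin⟩ :=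
    (Set.toFinite {R : Subgroup K | R.Normal ∧ R ≤ C ∧ ¬ R ≤ A}).exists_minimal
      ⟨C, inferInstance, le_rfl, h⟩
  refine ⟨R, hR, hRC, hRA, ?_⟩
  by_contra hn
  have hne : R ≠ ⊥ := by rintro rfl; exact hRA bot_le
  have hlt := Group.IsSolvable.commutator_lt_of_ne_bot hne
  exact hlt.not_ge (hmin ⟨inferInstance, hlt.le.trans hRC, hn⟩ hlt.le)

theorem abelian_pgroup {K : Type*} [Group K] [Finite K] (hK : pPrimeCore p K = ⊥)
    (A : Subgroup K) [hA : A.Normal] (hc : ∀ a ∈ A, ∀ b ∈ A, a * b = b * a) : IsPGroup p A := by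
  obtain ⟨e, m, hm, he⟩ := Nat.exists_eq_pow_mul_and_not_dvd (Nat.card_pos (α := K)).ne' p
    hp.out.ne_one
  let B : Subgroup K :=
    { carrier := {b | ∃ a ∈ A, a ^ p ^ e = b}
      one_mem' := ⟨1, one_mem _, one_pow _⟩
      mul_mem' := by
        rintro _ _ ⟨a, ha, rfl⟩ ⟨b, hb, rfl⟩
        exact ⟨a * b, mul_mem ha hb, Commute.mul_pow (hc a ha b hb) _⟩
      inv_mem' := by
        rintro _ ⟨a, ha, rfl⟩
        exact ⟨a⁻¹, inv_mem ha, inv_pow _ _⟩ }
  have hBn : B.Normal := ⟨by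
    rintro _ ⟨a, ha, rfl⟩ g
    exact ⟨g * a * g⁻¹, hA.conj_mem a ha g, conj_pow⟩⟩
  have hB : B = ⊥ := by
    refine H2.pPrimeCore_eq_bot_iff.1 hK B hBn ?_
    rw [Nat.coprime_comm, Nat.Prime.coprime_iff_not_dvd hp.out]
    intro hd
    obtain ⟨b, hb⟩ := exists_prime_orderOf_dvd_card' p hd
    obtain ⟨a, -, ha⟩ := b.2
    rw [← orderOf_coe, ← ha] at hb
    apply hm
    rw [← hb]
    apply orderOf_dvd_of_pow_eq_one
    rw [← pow_mul, ← he, pow_card_eq_one']
  intro a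
  refine ⟨e, Subtype.ext ?_⟩
  have : (a : K) ^ p ^ e ∈ B := ⟨a, a.2, rfl⟩
  rw [hB, mem_bot] at this
  simpa using this

theorem cent_of_card_prime {K : Type*} [Group K] [Finite K] (A : Subgroup K) [A.Normal]
    (hA : Nat.card A = p) {u : K} {m : ℕ} (hu : u ^ p ^ m = 1) : u ∈ centralizer (A : Set K) := by
  haveI : IsCyclic A := isCyclic_of_prime_card hA
  have h1 : (MulAut.conjNormal u : MulAut A) ^ p ^ m = 1 := by rw [← map_pow, hu, map_one]
  have h2 : (MulAut.conjNormal u : MulAut A) ^ (p - 1) = 1 := by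
    rw [← Nat.totient_prime hp.out, ← hA, ← IsCyclic.card_mulAut, pow_card_eq_one']
  have h3 := eq_one_of_cop h1 h2 (Nat.Coprime.pow_left _
    ((Nat.coprime_self_sub_right hp.out.one_le).2 (Nat.coprime_one_right p)))
  intro a ha
  have := congrArg (fun σ : MulAut A => ((σ ⟨a, ha⟩ : A) : K)) h3
  simp only [MulAut.conjNormal_apply, MulAut.one_apply] at this
  exact (mul_inv_eq_iff_eq_mul.1 this).symm

theorem mixed {H : Type*} [Group H] [Finite H] {a y : H} {m n : ℕ} (ha : a ^ p ^ m = 1)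
    (ha1 : a ≠ 1) (hy : y ^ n = 1) (hy1 : y ≠ 1) (hn : n.Coprime p) (hc : y * a = a * y) :
    p ∣ orderOf (a * y) ∧ (∃ q : ℕ, q.Prime ∧ q ≠ p ∧ q ∣ orderOf (a * y)) ∧
      ∃ k : ℕ, (a * y) ^ k = a := by
  have h1 : orderOf a ∣ p ^ m := orderOf_dvd_of_pow_eq_one ha
  have h2 : orderOf y ∣ n := orderOf_dvd_of_pow_eq_one hy
  have hyp : (orderOf y).Coprime p := Nat.Coprime.coprime_dvd_left h2 hn
  have hcop : (orderOf a).Coprime (orderOf y) :=
    Nat.Coprime.coprime_dvd_left h1 (Nat.Coprime.pow_left _ hyp.symm)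
  have hcm : Commute a y := hc.symm
  have ho := hcm.orderOf_mul_eq_mul_orderOf_of_coprime hcop
  refine ⟨?_, ?_, ?_⟩
  · rw [ho]
    obtain ⟨i, -, hi⟩ := (Nat.dvd_prime_pow hp.out).1 h1
    refine Dvd.dvd.mul_right ?_ _
    rw [hi]
    refine dvd_pow_self p ?_
    rintro rfl
    exact ha1 (orderOf_eq_one_iff.1 (by simpa using hi))
  · obtain ⟨q, hq, hqd⟩ := Nat.exists_prime_and_dvd (fun e => hy1 (orderOf_eq_one_iff.1 e))
    refine ⟨q, hq, ?_, ho ▸ Dvd.dvd.mul_left hqd _⟩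
    rintro rfl
    exact (Nat.Prime.coprime_iff_not_dvd hq).1 hyp.symm hqd
  · obtain ⟨k, k1, k2⟩ := Nat.chineseRemainder hcop 1 0
    refine ⟨k, ?_⟩
    rw [hcm.mul_pow, pow_eq_pow_iff_modEq.2 k1, pow_eq_pow_iff_modEq.2 k2]
    simp

theorem core {H : Type*} [Group H] [Finite H] [Group.IsSolvable H] (hO : pCore p H = ⊥)
    (P : Sylow p H) : Nat.card P ≤ p ∨
      (∃ z g : H, (∃ m, z ^ p ^ m = 1) ∧ z ≠ 1 ∧ Vn z ∧ Vn g ∧ p ∣ orderOf g ∧
        ∃ q : ℕ, q.Prime ∧ q ≠ p ∧ q ∣ orderOf g) ∨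
      (∃ w : H, (∃ m, w ^ p ^ m = 1) ∧ w ^ p ≠ 1 ∧ Vn w ∧ Vn (w ^ p)) := by
  classical
  by_cases hP : Nat.card P ≤ p
  · exact Or.inl hP
  right
  push Not at hP
  set N := pPrimeCore p H with hNdef
  have hN : (Nat.card N).Coprime p := H2.pPrimeCore_coprime
  have hF : fittingSubgroup H ≤ N := by
    have := H2.fittingSubgroup_le_pCore_sup_pPrimeCore (G := H) p
    rwa [hO, bot_sup_eq] at this
  have hC : ∀ x, (∀ n ∈ N, n * x = x * n) → x ∈ N := fun x hx =>
    hF (H2.centralizer_fittingSubgroup_le fun n hn => hx n (hF hn))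
  have hPe : ∀ x ∈ (P : Subgroup H), ∃ m, x ^ p ^ m = 1 := fun x hx => by
    obtain ⟨m, hm⟩ := P.2 ⟨x, hx⟩
    exact ⟨m, congrArg Subtype.val hm⟩
  have hNe : ∀ y ∈ N, y ^ Nat.card N = 1 := fun y hy =>
    congrArg Subtype.val (pow_card_eq_one' (x := (⟨y, hy⟩ : N)))
  have hPN : ∀ x ∈ (P : Subgroup H), x ∈ N → x = 1 := fun x hx hxN => by
    obtain ⟨m, hm⟩ := hPe x hx
    exact eq_one_of_cop hm (hNe x hxN) (Nat.Coprime.pow_left _ hN.symm)
  let π := QuotientGroup.mk' N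
  have hπ : Function.Surjective π := QuotientGroup.mk'_surjective N
  have hker : ∀ x, π x = 1 ↔ x ∈ N := fun x => QuotientGroup.eq_one_iff x
  have hK : pPrimeCore p (H ⧸ N) = ⊥ := H2.pPrimeCore_quotient_self
  have hinj : ∀ x ∈ (P : Subgroup H), π x = 1 → x = 1 := fun x hx e => hPN x hx ((hker x).1 e)
  have hcardP : Nat.card ((P : Subgroup H).map π) = Nat.card P := by
    have hi : Function.Injective (π.comp (P : Subgroup H).subtype) := by
      rw [injective_iff_map_eq_one]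
      intro k hk
      exact Subtype.ext (hinj k k.2 hk)
    rw [Nat.card_congr (MonoidHom.ofInjective hi).toEquiv, MonoidHom.range_comp, range_subtype]
  have hlift : ∀ R : Subgroup (H ⧸ N), R.Normal → IsPGroup p R → ∀ r ∈ R,
      ∃ w ∈ (P : Subgroup H), π w = r := fun R _ hR r hr =>
    hR.le_sylow_of_normal (P.mapSurjective hπ) hr
  obtain ⟨A, ⟨hAn, hAc⟩, hmax⟩ := (Set.toFinite
    {B : Subgroup (H ⧸ N) | B.Normal ∧ ∀ a ∈ B, ∀ b ∈ B, a * b = b * a}).exists_maximal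
      ⟨⊥, inferInstance, by simp⟩
  have hAp : IsPGroup p A := abelian_pgroup hK A hAc
  have V0 : ∀ x ∈ (P : Subgroup H), x ≠ 1 → π x ∈ A →
      ∃ χ, IsIrrCharacter H χ ∧ ∀ g k, g ^ k = x → χ g = 0 := by
    intro x hx hx1 hxA
    obtain ⟨m, hm⟩ := hPe x hx
    refine van_of_abelian N (A.comap π) hN ?_ hxA hm ?_
    · rw [commutator_le]
      intro a ha b hb
      rw [← hker, map_commutatorElement, commutatorElement_eq_one_iff_mul_comm]
      exact hAc _ ha _ hb
    · by_contra hcon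
      push Not at hcon
      exact hx1 (hPN x hx (hC x hcon))
  have hN0 : N ≠ ⊥ := by
    intro e
    have h1 : (P : Subgroup H) = ⊥ := by
      rw [eq_bot_iff]
      intro x hx
      exact hPN x hx (hC x fun n hn => by rw [e, mem_bot] at hn; simp [hn])
    have : Nat.card P = 1 := by
      change Nat.card (P : Subgroup H) = 1
      rw [h1, card_bot]
    have := hp.out.one_lt
    omega
  have NC : ∀ E : Subgroup H, E ≤ P → (∀ a ∈ E, ∀ b ∈ E, a * b = b * a) → ¬ IsCyclic E →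
      ∃ a ∈ E, a ≠ 1 ∧ ∃ y ∈ N, y ≠ 1 ∧ y * a = a * y := by
    intro E hE hc hn
    haveI : IsMulCommutative E := ⟨⟨fun a b => Subtype.ext (hc a a.2 b b.2)⟩⟩
    obtain ⟨k, hk⟩ := (P.2.to_le hE).exists_card_eq
    have := Cfsg.Agent.S0058.result E N hn le_normalizer_of_normal
      (by rw [hk]; exact Nat.Coprime.pow_left _ hN.symm)
    by_contra hcon
    push Not at hcon
    apply hN0
    rw [← this, eq_bot_iff]
    refine iSup₂_le fun a ha y hy => ?_
    by_contra hy1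
    exact hcon a ha.1 ha.2 y hy.1 hy1 (mem_centralizer_singleton_iff.1 hy.2)
  by_cases hw : ∃ w ∈ (P : Subgroup H), w ^ p ≠ 1 ∧ π (w ^ p) ∈ A
  · obtain ⟨w, hwP, h1, h2⟩ := hw
    obtain ⟨χ, hχ, hv⟩ := V0 _ (pow_mem hwP p) h1 h2
    exact Or.inr ⟨w, hPe w hwP, h1, ⟨χ, hχ, hv w p rfl⟩, ⟨χ, hχ, hv _ 1 (pow_one _)⟩⟩
  left
  push Not at hw
  have hw' : ∀ w ∈ (P : Subgroup H), π (w ^ p) ∈ A → w ^ p = 1 := fun w hwP h => by
    by_contra h1; exact hw w hwP h1 h
  have hA0 : A ≠ ⊥ := by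
    intro e
    have hn : ¬ (⊤ : Subgroup (H ⧸ N)) ≤ ⊥ := by
      intro h
      have h1 : (P : Subgroup H).map π = ⊥ := eq_bot_iff.2 (le_top.trans h)
      rw [h1, card_bot] at hcardP
      have := hp.out.one_lt
      omega
    obtain ⟨R, hR, -, hR0, hRR⟩ := exists_comm_section ⊥ ⊤ hn
    have := hmax (y := R) ⟨hR, fun a ha b hb => by
      have := hRR (commutator_mem_commutator ha hb)
      rwa [mem_bot, commutatorElement_eq_one_iff_mul_comm] at this⟩ (by rw [e]; exact bot_le)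
    rw [e] at this
    exact hR0 this
  obtain ⟨⟨z0, hz0⟩, hz1⟩ := ne_bot_iff_exists_ne_one.1 hA0
  obtain ⟨z, hzP, rfl⟩ := hlift A hAn hAp z0 hz0
  have hπz : π z ≠ 1 := fun e => hz1 (Subtype.ext e)
  have hz : z ≠ 1 := by rintro rfl; exact hπz (map_one _)
  have hVz : Vn z := by
    obtain ⟨χ, hχ, hv⟩ := V0 z hzP hz hz0
    exact ⟨χ, hχ, hv z 1 (pow_one _)⟩
  have fin : ∀ a ∈ (P : Subgroup H), a ≠ 1 → ∀ y ∈ N, y ≠ 1 → y * a = a * y →
      (π a ∈ A ∨ Vn (π a)) → ∃ z g : H, (∃ m, z ^ p ^ m = 1) ∧ z ≠ 1 ∧ Vn z ∧ Vn g ∧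
        p ∣ orderOf g ∧ ∃ q : ℕ, q.Prime ∧ q ≠ p ∧ q ∣ orderOf g := by
    intro a haP ha1 y hy hy1 hc hv
    obtain ⟨m, hm⟩ := hPe a haP
    obtain ⟨h1, h2, k, hk⟩ := mixed hm ha1 (hNe y hy) hy1 hN hc
    refine ⟨z, a * y, hPe z hzP, hz, hVz, ?_, h1, h2⟩
    rcases hv with hv | hv
    · obtain ⟨χ, hχ, hv⟩ := V0 a haP ha1 hv
      exact ⟨χ, hχ, hv _ k hk⟩
    · refine Vn.of_map π hπ ?_
      rwa [map_mul, (hker y).2 hy, mul_one]
  have hcomP : ∀ a ∈ (P : Subgroup H), ∀ b ∈ (P : Subgroup H), π a * π b = π b * π a →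
      a * b = b * a := by
    intro a ha b hb h
    rw [← commutatorElement_eq_one_iff_mul_comm]
    apply hinj _ (mul_mem (mul_mem (mul_mem ha hb) (inv_mem ha)) (inv_mem hb))
    rw [← commutatorElement_def, map_commutatorElement, commutatorElement_eq_one_iff_mul_comm, h]
  by_cases hcyc : IsCyclic ((P : Subgroup H) ⊓ A.comap π : Subgroup H)
  swap
  · obtain ⟨a, ha, ha1, y, hy, hy1, hc⟩ := NC _ inf_le_left
      (fun a ha b hb => hcomP a ha.1 b hb.1 (hAc _ ha.2 _ hb.2)) hcyc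
    exact fin a ha.1 ha1 y hy hy1 hc (Or.inl ha.2)
  have hAcard : Nat.card A = p := by
    obtain ⟨⟨g, hg⟩, hgen⟩ := hcyc.exists_generator
    have hAz : A = zpowers (π g) := by
      refine le_antisymm (fun a ha => ?_) ((zpowers_le).2 hg.2)
      obtain ⟨w, hwP, rfl⟩ := hlift A hAn hAp a ha
      obtain ⟨k, hk⟩ := hgen ⟨w, hwP, ha⟩
      refine ⟨k, ?_⟩
      have := congrArg (fun t : ((P : Subgroup H) ⊓ A.comap π : Subgroup H) => π t) hk
      simpa using this
    rw [hAz, Nat.card_zpowers]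
    refine orderOf_eq_prime ?_ ?_
    · rw [← map_pow, hw' g hg.1 (by rw [map_pow]; exact pow_mem hg.2 p), map_one]
    · intro e
      rw [e, zpowers_one_eq_bot] at hAz
      exact hA0 hAz
  have hAe : ∀ a ∈ A, a ^ p = 1 := fun a ha => by
    have := pow_card_eq_one' (x := (⟨a, ha⟩ : A))
    rw [hAcard] at this
    exact congrArg Subtype.val this
  have hnle : ¬ centralizer (A : Set (H ⧸ N)) ≤ A := by
    intro h
    have h1 : (P : Subgroup H).map π ≤ A := by
      rintro _ ⟨x, hx, rfl⟩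
      obtain ⟨m, hm⟩ := hPe x hx
      exact h (cent_of_card_prime A hAcard (m := m) (by rw [← map_pow, hm, map_one]))
    have := card_le_of_le h1
    omega
  obtain ⟨R, hRn, hRC, hRA, hRR⟩ := exists_comm_section A (centralizer (A : Set (H ⧸ N))) hnle
  have hZR : ∀ r ∈ R, (∀ s ∈ R, s * r = r * s) → r ∈ A := by
    intro r hr h
    have hle : A ⊔ R ≤ centralizer (A : Set (H ⧸ N)) := sup_le (fun a ha b hb => hAc b hb a ha) hRC
    have := hmax (y := (A ⊔ R) ⊓ centralizer ((A ⊔ R : Subgroup _) : Set (H ⧸ N)))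
      ⟨inferInstance, fun a ha b hb => hb.2 a ha.1⟩
      (le_inf le_sup_left fun a ha b hb => (hle hb a ha).symm)
    refine this ⟨mem_sup_right hr, fun b hb => ?_⟩
    have : A ⊔ R ≤ centralizer {r} := sup_le
      (fun a ha => mem_centralizer_singleton_iff.2 (hRC hr a ha))
      (fun a ha => mem_centralizer_singleton_iff.2 (h a ha))
    exact mem_centralizer_singleton_iff.1 (this hb)
  have hcA : ∀ s ∈ R, ∀ r ∈ R, s * r * s⁻¹ * r⁻¹ ∈ A := fun s hs r hr =>
    hRR (commutator_mem_commutator hs hr)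
  have hRp : ∀ r ∈ R, r ^ p ∈ A := by
    intro r hr
    refine hZR _ (pow_mem hr p) fun s hs => ?_
    have h1 := conj_pow_comm (s := r) (x := s) (c := r * s * r⁻¹ * s⁻¹) (by group)
      (hRC hr _ (hcA r hr s hs)).symm p
    rw [hAe _ (hcA r hr s hs), one_mul, mul_inv_eq_iff_eq_mul] at h1
    exact h1.symm
  have hRpg : IsPGroup p R := fun r => ⟨2, Subtype.ext (by
    rw [SubmonoidClass.coe_pow, sq, pow_mul, hAe _ (hRp r r.2)]; rfl)⟩
  obtain ⟨w0, hw0, hw0A⟩ := SetLike.not_le_iff_exists.1 hRA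
  obtain ⟨w, hwP, rfl⟩ := hlift R hRn hRpg w0 hw0
  have hwp : w ^ p = 1 := hw' w hwP (by rw [map_pow]; exact hRp _ hw0)
  have hzp : z ^ p = 1 := hw' z hzP (by rw [map_pow]; exact pow_mem hz0 p)
  have hzw : z * w = w * z := hcomP z hzP w hwP (hRC hw0 _ hz0)
  have hEP : closure {z, w} ≤ (P : Subgroup H) := by
    rw [closure_le]; rintro _ (rfl | rfl) <;> assumption
  have hEc : ∀ a ∈ closure {z, w}, ∀ b ∈ closure {z, w}, a * b = b * a := by
    have h1 : closure {z, w} ≤ centralizer ({z, w} : Set H) := by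
      rw [closure_le]
      rintro _ (rfl | rfl) _ (rfl | rfl) <;> first | rfl | exact hzw | exact hzw.symm
    intro a ha b hb
    have h2 : closure {z, w} ≤ centralizer {b} := by
      rw [closure_le]
      intro c hc
      exact mem_centralizer_singleton_iff.2 (h1 hb c hc)
    exact mem_centralizer_singleton_iff.1 (h2 ha)
  have hEA : closure {z, w} ≤ (A ⊔ R).comap π := by
    rw [closure_le]
    rintro _ (rfl | rfl)
    · exact mem_sup_left hz0
    · exact mem_sup_right hw0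
  have hEn : ¬ IsCyclic (closure {z, w} : Subgroup H) := by
    intro hc
    obtain ⟨g, hgen⟩ := hc.exists_generator
    have hzE : z ∈ closure {z, w} := subset_closure (Or.inl rfl)
    have hwE : w ∈ closure {z, w} := subset_closure (Or.inr rfl)
    have hexp : ∀ a ∈ closure {z, w}, a ^ p = 1 := by
      intro a ha
      induction ha using closure_induction with
      | mem s hs => rcases hs with rfl | rfl <;> assumption
      | one => simp
      | mul a b ha hb h1 h2 => rw [Commute.mul_pow (hEc a ha b hb), h1, h2, one_mul]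
      | inv a _ h1 => rw [inv_pow, h1, inv_one]
    have hg1 : g ≠ 1 := by
      rintro rfl
      obtain ⟨k, hk⟩ := hgen ⟨z, hzE⟩
      exact hz (by simpa using (congrArg Subtype.val hk).symm)
    have hcard : Nat.card (closure {z, w} : Subgroup H) = p := by
      rw [← orderOf_eq_card_of_forall_mem_zpowers hgen]
      exact orderOf_eq_prime (Subtype.ext (hexp g g.2)) hg1
    obtain ⟨k, hk⟩ := mem_zpowers_of_prime_card hcard (g := ⟨z, hzE⟩) (g' := ⟨w, hwE⟩)
      (fun e => hz (congrArg Subtype.val e))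
    apply hw0A
    have : z ^ k = w := by simpa using congrArg Subtype.val hk
    rw [← this, map_zpow]
    exact zpow_mem hz0 k
  obtain ⟨a, ha, ha1, y, hy, hy1, hc⟩ := NC _ hEP hEc hEn
  refine fin a (hEP ha) ha1 y hy hy1 hc ?_
  obtain ⟨b, hb, r, hr, e⟩ := mem_sup_of_normal_left.1 (hEA ha)
  by_cases hrA : r ∈ A
  · exact Or.inl (e ▸ mul_mem hb hrA)
  right
  obtain ⟨s, hs, hsr⟩ : ∃ s ∈ R, s * r ≠ r * s := by
    by_contra hcon
    push Not at hcon
    exact hrA (hZR r hr hcon)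
  have hcm := hcA s hs r hr
  set c := s * r * s⁻¹ * r⁻¹ with hcdef
  have hc1 : c ≠ 1 := by
    intro h
    rw [hcdef, mul_inv_eq_one, mul_inv_eq_iff_eq_mul] at h
    exact hsr h
  have h1 : s * π a * s⁻¹ = c * π a := by
    rw [← e]
    calc s * (b * r) * s⁻¹ = (s * b) * r * s⁻¹ := by group
      _ = b * c * r := by rw [← hRC hs b hb, hcdef]; group
      _ = _ := by rw [hAc b hb c hcm, mul_assoc]
  refine van_of_camina A hA0 fun n hn => ?_
  have h2 := mem_zpowers_of_prime_card hAcard (g := ⟨c, hcm⟩) (g' := ⟨n, hn⟩)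
    (fun e => hc1 (congrArg Subtype.val e))
  rw [← mem_powers_iff_mem_zpowers] at h2
  obtain ⟨j, hj⟩ := h2
  have hj' : c ^ j = n := congrArg Subtype.val hj
  exact isConj_iff.2 ⟨s ^ j, by rw [conj_pow_comm h1 (hRC hs c hcm).symm j, hj']⟩

theorem main {G : Type*} [Group G] [Finite G] [Group.IsSolvable G] (P : Sylow p G) :
    Nat.card ((P : Subgroup G).map (QuotientGroup.mk' (pCore p G))) ≤ p ∨
      ∃ x y : G, Vn x ∧ Vn y ∧ p ∣ orderOf x ∧ p ∣ orderOf y ∧ orderOf x ≠ orderOf y := by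
  have hρ := QuotientGroup.mk'_surjective (pCore p G)
  set ρ := QuotientGroup.mk' (pCore p G) with hρdef
  have hpe : ∀ x : G, ∀ m, ρ x ^ p ^ m = 1 → ∃ s, x ^ p ^ s = 1 := by
    intro x m h
    rw [← map_pow] at h
    obtain ⟨j, hj⟩ := H2.pCore_isPGroup (p := p) (G := G) ⟨_, (QuotientGroup.eq_one_iff _).1 h⟩
    refine ⟨m + j, ?_⟩
    rw [pow_add, pow_mul]
    exact congrArg Subtype.val hj
  have hdv : ∀ x : G ⧸ pCore p G, ∀ m, x ^ p ^ m = 1 → x ≠ 1 → p ∣ orderOf x := by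
    intro x m h h1
    obtain ⟨i, -, hi⟩ := (Nat.dvd_prime_pow hp.out).1 (orderOf_dvd_of_pow_eq_one h)
    rw [hi]
    refine dvd_pow_self p ?_
    rintro rfl
    exact h1 (orderOf_eq_one_iff.1 (by simpa using hi))
  rcases core (H2.pCore_quotient_self (p := p) (G := G)) (P.mapSurjective hρ) with
    h | ⟨z, g, ⟨m, hm⟩, hz1, hz, hg, h1, q, hq, hqp, h2⟩ | ⟨w, ⟨m, hm⟩, hw1, hw, hwp⟩
  · exact Or.inl h
  · obtain ⟨z, rfl⟩ := hρ z
    obtain ⟨g, rfl⟩ := hρ g
    refine Or.inr ⟨z, g, hz.of_map ρ hρ, hg.of_map ρ hρ,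
      (hdv _ m hm hz1).trans (orderOf_map_dvd ρ z), h1.trans (orderOf_map_dvd ρ g), fun e => ?_⟩
    obtain ⟨s, hs⟩ := hpe z m hm
    have := (h2.trans (orderOf_map_dvd ρ g)).trans (e ▸ orderOf_dvd_of_pow_eq_one hs)
    exact hqp ((Nat.prime_dvd_prime_iff_eq hq hp.out).1 (hq.dvd_of_dvd_pow this))
  · obtain ⟨w, rfl⟩ := hρ w
    have h1 : p ∣ orderOf (w ^ p) := by
      refine (hdv _ m ?_ hw1).trans ?_
      · rw [← pow_mul, mul_comm, pow_mul, hm, one_pow]
      · rw [← map_pow]; exact orderOf_map_dvd ρ _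
    have h2 : p ∣ orderOf w := h1.trans (orderOf_pow_dvd p)
    refine Or.inr ⟨w, w ^ p, hw.of_map ρ hρ, Vn.of_map ρ hρ (by rwa [map_pow]), h2, h1, fun e => ?_⟩
    obtain ⟨k, hk⟩ := h2
    have hpos : 0 < orderOf w := orderOf_pos w
    have hk0 : 0 < k := Nat.pos_of_ne_zero (by rintro rfl; rw [mul_zero] at hk; omega)
    have h3 : orderOf (w ^ p) ∣ k := by
      apply orderOf_dvd_of_pow_eq_one
      rw [← pow_mul, ← hk, pow_orderOf_eq_one]
    have h4 := Nat.le_of_dvd hk0 h3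
    have := hp.out.two_le
    nlinarith

theorem s4997 {G : Type*} [Group G] [Finite G] [Group.IsSolvable G]
    (h1 : Set.ncard {C : ConjClasses G | (∀ g ∈ C.carrier, ∃ χ : IrrCharacter G,
      (χ : G → ℂ) g = 0) ∧ ∃ g ∈ C.carrier, p ∣ orderOf g} = 1) (P : Sylow p G) :
    Nat.card ↥(P : Subgroup G) ≤ p * Nat.card ↥(pCore p G) := by
  rcases main P with h | ⟨x, y, hx, hy, h2, h3, hne⟩
  · have e1 := relIndex_ker (K := (P : Subgroup G)) (QuotientGroup.mk' (pCore p G))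
    rw [QuotientGroup.ker_mk'] at e1
    have e2 := card_mul_index ((pCore p G).subgroupOf P)
    rw [Nat.card_congr (subgroupOfEquivOfLe (H2.pCore_le_sylow P)).toEquiv] at e2
    rw [← e2, mul_comm]
    refine Nat.mul_le_mul_right _ ?_
    rw [← e1] at h
    exact h
  · exfalso
    obtain ⟨C, hC⟩ := Set.ncard_eq_one.1 h1
    have key : ∀ x : G, Vn x → p ∣ orderOf x → ConjClasses.mk x = C := by
      rintro x ⟨χ, hχ, h0⟩ hx
      rw [← Set.mem_singleton_iff, ← hC]
      refine ⟨fun g hg => ⟨⟨χ, hχ⟩, ?_⟩, x, ConjClasses.mem_carrier_mk, hx⟩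
      obtain ⟨c, rfl⟩ := isConj_iff.1 (ConjClasses.mk_eq_mk_iff_isConj.1
        (ConjClasses.mem_carrier_iff_mk_eq.1 hg).symm)
      change χ _ = 0
      rw [irr_cf hχ, h0]
    obtain ⟨c, rfl⟩ := isConj_iff.1 (ConjClasses.mk_eq_mk_iff_isConj.1
      ((key x hx h2).trans (key y hy h3).symm))
    exact hne ((MulAut.conj c).orderOf_eq x).symm

theorem s4850 {G : Type*} [Group G] [Finite G] [Group.IsSolvable G] (b : ℕ)
    (hvo : {n : ℕ | p ∣ n ∧ ∃ (g : G) (χ : IrrCharacter G), orderOf g = n ∧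
      (χ : G → ℂ) g = 0} = {b}) (P : Sylow p G) :
    ((commutator ↥(P : Subgroup G)).map (P : Subgroup G).subtype).IsSubnormal ∧
      IsCyclic ↥((P : Subgroup G).map (QuotientGroup.mk' (pCore p G))) := by
  have hc : IsCyclic ↥((P : Subgroup G).map (QuotientGroup.mk' (pCore p G))) := by
    rcases main P with h | ⟨x, y, hx, hy, h2, h3, hne⟩
    · obtain ⟨k, hk⟩ := (P.2.map (QuotientGroup.mk' (pCore p G))).exists_card_eq
      rw [hk] at h
      have hk1 : k ≤ 1 := by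
        by_contra hn
        have := Nat.pow_lt_pow_right hp.out.one_lt (show 1 < k by omega)
        rw [pow_one] at this
        omega
      interval_cases k
      · haveI := (Nat.card_eq_one_iff_unique.1 (hk.trans (pow_zero p))).1
        infer_instance
      · exact isCyclic_of_prime_card (hk.trans (pow_one p))
    · exfalso
      have key : ∀ x : G, Vn x → p ∣ orderOf x → orderOf x = b := by
        rintro x ⟨χ, hχ, h0⟩ hx
        rw [← Set.mem_singleton_iff, ← hvo]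
        exact ⟨hx, x, ⟨χ, hχ⟩, rfl, h0⟩
      exact hne ((key x hx h2).trans (key y hy h3).symm)
  refine ⟨H2.isSubnormal_of_le_pCore (p := p) ?_, hc⟩
  rw [map_subtype_commutator, commutator_le]
  intro a ha c hc'
  rw [← QuotientGroup.eq_one_iff]
  change QuotientGroup.mk' (pCore p G) _ = 1
  rw [map_commutatorElement, commutatorElement_eq_one_iff_mul_comm]
  exact congrArg Subtype.val (hc.isMulCommutative.is_comm.comm
    (⟨_, mem_map_of_mem _ ha⟩ : (P : Subgroup G).map (QuotientGroup.mk' (pCore p G)))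
    ⟨_, mem_map_of_mem _ hc'⟩)

end Cfsg.Agent.H3.Van
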